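import Cfsg.Agent.A12Type.Host
import Cfsg.Agent.Invol.SEPairs
import Mathlib.GroupTheory.Perm.Cycle.Type

/-!
Involutions of the host and the strongly embedded conclusion.
-/

set_option autoImplicit false
set_option maxRecDepth 100000

namespace Cfsg.Agent.A12Type

open Equiv

/-- The three representatives. -/
def repIdx : Fin 3 → Fin 64 := ![16, 5, 21]

/-- A transposition commuting with a representative. -/
def repSw : Fin 3 → Perm (Fin 12) := ![swap 8 9, swap 0 1, swap 0 1]

theorem rep_facts : (∀ r, (elP (repIdx r)).support.card = 4 * (r.val + 1) ∧ wA (repIdx r) = r.val + 1 ∧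
    elP (repIdx r) * elP (repIdx r) = 1 ∧
    repSw r * elP (repIdx r) * (repSw r)⁻¹ = elP (repIdx r)) ∧
    (∀ i : Fin 13, ∀ j : Fin 13, i ≠ j → ∃ a b : Fin 13, a ≠ b ∧ a ≠ i ∧ a ≠ j ∧ b ≠ i ∧ b ≠ j) := by
  decide +kernel

theorem sign_repSw (r : Fin 3) : Perm.sign (repSw r) = -1 := by
  fin_cases r <;> exact Perm.sign_swap (by decide)

theorem perm12_class (y : Perm (Fin 12)) (hy : y * y = 1) (hy1 : y ≠ 1) (hs : Perm.sign y = 1) :
    ∃ (r : Fin 3) (g : Perm (Fin 12)), Perm.sign g = 1 ∧ g * y * g⁻¹ = elP (repIdx r) := by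
  have : Fact (Nat.Prime 2) := ⟨Nat.prime_two⟩
  have ht := Perm.cycleType_of_pow_prime_eq_one (p := 2) (σ := y) (by rw [pow_two, hy])
  set k := y.cycleType.card with hk
  have hsum : y.support.card = 2 * k := by
    rw [← Perm.sum_cycleType, ht, Multiset.sum_replicate, smul_eq_mul, mul_comm]
  have h12 : y.support.card ≤ 12 := by simpa using Finset.card_le_univ y.support
  have heven : Even k := by
    have h := Perm.sign_of_cycleType' y
    rw [ht, Multiset.map_replicate, Multiset.prod_replicate, hs] at h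
    rcases Nat.even_or_odd k with he | ho
    · exact he
    · exfalso
      have h2 : (-(-1 : ℤˣ) ^ 2) ^ k = -1 := by rw [show (-(-1 : ℤˣ) ^ 2) = -1 by decide, ho.neg_one_pow]
      rw [h2] at h
      exact absurd h (by decide)
  have hk0 : k ≠ 0 := fun e => hy1 (Perm.cycleType_eq_zero.1 (by rw [ht, e]; rfl))
  obtain ⟨r, hr⟩ : ∃ r : Fin 3, k = 2 * (r.val + 1) := by
    obtain ⟨l, hl⟩ := heven
    exact ⟨⟨l - 1, by omega⟩, by simp; omega⟩
  have htr := Perm.cycleType_of_pow_prime_eq_one (p := 2) (σ := elP (repIdx r))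
    (by rw [pow_two, (rep_facts.1 r).2.2.1])
  have hkr : (elP (repIdx r)).cycleType.card = k := by
    have h := Perm.sum_cycleType (elP (repIdx r))
    rw [htr, Multiset.sum_replicate, smul_eq_mul, (rep_facts.1 r).1] at h
    omega
  rw [hkr] at htr
  obtain ⟨g, hg⟩ := isConj_iff.1 (Perm.isConj_iff_cycleType_eq.2 (ht.trans htr.symm))
  rcases Int.units_eq_one_or (Perm.sign g) with h | h
  · exact ⟨r, g, h, hg⟩
  · refine ⟨r, repSw r * g, by rw [map_mul, sign_repSw, h]; decide, ?_⟩
    calc repSw r * g * y * (repSw r * g)⁻¹ = repSw r * (g * y * g⁻¹) * (repSw r)⁻¹ := by group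
      _ = _ := by rw [hg]; exact (rep_facts.1 r).2.2.2

theorem exists_ext13 {q : Perm (Fin 13)} (hq : q (Fin.last 12) = Fin.last 12) :
    ∃ y : Perm (Fin 12), ext13 y = q := by
  have hlt : ∀ i : Fin 12, (q i.castSucc).val < 12 := fun i => by
    by_contra h
    have e : q i.castSucc = Fin.last 12 := Fin.ext (by simp; omega)
    exact (Fin.castSucc_ne_last i) (q.injective (e.trans hq.symm))
  let f : Fin 12 → Fin 12 := fun i => ⟨(q i.castSucc).val, hlt i⟩
  have hf : Function.Injective f := fun a b e => Fin.castSucc_injective _ (q.injective (Fin.ext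
    (by simpa [f] using congrArg Fin.val e)))
  refine ⟨Equiv.ofBijective f (Finite.injective_iff_bijective.1 hf), Equiv.ext fun i => ?_⟩
  rcases i.eq_castSucc_or_eq_last with ⟨i, rfl⟩ | rfl
  · rw [ext13_castSucc]; rfl
  · rw [ext13_last, hq]

/-- An involution of the host is conjugate in it to one of the three representatives. -/
theorem hostK_class (big : Bool) (p : hostK big) (hp : p * p = 1) (hp1 : p ≠ 1) :
    ∃ (r : Fin 3) (g : hostK big), g * p * g⁻¹ = extC big (el (repIdx r)) := by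
  classical
  obtain ⟨q, hsq, hq⟩ := p
  have hqq : q * q = 1 := congrArg Subtype.val hp
  -- move a fixed point to the last place
  obtain ⟨m, hm, hmf⟩ : ∃ m : hostK big, Perm.sign (m : Perm (Fin 13)) = 1 ∧
      ((m : Perm (Fin 13)) * q * (m : Perm (Fin 13))⁻¹) (Fin.last 12) = Fin.last 12 := by
    cases hbig : big
    · exact ⟨1, map_one _, by simpa [hbig] using hq hbig⟩
    · obtain ⟨i, hi⟩ : ∃ i, q i = i := by
        by_contra hne
        have hsupp : q.support = Finset.univ := Finset.eq_univ_iff_forall.2 fun i =>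
          Perm.mem_support.2 fun e => hne ⟨i, e⟩
        have : Fact (Nat.Prime 2) := ⟨Nat.prime_two⟩
        have ht := Perm.cycleType_of_pow_prime_eq_one (p := 2) (σ := q) (by rw [pow_two, hqq])
        have h13 := Perm.sum_cycleType q
        rw [ht, Multiset.sum_replicate, smul_eq_mul, hsupp, Finset.card_univ, Fintype.card_fin] at h13
        omega
      by_cases hi' : i = Fin.last 12
      · exact ⟨1, map_one _, by simpa [← hi'] using hi⟩
      obtain ⟨a, b, hab, hai, haj, hbi, hbj⟩ := rep_facts.2 i (Fin.last 12) hi'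
      refine ⟨⟨swap i (Fin.last 12) * swap a b, by rw [map_mul, Perm.sign_swap hi', Perm.sign_swap hab]; decide,
        fun h => absurd h (by simp)⟩, by
          show Perm.sign (swap i (Fin.last 12) * swap a b) = 1
          rw [map_mul, Perm.sign_swap hi', Perm.sign_swap hab]; decide, ?_⟩
      have e : (swap i (Fin.last 12) * swap a b)⁻¹ (Fin.last 12) = i := by
        rw [Perm.inv_eq_iff_eq, Perm.mul_apply, swap_apply_of_ne_of_ne hai.symm hbi.symm, swap_apply_left]
      show (swap i (Fin.last 12) * swap a b) (q ((swap i (Fin.last 12) * swap a b)⁻¹ (Fin.last 12))) = _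
      rw [e, hi, Perm.mul_apply, swap_apply_of_ne_of_ne hai.symm hbi.symm, swap_apply_left]
  obtain ⟨y, hy⟩ := exists_ext13 hmf
  have hsy : Perm.sign y = 1 := by
    rw [← sign_ext13, hy, map_mul, map_mul, map_inv, hm, hsq]; decide
  have hyy : y * y = 1 := ext13_inj (by
    rw [map_mul, hy, map_one]
    calc _ = (m : Perm (Fin 13)) * (q * q) * (m : Perm (Fin 13))⁻¹ := by group
      _ = 1 := by rw [hqq]; group)
  have hy1 : y ≠ 1 := fun e => hp1 (Subtype.ext (by
    rw [e, map_one] at hy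
    show q = 1
    calc q = (m : Perm (Fin 13))⁻¹ * ((m : Perm (Fin 13)) * q * (m : Perm (Fin 13))⁻¹) * m := by group
      _ = 1 := by rw [← hy]; group))
  obtain ⟨r, g, hg, hgy⟩ := perm12_class y hyy hy1 hsy
  refine ⟨r, ⟨ext13 g, by rw [sign_ext13, hg], fun _ => ext13_last g⟩ * m, Subtype.ext ?_⟩
  show ext13 g * (m : Perm (Fin 13)) * q * (ext13 g * (m : Perm (Fin 13)))⁻¹ = ext13 (elP (repIdx r))
  rw [← hgy, map_mul, map_mul, map_inv, hy]
  group

namespace Setup

variable {G : Type*} [Group G] [Finite G] {B : Setup G} (H : B.Host)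

open Subgroup

theorem Host.φ_el (i : Fin 64) : H.φ (extC H.big (el i)) = B.j i := H.agree _

theorem Host.range_f : B.f.range ≤ H.φ.range := by
  rintro _ ⟨x, rfl⟩; exact ⟨_, H.agree x⟩

theorem Host.cent_a : centralizer ({B.a} : Set G) ≤ H.φ.range := by
  intro x hx
  exact H.range_f (by rw [B.range_eq]; exact hx)

theorem Host.exists_rep {x : G} (hx : x ∈ H.φ.range) (ho : orderOf x = 2) :
    ∃ (r : Fin 3) (g : G), g ∈ H.φ.range ∧ g * x * g⁻¹ = B.j (repIdx r) := by
  obtain ⟨p, rfl⟩ := hx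
  obtain ⟨h1, h2⟩ := Invol.orderOf_eq_two_iff.1 ho
  obtain ⟨r, g, hg⟩ := hostK_class H.big p (H.inj (by rw [map_mul, map_one]; exact h2))
    (fun e => h1 (by rw [e, map_one]))
  refine ⟨r, H.φ g, ⟨g, rfl⟩, ?_⟩
  rw [← H.φ_el, ← hg, map_mul, map_mul, map_inv]

/-- Fusion in the host is fusion in the group. -/
theorem Host.conj_in (h : B.PatA) {x y : G} (hx : x ∈ H.φ.range) (hy : y ∈ H.φ.range)
    (ho : orderOf x = 2) (hc : IsConj x y) : ∃ l ∈ H.φ.range, l * x * l⁻¹ = y := by
  obtain ⟨r, g, hg, e⟩ := H.exists_rep hx ho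
  obtain ⟨r', g', hg', e'⟩ := H.exists_rep hy (Invol.orderOf_eq_two_of_isConj hc ho)
  have hne : ∀ r, repIdx r ≠ 0 := by decide
  have hw := (h _ _ (hne r) (hne r')).1 (((isConj_iff.2 ⟨g, e⟩).symm.trans hc).trans (isConj_iff.2 ⟨g', e'⟩))
  rw [(rep_facts.1 r).2.1, (rep_facts.1 r').2.1] at hw
  obtain rfl : r = r' := Fin.ext (by omega)
  refine ⟨g'⁻¹ * g, mul_mem (inv_mem hg') hg, ?_⟩
  calc g'⁻¹ * g * x * (g'⁻¹ * g)⁻¹ = g'⁻¹ * (g * x * g⁻¹) * g' := by group
    _ = g'⁻¹ * (g' * y * g'⁻¹) * g' := by rw [e, e']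
    _ = y := by group

/-- An element of the host conjugate to one with centralizer in the host has it as well. -/
theorem Host.cent_of_conj (h : B.PatA) {x y : G} (hy : centralizer ({y} : Set G) ≤ H.φ.range)
    (hyL : y ∈ H.φ.range) (hxL : x ∈ H.φ.range) (ho : orderOf y = 2) (hc : IsConj y x) :
    centralizer ({x} : Set G) ≤ H.φ.range := by
  obtain ⟨l, hl, e⟩ := H.conj_in h hyL hxL ho hc
  intro g hg
  have : l⁻¹ * g * l ∈ centralizer ({y} : Set G) := by
    refine mem_centralizer_singleton_iff.2 ?_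
    have hg' := mem_centralizer_singleton_iff.1 hg
    rw [← e] at hg'
    calc l⁻¹ * g * l * y = l⁻¹ * (g * (l * y * l⁻¹)) * l := by group
      _ = l⁻¹ * ((l * y * l⁻¹) * g) * l := by rw [hg']
      _ = y * (l⁻¹ * g * l) := by group
  have h1 := mul_mem (mul_mem hl (hy this)) (inv_mem hl)
  rwa [show l * (l⁻¹ * g * l) * l⁻¹ = g by group] at h1

/-- A conjugate inside of an element with centralizer inside comes from an element inside. -/
theorem Host.mem_of_conj (h : B.PatA) {x g : G} (hx : centralizer ({x} : Set G) ≤ H.φ.range)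
    (hxL : x ∈ H.φ.range) (ho : orderOf x = 2) (hg : g * x * g⁻¹ ∈ H.φ.range) : g ∈ H.φ.range := by
  obtain ⟨l, hl, e⟩ := H.conj_in h hxL hg ho (isConj_iff.2 ⟨g, rfl⟩)
  have : l⁻¹ * g ∈ centralizer ({x} : Set G) := by
    refine mem_centralizer_singleton_iff.2 ?_
    calc l⁻¹ * g * x = l⁻¹ * (g * x * g⁻¹) * g := by group
      _ = l⁻¹ * (l * x * l⁻¹) * g := by rw [e]
      _ = x * (l⁻¹ * g) := by group
  have := mul_mem hl (hx this)
  rwa [mul_inv_cancel_left] at this

/-- The host is the whole group once it contains the centralizers of its involutions. -/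
theorem Host.range_eq_top (h : B.PatA) (h2 : centralizer ({B.j 16} : Set G) ≤ H.φ.range)
    (h4 : centralizer ({B.j 5} : Set G) ≤ H.φ.range) : H.φ.range = ⊤ := by
  by_contra hne
  have : Fact (Nat.Prime 2) := ⟨Nat.prime_two⟩
  have hin : ∀ i, B.j i ∈ H.φ.range := fun i => ⟨_, H.φ_el i⟩
  have hcent : ∀ x ∈ H.φ.range, orderOf x = 2 → centralizer ({x} : Set G) ≤ H.φ.range := by
    intro x hx ho
    obtain ⟨r, g, hg, e⟩ := H.exists_rep hx ho
    have hr : centralizer ({B.j (repIdx r)} : Set G) ≤ H.φ.range := by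
      fin_cases r
      · exact h2
      · exact h4
      · show centralizer ({B.j 21} : Set G) ≤ _
        rw [B.j_tc]; exact H.cent_a
    exact H.cent_of_conj h hr (hin _) hx (B.orderOf_j ((by decide : ∀ r, repIdx r ≠ 0) r))
      (isConj_iff.2 ⟨g, e⟩).symm
  have hSE : Cfsg.IsStronglyEmbedded H.φ.range := by
    refine ⟨hne, ?_, fun g hg => ?_⟩
    · rw [even_iff_two_dvd]
      have := orderOf_dvd_natCard (⟨B.j 21, hin 21⟩ : H.φ.range)
      rwa [Subgroup.orderOf_mk, B.orderOf_j (by decide)] at this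
    · rw [← Nat.not_even_iff_odd, even_iff_two_dvd]
      intro h2'
      obtain ⟨⟨t, htm⟩, ht⟩ := exists_prime_orderOf_dvd_card' 2 h2'
      rw [Subgroup.orderOf_mk] at ht
      obtain ⟨ht1, ht2⟩ := htm
      obtain ⟨u, hu, e⟩ := ht2
      change g * u * g⁻¹ = t at e
      have hou : orderOf u = 2 := by
        rw [← Invol.orderOf_conj g u, e]; exact ht
      exact hg (H.mem_of_conj h (hcent u hu hou) hu hou (by rw [e]; exact ht1))
  have := (h 16 21 (by decide) (by decide)).1
    (Invol.se_isConj_all hSE (B.orderOf_j (by decide)) (B.orderOf_j (by decide)))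
  exact absurd this (by decide)

end Setup

end Cfsg.Agent.A12Type
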