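import Cfsg.Agent.A12Type.BuildComm
import Cfsg.Agent.A12Type.HostFacts
import Cfsg.Agent.LyLocal.AltCover

/-!
The alternating group of degree twelve or thirteen generated by the alternating factor and its
conjugate by the exchange of two blocks.
-/

set_option autoImplicit false
set_option maxRecDepth 100000

namespace Cfsg.Agent.A12Type

open Equiv Subgroup Cfsg.Agent.AltMult Cfsg.Agent.ShortPres Cfsg.Agent.LyLocal

theorem via_swap {a b : ℕ} (e : Fin a ↪ Fin b) (x y : Fin a) :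
    Perm.viaEmbeddingHom e (swap x y) = swap (e x) (e y) := by
  refine Equiv.ext fun i => ?_
  by_cases hi : i ∈ Set.range e
  · obtain ⟨j, rfl⟩ := hi
    rw [e.injective.swap_apply]
    exact Perm.viaEmbedding_apply _ e j
  · rw [swap_apply_of_ne_of_ne (fun h => hi ⟨x, h.symm⟩) (fun h => hi ⟨y, h.symm⟩)]
    exact Perm.viaEmbedding_apply_of_notMem _ e i hi

theorem via_sign {a b : ℕ} (e : Fin a ↪ Fin b) (p : Perm (Fin a)) :
    Perm.sign (Perm.viaEmbeddingHom e p) = Perm.sign p := by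
  classical
  convert Perm.sign_extendDomain p (Equiv.ofInjective _ e.injective) using 2
  show Perm.viaEmbedding p e = _
  unfold Perm.viaEmbedding
  congr!

/-- An embedding of points on alternating groups. -/
noncomputable def altVia {a b : ℕ} (e : Fin a ↪ Fin b) :
    alternatingGroup (Fin a) →* alternatingGroup (Fin b) :=
  ((Perm.viaEmbeddingHom e).comp (alternatingGroup (Fin a)).subtype).codRestrict _ fun q => by
    show Perm.viaEmbeddingHom e (q : Perm (Fin a)) ∈ _
    rw [Perm.mem_alternatingGroup, via_sign]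
    exact Perm.mem_alternatingGroup.1 q.2

theorem altVia_apply {a b : ℕ} (e : Fin a ↪ Fin b) (q : alternatingGroup (Fin a)) (j : Fin a) :
    (altVia e q : Perm (Fin b)) (e j) = e ((q : Perm (Fin a)) j) :=
  Perm.viaEmbedding_apply _ e j

theorem altVia_fix {a b : ℕ} (e : Fin a ↪ Fin b) (q : alternatingGroup (Fin a)) (i : Fin b)
    (hi : ∀ j, e j ≠ i) : (altVia e q : Perm (Fin b)) i = i :=
  Perm.viaEmbedding_apply_of_notMem _ e i fun ⟨j, hj⟩ => hi j hj

/-- The first point. -/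
def z0 {n : ℕ} (h : 8 ≤ n) : Fin n := ⟨0, by omega⟩

/-- The second point. -/
def z1 {n : ℕ} (h : 8 ≤ n) : Fin n := ⟨1, by omega⟩

theorem z_ne {n : ℕ} (h : 8 ≤ n) : z0 h ≠ z1 h := by simp [z0, z1]

theorem le_add4 {m : ℕ} (h : 8 ≤ m) : 8 ≤ m + 4 := by omega

/-- The points of the smaller set in the larger one. -/
def embP (m : ℕ) : Fin m ↪ Fin (m + 4) where
  toFun i := if h : i.val < 8 then ⟨i.val, by omega⟩ else ⟨i.val + 4, by omega⟩
  inj' i j e := by
    dsimp only at e
    split at e <;> split at e <;> simp [Fin.ext_iff] at e <;> exact Fin.ext (by omega)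

/-- The centralizer in the alternating group on the larger set. -/
noncomputable def up12 {m : ℕ} (h : 8 ≤ m) : C12 →* alternatingGroup (Fin (m + 4)) :=
  ((Perm.viaEmbeddingHom (Fin.castLEEmb (show 12 ≤ m + 4 by omega))).comp C12.subtype).codRestrict _
    fun x => by
      show Perm.viaEmbeddingHom _ (x : Perm (Fin 12)) ∈ _
      rw [Perm.mem_alternatingGroup, via_sign]
      exact Perm.mem_alternatingGroup.1 (Subgroup.mem_inf.1 x.2).1

theorem up12_lt {m : ℕ} (h : 8 ≤ m) (x : C12) {i : Fin (m + 4)} (hi : i.val < 12) :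
    ((up12 h x : Perm (Fin (m + 4))) i).val = ((x : Perm (Fin 12)) ⟨i.val, hi⟩).val :=
  congrArg Fin.val (Perm.viaEmbedding_apply (x : Perm (Fin 12)) (Fin.castLEEmb _) ⟨i.val, hi⟩)

theorem up12_ge {m : ℕ} (h : 8 ≤ m) (x : C12) {i : Fin (m + 4)} (hi : 12 ≤ i.val) :
    (up12 h x : Perm (Fin (m + 4))) i = i := by
  refine Perm.viaEmbedding_apply_of_notMem (x : Perm (Fin 12)) (Fin.castLEEmb _) i ?_
  rintro ⟨j, rfl⟩
  exact absurd hi (not_le.2 j.isLt)

theorem n_values : ∀ i : Fin 12, (gP 0 i).val =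
    if 4 ≤ i.val ∧ i.val < 8 then i.val + 4 else if 8 ≤ i.val then i.val - 4 else i.val := by
  decide +kernel

theorem build_facts :
    (∀ i, (gP 2 * gP 3) i = (gP 3 * gP 2) i) ∧
    (∀ i, ((c8 4 * c8 6) * (c8 4 * c8 6) : Perm (Fin 8)) i = i) ∧
    (∀ i, (w8 1 2 * c8 4 * w8 1 2 : Perm (Fin 8)) i = (c8 6 : Perm (Fin 8)) i) ∧
    (∀ i, (q8 * q8 : Perm (Fin 8)) i = i) ∧
    (∀ i, (actP 2 * gP 0 * (actP 2 * gP 0) * (actP 2 * gP 0)) i = i) ∧
    (∀ i, actP 3 i = gP 0 i) ∧
    (∀ i : Fin 12, 8 ≤ i.val → elP 1 i = i ∧ elP 2 i = i ∧ elP 4 i = i ∧ elP 8 i = i ∧ gP 3 i = i ∧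
      actP 0 i = i ∧ actP 2 i = i) ∧
    (∀ i, (gP 0 * elP 4 * gP 0) i = elP 16 i) ∧ (∀ i, (gP 0 * elP 8 * gP 0) i = elP 32 i) := by
  decide +kernel

theorem mem_stepP (R : Fin 12 × Fin 12 → Prop) :
    ∀ gs : List (Perm (Fin 12)), (∀ g ∈ gs, ∀ p, R p → R (g p.1, g p.2)) →
      ∀ P : List (Fin 12 × Fin 12), (∀ p ∈ P, R p) → ∀ p ∈ stepP gs P, R p
  | [], _, P, hP, p, hp => hP p hp
  | g :: gs, hg, P, hP, p, hp => by
    refine mem_stepP R gs (fun g' hg' => hg g' (List.mem_cons_of_mem _ hg')) _ ?_ p hp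
    intro p' hp'
    rw [List.mem_union_iff, List.mem_map] at hp'
    rcases hp' with h | ⟨q, hq, rfl⟩
    · exact hP _ h
    · exact hg g (List.mem_cons_self ..) _ (hP _ hq)

theorem conj_pair {G : Type*} [Group G] {v w Y : G} (hv : Commute v Y) (hvw : Commute v w) (hw : w * w = 1) :
    v * w * Y * (v * w)⁻¹ = w * Y * w := by
  have hi : w⁻¹ = w := inv_eq_of_mul_eq_one_right hw
  calc v * w * Y * (v * w)⁻¹ = w * (v * Y * v⁻¹) * w⁻¹ := by rw [hvw.eq]; group
    _ = w * Y * w := by rw [hv.eq, mul_inv_cancel_right, hi]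

namespace Setup

variable {G : Type*} [Group G] [Finite G] {B : Setup G} {m : ℕ}
  {th : alternatingGroup (Fin m) →* G}

/-- The image of a Carmichael generator. -/
def TH (N : B.ND m th) (y : Rest (z0 N.le8) (z1 N.le8)) : G := th (cycR (z_ne N.le8) y)

theorem ND.TH_c8 (N : B.ND m th) (y : Rest (z0 N.le8) (z1 N.le8)) (x : Fin 8) (e : y.1.val = x.val) :
    TH N y = th (up8 N.le8 (c8 x)) := by
  refine congrArg th (Subtype.ext ?_)
  have hx : (0 : Fin 8) ≠ x := fun h => y.2.1 (Fin.ext (by rw [e, ← h]; rfl))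
  rw [up8_coe, c8, dif_pos hx]
  show cyc _ _ _ = ext8 _ (cyc 0 1 x)
  rw [ext8_cyc]
  congr 1 <;> exact Fin.ext (by simp [z0, z1, e])

theorem ND.TH_sq (N : B.ND m th) (y z : Rest (z0 N.le8) (z1 N.le8)) (h : y ≠ z) :
    (TH N y * TH N z) ^ 2 = 1 := by
  rw [TH, TH, ← map_mul, ← map_pow, cycR_sq _ y z h, map_one]

theorem ND.TH_comm (N : B.ND m th) (y : Rest (z0 N.le8) (z1 N.le8))
    (hy : y.1.val < 4 ∨ 8 ≤ y.1.val) : Commute (TH N y) (B.f (gC 0)) := by
  have h0 : y.1.val ≠ 0 := fun h => y.2.1 (Fin.ext h)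
  have h1 : y.1.val ≠ 1 := fun h => y.2.2 (Fin.ext h)
  rcases hy with hy | hy
  · rcases (by omega : y.1.val = 2 ∨ y.1.val = 3) with h | h
    · rw [N.TH_c8 y 2 h]; exact N.commute_stage1 (N.cyc_th (Or.inl rfl)) 0
    · rw [N.TH_c8 y 3 h]; exact N.commute_stage1 (N.cyc_th (Or.inr rfl)) 0
  · have hm : m = 9 := by have := y.1.isLt; have := N.le9; omega
    subst hm
    have : TH N y = th (cycA 0 1 8 (by decide) (by decide)) := by
      refine congrArg th (Subtype.ext ?_)
      show cyc _ _ _ = cyc 0 1 8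
      rw [show (y.1 : Fin 9) = 8 from Fin.ext (by have := y.1.isLt; simp; omega)]
      congr 1
    rw [this]; exact N.commute_nine

/-- The relation between the two halves. -/
theorem ND.base_rel (N : B.ND m th) (a b : Fin 4) :
    (th (up8 N.le8 (c8 ⟨4 + a.val, by omega⟩)) *
      (B.f (gC 0) * th (up8 N.le8 (c8 ⟨4 + b.val, by omega⟩)) * (B.f (gC 0))⁻¹)) ^ 2 = 1 := by
  set n := B.f (gC 0) with hn
  set t := fun q => th (up8 N.le8 q) with ht
  have ht1 : ∀ q, th (up8 N.le8 q) = t q := fun _ => rfl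
  simp only [ht1]
  have tmul : ∀ p q, t (p * q) = t p * t q := fun p q => by simp [t]
  set X := t (c8 4) with hX
  set Y := n * X * n⁻¹ with hY
  set v := B.j (blk 1 a) with hv
  set w := B.j (blk 2 b) with hw
  have blk1 : ∀ k, t (w8 1 k) = B.j (blk 1 k) := fun k => N.th_blk 1 k
  have hshift : ∀ k : Fin 4, t (c8 ⟨4 + k.val, by omega⟩) = B.j (blk 1 k) * X * B.j (blk 1 k) := by
    intro k
    rw [← blk1, hX, ← tmul, ← tmul]
    exact congrArg t (Subtype.ext (Equiv.ext (cyc8_facts.2.1 k))).symm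
  have hswap : ∀ k, n * B.j (blk 1 k) * n⁻¹ = B.j (blk 2 k) := fun k => by
    rw [f_gC_inv, hn, j, j, ← map_mul, ← map_mul]
    exact congrArg B.f (Subtype.ext (Equiv.ext (stage_facts.2.2.2.2.2.1 k)))
  have hwX : Commute w X := (B.comm_blk (N.le ⟨_, rfl⟩) b).symm
  have hvY : Commute v Y := by
    have h2 : n * B.j (blk 2 a) * n⁻¹ = v := by
      rw [← hswap a, f_gC_inv]
      calc n * (n * B.j (blk 1 a) * n) * n = (n * n) * B.j (blk 1 a) * (n * n) := by group
        _ = v := by rw [f_gC_sq, one_mul, mul_one]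
    rw [← h2]
    exact (Commute.conj_iff n).2 (B.comm_blk (N.le ⟨_, rfl⟩) a).symm
  have hvw : Commute v w := B.j_comm _ _
  have hvv : v * v = 1 := B.j_mul_self _
  have hww : w * w = 1 := B.j_mul_self _
  have e1 : t (c8 ⟨4 + a.val, by omega⟩) = v * w * X * (v * w)⁻¹ := by
    rw [hvw.eq, conj_pair hwX hvw.symm hvv]
    exact hshift a
  have e2 : n * t (c8 ⟨4 + b.val, by omega⟩) * n⁻¹ = v * w * Y * (v * w)⁻¹ := by
    rw [conj_pair hvY hvw hww, hshift b, hY, hw, ← hswap b]
    group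
  -- one relation is left
  have hXY : (X * Y) ^ 2 = 1 := by
    set s := B.f (gC 2) with hs
    set e8 := B.j (blk 1 2) with he8
    set W := B.f (el (blk 1 2) * gC 2 * gC 0) with hW
    set C2 := t (c8 2) with hC2
    set Q := B.f (gC 3) with hQ
    have hXQ : X = Q * C2 * Q := by
      rw [hQ, hC2, hX, ← N.th_eq (gC 3) q8 dom8_facts.2.2.2.2.2.1, ht1, ← tmul, ← tmul]
      exact congrArg t (Subtype.ext (Equiv.ext cyc8_facts.2.2.1)).symm
    have hc := N.cyc_th (x := 2) (Or.inl rfl)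
    have hs2 : Commute C2 s := N.commute_stage2 hc
    have hn2 : Commute C2 n := N.commute_stage1 hc 0
    have hW2 : Commute C2 W := by
      rw [hW, map_mul, map_mul]
      exact ((hc.v12 1 2 (by decide)).mul_right hs2).mul_right hn2
    have hsQ : Commute Q s := by
      refine Commute.map ?_ B.f
      exact Subtype.ext (Equiv.ext fun i => (build_facts.1 i).symm)
    have hWQ : Commute Q W := by
      refine Commute.map ?_ B.f
      exact Subtype.ext (Equiv.ext fun i => (stage_facts.2.2.2.2.2.2.1 i).symm)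
    have hsX : Commute s X := by
      rw [hXQ]; exact (hsQ.symm.mul_right hs2.symm).mul_right hsQ.symm
    have hWX : Commute W X := by
      rw [hXQ]; exact (hWQ.symm.mul_right hW2.symm).mul_right hWQ.symm
    have hsn : s * n = e8 * W := by
      rw [hW, map_mul, map_mul, ← mul_assoc, ← mul_assoc, he8, show B.f (el (blk 1 2)) = B.j (blk 1 2) from rfl,
        j_mul_self, one_mul]
    have h6 : s * Y * s⁻¹ = t (c8 6) := by
      calc s * Y * s⁻¹ = (s * n) * X * (s * n)⁻¹ := by rw [hY]; group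
        _ = e8 * (W * X * W⁻¹) * e8⁻¹ := by rw [hsn]; group
        _ = e8 * X * e8 := by
            rw [hWX.eq, mul_inv_cancel_right, inv_eq_of_mul_eq_one_right (B.j_mul_self _)]
        _ = t (c8 6) := by
            rw [he8, ← blk1, hX, ← tmul, ← tmul]
            exact congrArg t (Subtype.ext (Equiv.ext build_facts.2.2.1))
    have h7 : s * (X * Y) * s⁻¹ = t (c8 4 * c8 6) := by
      rw [tmul, ← h6, ← hX]
      calc s * (X * Y) * s⁻¹ = (s * X) * (Y * s⁻¹) := by group
        _ = (X * s) * (Y * s⁻¹) := by rw [hsX.eq]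
        _ = _ := by group
    have h8 : (s * (X * Y) * s⁻¹) ^ 2 = 1 := by
      rw [h7, pow_two, ← tmul, show (c8 4 * c8 6) * (c8 4 * c8 6) = 1 from
        Subtype.ext (Equiv.ext build_facts.2.1)]
      simp [t]
    rw [conj_pow] at h8
    calc (X * Y) ^ 2 = s⁻¹ * (s * (X * Y) ^ 2 * s⁻¹) * s := by group
      _ = 1 := by rw [h8]; group
  rw [e1, e2, show v * w * X * (v * w)⁻¹ * (v * w * Y * (v * w)⁻¹) = v * w * (X * Y) * (v * w)⁻¹ by group,
    conj_pow, hXY, mul_one, mul_inv_cancel]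

theorem ptR_aux (h : 8 ≤ m) (x : Rest (z0 (le_add4 h)) (z1 (le_add4 h))) :
    2 ≤ x.1.val := by
  have h0 : x.1.val ≠ 0 := fun e => x.2.1 (Fin.ext e)
  have h1 : x.1.val ≠ 1 := fun e => x.2.2 (Fin.ext e)
  omega

/-- The point of the smaller set below a point of the larger. -/
def ptR (h : 8 ≤ m) (x : Rest (z0 (le_add4 h)) (z1 (le_add4 h))) : Rest (z0 h) (z1 h) :=
  ⟨⟨if x.1.val < 8 then x.1.val else x.1.val - 4, by have := x.1.isLt; split <;> omega⟩, by
    have := ptR_aux h x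
    constructor <;>
    · intro e
      have e' := congrArg Fin.val e
      simp only [z0, z1] at e'
      split at e' <;> omega⟩

theorem ptR_val (h : 8 ≤ m) (x : Rest (z0 (le_add4 h)) (z1 (le_add4 h))) :
    (ptR h x).1.val = if x.1.val < 8 then x.1.val else x.1.val - 4 := rfl

/-- The image of a generator of the larger group. -/
def EH (N : B.ND m th) (x : Rest (z0 (le_add4 N.le8)) (z1 (le_add4 N.le8))) : G :=
  if 8 ≤ x.1.val ∧ x.1.val < 12 then B.f (gC 0) * TH N (ptR N.le8 x) * (B.f (gC 0))⁻¹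
  else TH N (ptR N.le8 x)

theorem ND.EH_cube (N : B.ND m th) (x : Rest (z0 (le_add4 N.le8)) (z1 (le_add4 N.le8))) :
    EH N x ^ 3 = 1 := by
  have : TH N (ptR N.le8 x) ^ 3 = 1 := by rw [TH, ← map_pow, cycR_pow_three, map_one]
  unfold EH
  split
  · rw [conj_pow, this, mul_one, mul_inv_cancel]
  · exact this

theorem ND.EH_sq (N : B.ND m th) (x y : Rest (z0 (le_add4 N.le8)) (z1 (le_add4 N.le8))) (hxy : x ≠ y) :
    (EH N x * EH N y) ^ 2 = 1 := by
  have hne : x.1.val ≠ y.1.val := fun e => hxy (Subtype.ext (Fin.ext e))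
  have hx2 := ptR_aux N.le8 x
  have hy2 := ptR_aux N.le8 y
  have hpt : ∀ x y : Rest (z0 (le_add4 N.le8)) (z1 (le_add4 N.le8)),
      (if x.1.val < 8 then x.1.val else x.1.val - 4) ≠ (if y.1.val < 8 then y.1.val else y.1.val - 4) →
        ptR N.le8 x ≠ ptR N.le8 y := fun x y h e => h (by rw [← ptR_val, ← ptR_val, e])
  have mixed : ∀ x y : Rest (z0 (le_add4 N.le8)) (z1 (le_add4 N.le8)),
      ¬(8 ≤ x.1.val ∧ x.1.val < 12) → (8 ≤ y.1.val ∧ y.1.val < 12) → (EH N x * EH N y) ^ 2 = 1 := by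
    intro x y hx hy
    rw [EH, if_neg hx, EH, if_pos hy]
    by_cases hx4 : 4 ≤ x.1.val ∧ x.1.val < 8
    · have e1 := N.TH_c8 (ptR N.le8 x) ⟨4 + (x.1.val - 4), by omega⟩ (by
        rw [ptR_val, if_pos hx4.2]; show _ = 4 + (x.1.val - 4); omega)
      have e2 := N.TH_c8 (ptR N.le8 y) ⟨4 + (y.1.val - 8), by omega⟩ (by
        rw [ptR_val, if_neg (by omega)]; show _ = 4 + (y.1.val - 8); omega)
      rw [e1, e2]
      exact N.base_rel ⟨x.1.val - 4, by omega⟩ ⟨y.1.val - 8, by omega⟩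
    · have := ptR_aux N.le8 x
      have hc := N.TH_comm (ptR N.le8 x) (by rw [ptR_val]; split <;> omega)
      have hne : ptR N.le8 x ≠ ptR N.le8 y := hpt x y (by split <;> split <;> omega)
      calc (TH N (ptR N.le8 x) * (B.f (gC 0) * TH N (ptR N.le8 y) * (B.f (gC 0))⁻¹)) ^ 2
          = (B.f (gC 0) * (TH N (ptR N.le8 x) * TH N (ptR N.le8 y)) * (B.f (gC 0))⁻¹) ^ 2 := by
            rw [← mul_assoc, ← mul_assoc, hc.eq]; group
        _ = 1 := by rw [conj_pow, N.TH_sq _ _ hne, mul_one, mul_inv_cancel]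
  by_cases hx : 8 ≤ x.1.val ∧ x.1.val < 12 <;> by_cases hy : 8 ≤ y.1.val ∧ y.1.val < 12
  · have := hpt x y (by rw [if_neg (by omega), if_neg (by omega)]; omega)
    rw [EH, if_pos hx, EH, if_pos hy, show ∀ a b c : G, a * b * a⁻¹ * (a * c * a⁻¹) = a * (b * c) * a⁻¹
      from fun a b c => by group, conj_pow, N.TH_sq _ _ this, mul_one, mul_inv_cancel]
  · exact sq_flip (mixed y x hy hx)
  · exact mixed x y hx hy
  · have := hpt x y (by split <;> split <;> omega)
    rw [EH, if_neg hx, EH, if_neg hy, N.TH_sq _ _ this]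

theorem ND.exists_hom (N : B.ND m th) :
    ∃ φ : alternatingGroup (Fin (m + 4)) →* G,
      ∀ x, φ (cycR (z_ne (le_add4 N.le8)) x) = EH N x := by
  obtain ⟨e, he⟩ := carm_iso (z_ne (le_add4 N.le8))
  have hrel : ∀ r ∈ carmRels (z0 (le_add4 N.le8)) (z1 (le_add4 N.le8)), FreeGroup.lift (EH N) r = 1 := by
    rintro r (⟨x, rfl⟩ | ⟨x, y, hxy, rfl⟩)
    · simpa using N.EH_cube x
    · simpa using N.EH_sq x y hxy
  refine ⟨(PresentedGroup.toGroup hrel).comp e.symm.toMonoidHom, fun x => ?_⟩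
  show PresentedGroup.toGroup hrel (e.symm (cycR _ x)) = _
  rw [← he, e.symm_apply_apply]
  exact PresentedGroup.toGroup.of hrel

/-- The embedding of the alternating group of degree twelve or thirteen. -/
theorem ND.build (N : B.ND m th) :
    ∃ φ : alternatingGroup (Fin (m + 4)) →* G, Function.Injective φ ∧
      (∀ x : C12, φ (up12 N.le8 x) = B.f x) ∧ B.NB 2 ≤ φ.range := by
  classical
  obtain ⟨φ, hφ⟩ := N.exists_hom
  set n := B.f (gC 0) with hn
  set P := φ (up12 N.le8 (gC 0)) with hP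
  -- the domain of the given factor
  let ψ := altVia (embP m)
  have hψ : ∀ p, φ (ψ p) = th p := by
    have : φ.comp ψ = th := by
      refine MonoidHom.eq_of_eqOn_dense (closure_cycR (z_ne N.le8)) ?_
      rintro _ ⟨y, rfl⟩
      have hy0 : y.1.val ≠ 0 := fun e => y.2.1 (Fin.ext e)
      have hy1 : y.1.val ≠ 1 := fun e => y.2.2 (Fin.ext e)
      have hz : ∀ k : Fin m, k.val < 2 → (embP m k).val = k.val := fun k hk => by
        show (dite _ _ _ : Fin (m + 4)).val = _
        rw [dif_pos (by omega)]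
      have hyv : (embP m y.1).val = if y.1.val < 8 then y.1.val else y.1.val + 4 := by
        show (dite _ _ _ : Fin (m + 4)).val = _
        split <;> rfl
      let x : Rest (z0 (le_add4 N.le8)) (z1 (le_add4 N.le8)) := ⟨embP m y.1, by
        constructor <;> intro e <;> simp only [z0, z1, Fin.ext_iff, hyv] at e <;> split at e <;> omega⟩
      have e : ψ (cycR (z_ne N.le8) y) = cycR (z_ne (le_add4 N.le8)) x := by
        refine Subtype.ext ?_
        show Perm.viaEmbeddingHom (embP m) (cyc _ _ _) = cyc _ _ _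
        rw [cyc, map_mul, via_swap, via_swap, show embP m (z0 N.le8) = z0 (le_add4 N.le8) from
            Fin.ext (hz _ (by simp [z0])), show embP m (z1 N.le8) = z1 (le_add4 N.le8) from
            Fin.ext (hz _ (by simp [z1]))]
        rfl
      show φ (ψ _) = _
      have hnm : ¬(8 ≤ x.1.val ∧ x.1.val < 12) := by
        show ¬(8 ≤ (embP m y.1).val ∧ (embP m y.1).val < 12)
        rw [hyv]; split <;> omega
      rw [e, hφ, EH, if_neg hnm]
      refine congrArg (fun z => th (cycR (z_ne N.le8) z)) (Subtype.ext (Fin.ext ?_))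
      rw [ptR_val]
      show (if (embP m y.1).val < 8 then _ else (embP m y.1).val - 4) = _
      rw [hyv]; split_ifs <;> omega
    exact fun p => DFunLike.congr_fun this p
  have hdom : ∀ x : C12, (∀ i : Fin 12, 8 ≤ i.val → (x : Perm (Fin 12)) i = i) →
      φ (up12 N.le8 x) = B.f x := by
    intro x hx
    obtain ⟨q, hq⟩ := ND.dom_exists x hx
    rw [← N.th_eq x q hq, ← hψ]
    refine congrArg φ (Subtype.ext (Equiv.ext fun i => ?_))
    by_cases h12 : i.val < 12
    · refine Fin.ext ?_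
      rw [up12_lt N.le8 x h12, hq]
      by_cases h8 : i.val < 8
      · rw [fun8, dif_pos (show (⟨i.val, h12⟩ : Fin 12).val < 8 from h8)]
        have hi : i = embP m ⟨i.val, by have := N.le8; omega⟩ := Fin.ext (by
          show _ = (dite _ _ _ : Fin (m + 4)).val
          rw [dif_pos h8])
        conv_rhs => rw [hi]
        rw [altVia_apply, up8_coe, ext8_lt _ _ (show (⟨i.val, by have := N.le8; omega⟩ : Fin m).val < 8 from h8)]
        show _ = (dite _ _ _ : Fin (m + 4)).val
        split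
        · rfl
        · rename_i hc
          exact absurd ((q : Perm (Fin 8)) ⟨i.val, h8⟩).isLt hc
      · rw [fun8, dif_neg (show ¬(⟨i.val, h12⟩ : Fin 12).val < 8 from h8), altVia_fix _ _ _ fun j e => ?_]
        have := congrArg Fin.val e
        change (dite _ _ _ : Fin (m + 4)).val = _ at this
        split at this <;> simp at this <;> omega
    · rw [up12_ge N.le8 x (not_lt.1 h12)]
      by_cases hr : ∃ j, embP m j = i
      · obtain ⟨j, rfl⟩ := hr
        have hj : 8 ≤ j.val := by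
          by_contra hj
          exact h12 (by show (dite _ _ _ : Fin (m + 4)).val < 12; rw [dif_pos (not_le.1 hj)]; simp; omega)
        rw [altVia_apply, up8_coe, ext8_ge _ _ hj]
      · exact (altVia_fix _ _ _ fun j e => hr ⟨j, e⟩).symm
  -- conjugation by the exchange of blocks
  have hfix : ∀ i : Fin (m + 4), i.val < 2 → (up12 N.le8 (gC 0) : Perm (Fin (m + 4))) i = i := fun i hi =>
    Fin.ext (by
      rw [up12_lt N.le8 _ (by omega)]
      show (gP 0 _).val = _
      rw [n_values, if_neg (by simp; omega), if_neg (by simp; omega)])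
  have hconj : ∀ g, n * φ g * n⁻¹ = P * φ g * P⁻¹ := by
    suffices h : (MulAut.conj n).toMonoidHom.comp φ = (MulAut.conj P).toMonoidHom.comp φ from
      fun g => DFunLike.congr_fun h g
    refine MonoidHom.eq_of_eqOn_dense (closure_cycR (z_ne (le_add4 N.le8))) ?_
    rintro _ ⟨x, rfl⟩
    set σ := (up12 N.le8 (gC 0) : Perm (Fin (m + 4))) with hσ
    let y : Rest (z0 (le_add4 N.le8)) (z1 (le_add4 N.le8)) := ⟨σ x.1, by
      constructor
      · intro e; exact x.2.1 (σ.injective (e.trans (hfix _ (by simp [z0])).symm))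
      · intro e; exact x.2.2 (σ.injective (e.trans (hfix _ (by simp [z1])).symm))⟩
    have e : up12 N.le8 (gC 0) * cycR (z_ne (le_add4 N.le8)) x * (up12 N.le8 (gC 0))⁻¹ =
        cycR (z_ne (le_add4 N.le8)) y := Subtype.ext (by
      show σ * cyc _ _ _ * σ⁻¹ = cyc _ _ _
      rw [conj_cyc, hfix _ (by simp [z0]), hfix _ (by simp [z1])])
    show n * φ _ * n⁻¹ = P * φ _ * P⁻¹
    rw [hP, ← map_inv φ, ← map_mul φ, ← map_mul φ, e, hφ, hφ]
    have hval : y.1.val = if 4 ≤ x.1.val ∧ x.1.val < 8 then x.1.val + 4 else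
        if 8 ≤ x.1.val ∧ x.1.val < 12 then x.1.val - 4 else x.1.val := by
      by_cases h12 : x.1.val < 12
      · show (σ x.1).val = _
        rw [hσ, up12_lt N.le8 _ h12]
        show (gP 0 _).val = _
        rw [n_values]
        dsimp only
        split_ifs <;> omega
      · show (σ x.1).val = _
        rw [hσ, up12_ge N.le8 _ (not_lt.1 h12), if_neg (by omega), if_neg (by omega)]
    have hx2 := ptR_aux N.le8 x
    unfold EH
    by_cases hx : 8 ≤ x.1.val ∧ x.1.val < 12
    · rw [if_neg (show ¬(4 ≤ x.1.val ∧ x.1.val < 8) by omega), if_pos hx] at hval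
      have ept : ptR N.le8 y = ptR N.le8 x := Subtype.ext (Fin.ext (by
        rw [ptR_val, ptR_val, hval, if_pos (by omega), if_neg (by omega)]))
      rw [if_pos hx, if_neg (by omega), ept, f_gC_inv]
      calc n * (n * TH N (ptR N.le8 x) * n) * n = (n * n) * TH N (ptR N.le8 x) * (n * n) := by group
        _ = _ := by rw [f_gC_sq, one_mul, mul_one]
    · rw [if_neg hx]
      by_cases h4 : 4 ≤ x.1.val ∧ x.1.val < 8
      · rw [if_pos h4] at hval
        have ept : ptR N.le8 y = ptR N.le8 x := Subtype.ext (Fin.ext (by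
          rw [ptR_val, ptR_val, hval, if_neg (by omega), if_pos h4.2]; omega))
        rw [if_pos (by omega), ept]
      · rw [if_neg h4, if_neg hx] at hval
        have ey : y = x := Subtype.ext (Fin.ext hval)
        rw [ey, if_neg hx, ← (N.TH_comm _ (by rw [ptR_val]; split <;> omega)).eq, mul_inv_cancel_right]
  have hnn : n * n = 1 := f_gC_sq 0
  have hrange : ∀ i, B.j i ∈ φ.range := by
    have h1 : ∀ k, B.j (blk 0 k) ∈ φ.range := fun k => ⟨ψ (up8 N.le8 (w8 0 k)), by rw [hψ]; exact N.th_blk 0 k⟩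
    have h2 : ∀ k, B.j (blk 1 k) ∈ φ.range := fun k => ⟨ψ (up8 N.le8 (w8 1 k)), by rw [hψ]; exact N.th_blk 1 k⟩
    have h3 : ∀ k, B.j (blk 2 k) ∈ φ.range := fun k => by
      obtain ⟨g, hg⟩ := h2 k
      have : n * B.j (blk 1 k) * n⁻¹ = B.j (blk 2 k) := by
        rw [f_gC_inv, hn, j, j, ← map_mul, ← map_mul]
        exact congrArg B.f (Subtype.ext (Equiv.ext (stage_facts.2.2.2.2.2.1 k)))
      rw [← this, ← hg, hconj, hP, ← map_inv φ, ← map_mul φ, ← map_mul φ]
      exact ⟨_, rfl⟩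
    intro i
    rw [stage_facts.2.2.2.2.2.2.2.1 i, ← B.j_mul, ← B.j_mul]
    exact mul_mem (h1 _) (mul_mem (h2 _) (h3 _))
  set y := P⁻¹ * n with hy
  have hyc : ∀ z ∈ φ.range, Commute y z := by
    rintro _ ⟨g, rfl⟩
    refine mul_inv_eq_iff_eq_mul.1 ?_
    calc y * φ g * y⁻¹ = P⁻¹ * (n * φ g * n⁻¹) * P := by rw [hy]; group
      _ = φ g := by rw [hconj]; group
  have hnP : n = P * y := by rw [hy, mul_inv_cancel_left]
  have hPn : P = n := by
    obtain ⟨i, hi⟩ := B.mem_J.1 (B.mem_J_of_commute fun i => hyc _ (hrange i))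
    have hfx : ∀ g : Fin 4, Commute y (B.nG g) → (actTab g).getD i.val 0 = i := fun g hg => by
      refine B.j_inj ?_
      rw [← nG_j, hi, ← hg.eq, mul_inv_cancel_right]
    have hd : ∀ g : Fin 4, (g = 0 ∨ g = 2) → Commute y (B.nG g) := fun g hg => by
      refine hyc _ ⟨up12 N.le8 ⟨actP g, actP_mem g⟩, hdom _ fun k hk => ?_⟩
      rcases hg with rfl | rfl
      · exact (build_facts.2.2.2.2.2.2.1 k hk).2.2.2.2.2.1
      · exact (build_facts.2.2.2.2.2.2.1 k hk).2.2.2.2.2.2
    have hyn : Commute y n := by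
      rw [hnP]; exact (hyc P ⟨_, rfl⟩).mul_right (Commute.refl y)
    have h3 : B.nG 3 = n := congrArg B.f (Subtype.ext (Equiv.ext build_facts.2.2.2.2.2.1))
    rcases fixed_table i (by
      intro g hg
      simp only [List.mem_cons, List.not_mem_nil, or_false] at hg
      rcases hg with rfl | rfl | rfl
      exacts [hfx _ (hd _ (Or.inl rfl)), hfx _ (hd _ (Or.inr rfl)), hfx _ (h3 ▸ hyn)]) with rfl | rfl
    · rw [j_zero] at hi
      rw [hnP, ← hi, mul_one]
    · exfalso
      set k2 : C12 := ⟨actP 2, actP_mem 2⟩ with hk2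
      have hA : φ (up12 N.le8 k2) = B.f k2 :=
        hdom _ fun k hk => (build_facts.2.2.2.2.2.2.1 k hk).2.2.2.2.2.2
      have h6 : k2 * gC 0 * (k2 * gC 0) * (k2 * gC 0) = 1 :=
        Subtype.ext (Equiv.ext build_facts.2.2.2.2.1)
      have e1 : B.f k2 * P * (B.f k2 * P) * (B.f k2 * P) = 1 := by
        rw [← hA, hP]; simp only [← map_mul]; rw [h6, map_one, map_one]
      have e2 : B.f k2 * n * (B.f k2 * n) * (B.f k2 * n) = 1 := by
        rw [hn]; simp only [← map_mul]; rw [h6, map_one]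
      have c1 : Commute y (B.f k2) := hA ▸ hyc _ ⟨_, rfl⟩
      have c2 : Commute y (B.f k2 * P) := c1.mul_right (hyc P ⟨_, rfl⟩)
      set AP := B.f k2 * P with hAP
      have e3 : B.f k2 * n = AP * y := by rw [hnP, hAP, mul_assoc]
      have yy : y * y = 1 := by rw [← hi, j_mul_self]
      rw [e3] at e2
      have : AP * y * (AP * y) * (AP * y) = AP * AP * AP * y := by
        have h := c2.symm.mul_pow 3
        simp only [pow_succ, pow_zero, one_mul] at h
        rw [h, yy, one_mul]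
      rw [this, e1, one_mul] at e2
      rw [e2, ← B.j_zero] at hi
      exact absurd (B.j_inj hi) (by decide)
  -- agreement
  let K : Subgroup C12 := (φ.comp (up12 N.le8)).eqLocus B.f
  have hK : ∀ x, x ∈ K ↔ φ (up12 N.le8 x) = B.f x := fun x => Iff.rfl
  have hK0 : gC 0 ∈ K := hPn
  have hgens : ∀ g ∈ Kgens, ∃ k ∈ K, (k : Perm (Fin 12)) = g := by
    have d : ∀ i : Fin 12, 8 ≤ i.val → _ := build_facts.2.2.2.2.2.2.1
    have h4 : el 4 ∈ K := hdom _ fun i hi => (d i hi).2.2.1
    have h8 : el 8 ∈ K := hdom _ fun i hi => (d i hi).2.2.2.1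
    intro g hg
    simp only [Kgens, List.mem_cons, List.not_mem_nil, or_false] at hg
    rcases hg with rfl | rfl | rfl | rfl | rfl | rfl | rfl | rfl | rfl | rfl
    · exact ⟨el 1, hdom _ fun i hi => (d i hi).1, rfl⟩
    · exact ⟨el 2, hdom _ fun i hi => (d i hi).2.1, rfl⟩
    · exact ⟨el 4, h4, rfl⟩
    · exact ⟨el 8, h8, rfl⟩
    · exact ⟨gC 0 * el 4 * gC 0, mul_mem (mul_mem hK0 h4) hK0,
        Equiv.ext build_facts.2.2.2.2.2.2.2.1⟩
    · exact ⟨gC 0 * el 8 * gC 0, mul_mem (mul_mem hK0 h8) hK0,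
        Equiv.ext build_facts.2.2.2.2.2.2.2.2⟩
    · exact ⟨gC 3, hdom _ fun i hi => (d i hi).2.2.2.2.1, rfl⟩
    · exact ⟨gC 0, hK0, rfl⟩
    · exact ⟨⟨actP 0, actP_mem 0⟩, hdom _ fun i hi => (d i hi).2.2.2.2.2.1, rfl⟩
    · exact ⟨⟨actP 2, actP_mem 2⟩, hdom _ fun i hi => (d i hi).2.2.2.2.2.2, rfl⟩
  let R : Fin 12 × Fin 12 → Prop := fun p =>
    ∃ k ∈ K, (k : Perm (Fin 12)) 8 = p.1 ∧ (k : Perm (Fin 12)) 10 = p.2
  have hstep : ∀ g ∈ Kgens, ∀ p, R p → R (g p.1, g p.2) := by
    rintro g hg p ⟨k, hk, h1, h2⟩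
    obtain ⟨k', hk', rfl⟩ := hgens g hg
    exact ⟨k' * k, mul_mem hk' hk, congrArg _ h1, congrArg _ h2⟩
  have hall : ∀ x : C12, φ (up12 N.le8 x) = B.f x := by
    intro x
    set p := (x : Perm (Fin 12)) with hp
    have hab : (p 8).val / 2 ≠ (p 10).val / 2 := fun e => by
      rcases pair_eq _ _ e with h | h
      · exact absurd (p.injective h) (by decide)
      · rw [← comm_tc x.2] at h
        exact absurd (p.injective h) (by decide +kernel)
    have hmem := orbit_table _ _ hab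
    have hbase : ∀ q ∈ [((8 : Fin 12), (10 : Fin 12))], R q := by
      intro q hq; rw [List.mem_singleton] at hq; subst hq
      exact ⟨1, one_mem K, rfl, rfl⟩
    obtain ⟨k, hk, h1, h2⟩ := mem_stepP R _ hstep _ (mem_stepP R _ hstep _ (mem_stepP R _ hstep _
      (mem_stepP R _ hstep _ (mem_stepP R _ hstep _ hbase)))) _ hmem
    have hfx : ∀ i : Fin 12, 8 ≤ i.val → ((k⁻¹ * x : C12) : Perm (Fin 12)) i = i := by
      set z := ((k⁻¹ * x : C12) : Perm (Fin 12)) with hz
      have f8 : z 8 = 8 := by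
        show (k : Perm (Fin 12))⁻¹ (p 8) = 8
        rw [Perm.inv_eq_iff_eq, h1]
      have f10 : z 10 = 10 := by
        show (k : Perm (Fin 12))⁻¹ (p 10) = 10
        rw [Perm.inv_eq_iff_eq, h2]
      have f9 : z (tcP 8) = tcP 8 := by rw [hz, comm_tc (k⁻¹ * x).2, ← hz, f8]
      have f11 : z (tcP 10) = tcP 10 := by rw [hz, comm_tc (k⁻¹ * x).2, ← hz, f10]
      intro i hi
      rcases (by decide +kernel : ∀ i : Fin 12, 8 ≤ i.val → i = 8 ∨ i = 10 ∨ i = tcP 8 ∨ i = tcP 10) i hi
        with rfl | rfl | rfl | rfl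
      exacts [f8, f10, f9, f11]
    have h2' : k⁻¹ * x ∈ K := hdom _ hfx
    have := mul_mem hk h2'
    rwa [mul_inv_cancel_left] at this
  refine ⟨φ, ?_, hall, ?_⟩
  · have : IsSimpleGroup (alternatingGroup (Fin (m + 4))) :=
      alternatingGroup.isSimpleGroup (by have := N.le8; simp; omega)
    rw [← MonoidHom.ker_eq_bot_iff]
    rcases IsSimpleGroup.eq_bot_or_eq_top_of_normal φ.ker inferInstance with h | h
    · exact h
    · exfalso
      have : φ (up12 N.le8 tc) = 1 := MonoidHom.mem_ker.1 (by rw [h]; exact Subgroup.mem_top _)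
      rw [hall] at this
      have h2 := B.orderOf_a
      rw [Setup.a, this, orderOf_one] at h2
      exact absurd h2 (by decide)
  · intro x hx
    obtain ⟨k, p, rfl⟩ := N.span x hx
    exact mul_mem (hrange _) ⟨ψ p, hψ p⟩

theorem ext_equiv12 : ∃ e : alternatingGroup (Fin 12) ≃* hostK false,
    ∀ p, ((e p : hostK false) : Perm (Fin 13)) = ext13 (p : Perm (Fin 12)) := by
  let f : alternatingGroup (Fin 12) →* hostK false := MonoidHom.mk'
    (fun p => ⟨ext13 (p : Perm (Fin 12)),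
      ⟨by rw [sign_ext13]; exact Perm.mem_alternatingGroup.1 p.2, fun _ => ext13_last _⟩⟩)
    fun p q => Subtype.ext (map_mul ext13 (p : Perm (Fin 12)) (q : Perm (Fin 12)))
  have hf : Function.Bijective f := by
    refine ⟨fun p q h => Subtype.ext (ext13_inj (congrArg Subtype.val h :)), fun q => ?_⟩
    obtain ⟨y, hy⟩ := exists_ext13 (q.2.2 rfl)
    exact ⟨⟨y, Perm.mem_alternatingGroup.2 (by rw [← sign_ext13, hy]; exact q.2.1)⟩, Subtype.ext hy⟩
  exact ⟨MulEquiv.ofBijective f hf, fun p => rfl⟩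

theorem ext_equiv13 : ∃ e : alternatingGroup (Fin 13) ≃* hostK true,
    ∀ p, ((e p : hostK true) : Perm (Fin 13)) = (p : Perm (Fin 13)) := by
  let f : alternatingGroup (Fin 13) →* hostK true := MonoidHom.mk'
    (fun p => ⟨(p : Perm (Fin 13)), ⟨Perm.mem_alternatingGroup.1 p.2, fun h => absurd h (by decide)⟩⟩)
    fun p q => rfl
  have hf : Function.Bijective f :=
    ⟨fun p q h => Subtype.ext (congrArg Subtype.val h :), fun q =>
      ⟨⟨q, Perm.mem_alternatingGroup.2 q.2.1⟩, rfl⟩⟩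
  exact ⟨MulEquiv.ofBijective f hf, fun p => rfl⟩

/-- The host exists in the pattern of the alternating groups. -/
theorem exists_host (h : B.PatA) : Nonempty B.Host := by
  obtain ⟨m, th, hm, hinj, hle, hspan, hagr⟩ := B.ndata h
  rcases hm with rfl | rfl
  · have N : B.ND 8 th := ⟨le_rfl, by norm_num, hinj, hle, hspan, hagr⟩
    obtain ⟨φ, hφ, hag, hnb⟩ := N.build
    obtain ⟨e, he⟩ := ext_equiv12
    refine ⟨⟨false, φ.comp e.symm.toMonoidHom, hφ.comp e.symm.injective, fun x => ?_, fun g hg => ?_⟩⟩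
    · show φ (e.symm (extC false x)) = B.f x
      rw [← hag]
      refine congrArg φ (e.symm_apply_eq.2 (Subtype.ext ?_))
      rw [he]
      refine congrArg ext13 (Equiv.ext fun i => Fin.ext ?_)
      exact (up12_lt N.le8 x i.isLt).symm
    · obtain ⟨p, rfl⟩ := hnb hg
      exact ⟨e p, congrArg φ (e.symm_apply_apply p)⟩
  · have N : B.ND 9 th := ⟨by norm_num, le_rfl, hinj, hle, hspan, hagr⟩
    obtain ⟨φ, hφ, hag, hnb⟩ := N.build
    obtain ⟨e, he⟩ := ext_equiv13
    refine ⟨⟨true, φ.comp e.symm.toMonoidHom, hφ.comp e.symm.injective, fun x => ?_, fun g hg => ?_⟩⟩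
    · show φ (e.symm (extC true x)) = B.f x
      rw [← hag]
      refine congrArg φ (e.symm_apply_eq.2 (Subtype.ext ?_))
      rw [he]
      refine Equiv.ext fun i => ?_
      show ext13 (x : Perm (Fin 12)) i = _
      rcases i.eq_castSucc_or_eq_last with ⟨i, rfl⟩ | rfl
      · rw [ext13_castSucc]
        exact Fin.ext (up12_lt N.le8 x (i := i.castSucc) i.isLt).symm
      · rw [ext13_last, up12_ge N.le8 x (i := Fin.last 12) (by simp)]
    · obtain ⟨p, rfl⟩ := hnb hg
      exact ⟨e p, congrArg φ (e.symm_apply_apply p)⟩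

end Setup

end Cfsg.Agent.A12Type
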