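import Cfsg.Agent.A12Type.SylowModel
import Cfsg.Agent.Invol.Pair
import Cfsg.Prelude.Def_TwoFusion

/-!
Groups with an involution whose centralizer is that of a product of six transpositions in the
alternating group of degree twelve: the basic notions and the control of fusion by the normalizer of
the elementary abelian subgroup of order sixty-four.
-/

set_option autoImplicit false

namespace Cfsg.Agent.A12Type

open Subgroup

/-- The index of the `n`-th element of the block `k` (bit one: flip, bit two: swap). -/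
def blk (k : Fin 3) (n : Fin 4) : Fin 64 := Fin.ofNat 64 (n.val * 4 ^ k.val)

/-- The component of an index in a block. -/
def comp (i : Fin 64) (k : Fin 3) : Fin 4 := Fin.ofNat 4 (i.val / 4 ^ k.val)

/-- The number of blocks in which an index is not trivial. -/
def wA (i : Fin 64) : ℕ :=
  (if comp i 0 = 0 then 0 else 1) + (if comp i 1 = 0 then 0 else 1) + (if comp i 2 = 0 then 0 else 1)

/-- The number of the six vectors `fₖ, gₖ` in the expansion of the component in a block. -/
def compS (i : Fin 64) (k : Fin 3) : ℕ := if comp i k = 0 then 0 else if comp i k = 1 then 2 else 1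

/-- The classes in the symplectic pattern: 0 transvections, 1 products of two, 2 lines, 3 the rest. -/
def cS (i : Fin 64) : ℕ :=
  let w := compS i 0 + compS i 1 + compS i 2
  if w = 1 ∨ w = 6 then 0
  else if w = 2 ∨ w = 5 then 1
  else if w = 4 ∧ (comp i 0 = 0 ∨ comp i 1 = 0 ∨ comp i 2 = 0) ∧
      (compS i 0 ≠ 1 ∧ compS i 1 ≠ 1 ∧ compS i 2 ≠ 1) then 2
  else if compS i 0 = 1 ∧ compS i 1 = 1 ∧ compS i 2 = 1 ∧
      ((comp i 0).val + (comp i 1).val + (comp i 2).val) % 2 = 0 then 2
  else 3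

/-- A centralizer of this type, with the labelling. -/
structure Setup (G : Type*) [Group G] where
  /-- the labelling -/
  f : C12 →* G
  inj : Function.Injective f
  range_eq : f.range = centralizer ({f tc} : Set G)
  sylow : ∃ P : Sylow 2 G, (P : Subgroup G) = S12.map f

namespace Setup

variable {G : Type*} [Group G] (B : Setup G)

/-- The central involution. -/
def a : G := B.f tc

/-- An element of the elementary abelian subgroup. -/
def j (i : Fin 64) : G := B.f (el i)

/-- The elementary abelian subgroup of order sixty-four. -/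
def J : Subgroup G := J12.map B.f

/-- The centralizer of two of the three blocks. -/
def MB (k : Fin 3) : Subgroup G :=
  centralizer {x | ∃ l n, l ≠ k ∧ x = B.j (blk l n)}

/-- The centralizer of one block. -/
def NB (k : Fin 3) : Subgroup G :=
  centralizer {x | ∃ n, x = B.j (blk k n)}

/-- The central involution is fused to no other element of the elementary subgroup. -/
def Isolated : Prop := ∀ i, IsConj B.a (B.j i) → i = 21

/-- The fusion pattern of the alternating groups. -/
def PatA : Prop := ∀ i k : Fin 64, i ≠ 0 → k ≠ 0 → (IsConj (B.j i) (B.j k) ↔ wA i = wA k)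

/-- The fusion pattern of the symplectic group. -/
def PatS : Prop := ∀ i k : Fin 64, i ≠ 0 → k ≠ 0 → (IsConj (B.j i) (B.j k) ↔ cS i = cS k)

theorem j_mul (i k : Fin 64) : B.j i * B.j k = B.j (xr i k) := by
  rw [j, j, ← map_mul, el_mul]; rfl

theorem j_zero : B.j 0 = 1 := by rw [j, el_zero, map_one]

theorem j_tc : B.j 21 = B.a := by rw [j, el_tc]; rfl

theorem j_inj : Function.Injective B.j := B.inj.comp el_inj

theorem j_mul_self (i : Fin 64) : B.j i * B.j i = 1 := by rw [j_mul, xr_self, j_zero]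

theorem j_comm (i k : Fin 64) : Commute (B.j i) (B.j k) := (el_comm i k).map B.f

theorem j_mem (i : Fin 64) : B.j i ∈ B.J := mem_map_of_mem _ (el_mem i)

theorem mem_J {x : G} : x ∈ B.J ↔ ∃ i, B.j i = x := by
  constructor
  · rintro ⟨_, ⟨i, rfl⟩, rfl⟩; exact ⟨i, rfl⟩
  · rintro ⟨i, rfl⟩; exact B.j_mem i

theorem orderOf_j {i : Fin 64} (hi : i ≠ 0) : orderOf (B.j i) = 2 :=
  Invol.orderOf_eq_two_iff.2 ⟨fun h => hi (B.j_inj (h.trans B.j_zero.symm)), B.j_mul_self i⟩

theorem orderOf_a : orderOf B.a = 2 := by rw [← B.j_tc]; exact B.orderOf_j (by decide)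

theorem mem_range_of_commute {x : G} (h : Commute x B.a) : x ∈ B.f.range := by
  rw [B.range_eq]; exact mem_centralizer_singleton_iff.2 h.eq

theorem commute_a (x : C12) : Commute (B.f x) B.a := ((tc_central x).map B.f).symm

theorem card_J : Nat.card B.J = 64 := by
  rw [J, card_map_of_injective B.inj, card_J12]

/-- The elementary subgroup is its own centralizer. -/
theorem mem_J_of_commute {x : G} (h : ∀ i, Commute x (B.j i)) : x ∈ B.J := by
  obtain ⟨y, rfl⟩ := B.mem_range_of_commute (B.j_tc ▸ h 21)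
  refine mem_map_of_mem _ (mem_J12_of_commute fun i => ?_)
  exact B.inj (by rw [map_mul, map_mul]; exact (h i).eq)

variable [Finite G]

/-- An involution of the centralizer is conjugate in it into the elementary subgroup. -/
theorem exists_conj_mem_J {x : G} (hx : Commute x B.a) (hxx : x * x = 1) :
    ∃ g : C12, B.f g * x * (B.f g)⁻¹ ∈ B.J := by
  have : Fact (Nat.Prime 2) := ⟨Nat.prime_two⟩
  obtain ⟨y, rfl⟩ := B.mem_range_of_commute hx
  have hyy : y * y = 1 := B.inj (by rw [map_mul, map_one]; exact hxx)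
  obtain ⟨P, hP⟩ := exists_sylow_S12
  have hz : IsPGroup 2 (zpowers y) := by
    intro u
    obtain ⟨u, m, rfl⟩ := u
    refine ⟨1, Subtype.ext ?_⟩
    show (y ^ m) ^ (2 ^ 1) = 1
    rw [pow_one, pow_two]
    rw [← (Commute.refl y).mul_zpow, hyy, one_zpow]
  obtain ⟨Q, hQ⟩ := hz.exists_le_sylow
  obtain ⟨c, rfl⟩ := MulAction.exists_smul_eq C12 P Q
  have h1 := hQ (mem_zpowers y)
  rw [Sylow.coe_subgroup_smul, mem_pointwise_smul_iff_inv_smul_mem] at h1
  simp only [← map_inv, MulAut.smul_def, MulAut.conj_apply, inv_inv, hP] at h1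
  obtain ⟨g, hg⟩ := exists_conj_J12 h1 (by
    calc c⁻¹ * y * c * (c⁻¹ * y * c) = c⁻¹ * (y * y) * c := by group
      _ = 1 := by rw [hyy, mul_one, inv_mul_cancel])
  refine ⟨g * c⁻¹, ?_⟩
  have := mem_map_of_mem B.f hg
  simp only [map_mul, map_inv] at this ⊢
  rw [J]
  convert this using 1
  group

/-- An elementary abelian subgroup of order sixty-four of the centralizer is conjugate in it to
the one given. -/
theorem exists_conj_eq_J {K : Subgroup G} (hK : ∀ x ∈ K, Commute x B.a) (h2 : ∀ x ∈ K, x * x = 1)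
    (hcard : Nat.card K = 64) : ∃ c : G, Commute c B.a ∧ ∀ x ∈ K, c * x * c⁻¹ ∈ B.J := by
  have : Fact (Nat.Prime 2) := ⟨Nat.prime_two⟩
  obtain ⟨P, hP⟩ := exists_sylow_S12
  let K₀ : Subgroup C12 := K.comap B.f
  have hKr : K ≤ B.f.range := fun x hx => B.mem_range_of_commute (hK x hx)
  have hc : Nat.card K₀ = 64 := by
    rw [← hcard, ← card_map_of_injective B.inj (K := K₀), map_comap_eq_self hKr]
  obtain ⟨Q, hQ⟩ := (IsPGroup.of_card (p := 2) (n := 6) (by rw [hc]; norm_num) :
    IsPGroup 2 K₀).exists_le_sylow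
  obtain ⟨c, rfl⟩ := MulAction.exists_smul_eq C12 P Q
  let K₁ : Subgroup C12 := K₀.map (MulAut.conj c⁻¹).toMonoidHom
  have h1 : K₁ ≤ S12 := by
    rintro _ ⟨x, hx, rfl⟩
    have h1 := hQ hx
    rw [Sylow.coe_subgroup_smul, mem_pointwise_smul_iff_inv_smul_mem] at h1
    simpa only [← map_inv, MulAut.smul_def, hP, MulEquiv.coe_toMonoidHom] using h1
  have h3 : K₁ ≤ J12 := le_J12 h1 (by
    rintro _ ⟨x, hx, rfl⟩
    rw [← map_mul, show x * x = 1 from B.inj (by rw [map_mul, map_one]; exact h2 _ hx), map_one]) (by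
    rw [card_map_of_injective (MulAut.conj c⁻¹).injective, hc])
  refine ⟨B.f c⁻¹, B.commute_a _, fun x hx => ?_⟩
  obtain ⟨y, rfl⟩ := hKr hx
  have := mem_map_of_mem B.f (h3 (mem_map_of_mem _ (show y ∈ K₀ from hx)))
  simp only [MulEquiv.coe_toMonoidHom, MulAut.conj_apply, inv_inv] at this
  rw [map_inv, inv_inv]
  rwa [map_mul, map_mul, map_inv] at this

/-- Fusion in the elementary subgroup is controlled by its normalizer. -/
theorem exists_normalizer_conj {i k : Fin 64} (h : IsConj (B.j i) (B.j k)) :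
    ∃ n : G, (∀ x, n * x * n⁻¹ ∈ B.J ↔ x ∈ B.J) ∧ n * B.j i * n⁻¹ = B.j k := by
  classical
  have : Fact (Nat.Prime 2) := ⟨Nat.prime_two⟩
  obtain ⟨g, hg⟩ := isConj_iff.1 h
  set X : Subgroup G := centralizer ({B.j k} : Set G) with hX
  have hJX : B.J ≤ X := by
    intro x hx
    obtain ⟨l, rfl⟩ := B.mem_J.1 hx
    exact mem_centralizer_singleton_iff.2 (B.j_comm l k).eq
  let J' : Subgroup G := B.J.map (MulAut.conj g).toMonoidHom
  have hJ'X : J' ≤ X := by
    rintro _ ⟨x, hx, rfl⟩
    obtain ⟨l, rfl⟩ := B.mem_J.1 hx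
    refine mem_centralizer_singleton_iff.2 ?_
    rw [← hg, MulEquiv.coe_toMonoidHom, MulAut.conj_apply]
    calc g * B.j l * g⁻¹ * (g * B.j i * g⁻¹) = g * (B.j l * B.j i) * g⁻¹ := by group
      _ = g * (B.j i * B.j l) * g⁻¹ := by rw [(B.j_comm l i).eq]
      _ = g * B.j i * g⁻¹ * (g * B.j l * g⁻¹) := by group
  have hc' : Nat.card J' = 64 := by
    rw [card_map_of_injective (MulAut.conj g).injective, B.card_J]
  have hp : ∀ K : Subgroup G, K ≤ X → Nat.card K = 64 → ∃ Q : Sylow 2 X, K.subgroupOf X ≤ Q := by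
    intro K hK hcard
    refine IsPGroup.exists_le_sylow (IsPGroup.of_card (n := 6) ?_)
    rw [Nat.card_congr (subgroupOfEquivOfLe hK).toEquiv, hcard]; norm_num
  obtain ⟨Q₁, hQ₁⟩ := hp B.J hJX B.card_J
  obtain ⟨Q₂, hQ₂⟩ := hp J' hJ'X hc'
  obtain ⟨c, hc⟩ := MulAction.exists_smul_eq X Q₂ Q₁
  let T : Subgroup G := (Q₁ : Subgroup X).map X.subtype
  obtain ⟨P, hP⟩ := B.sylow
  obtain ⟨R, hR⟩ := (show IsPGroup 2 T from Q₁.2.map X.subtype).exists_le_sylow
  obtain ⟨d, hd⟩ := MulAction.exists_smul_eq G R P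
  have inS : ∀ t ∈ T, d * t * d⁻¹ ∈ S12.map B.f := by
    intro t ht
    rw [← hP, ← hd, Sylow.coe_subgroup_smul]
    have h2 := Subgroup.smul_mem_pointwise_smul t (MulAut.conj d) (R : Subgroup G) (hR ht)
    rwa [MulAut.smul_def, MulAut.conj_apply] at h2
  have inT₁ : ∀ x ∈ B.J, x ∈ T := fun x hx =>
    mem_map.2 ⟨⟨x, hJX hx⟩, hQ₁ (mem_subgroupOf.2 hx), rfl⟩
  have inT₂ : ∀ x ∈ J', (c : G) * x * (c : G)⁻¹ ∈ T := fun x hx => by
    refine mem_map.2 ⟨c * ⟨x, hJ'X hx⟩ * c⁻¹, ?_, rfl⟩
    rw [← hc, Sylow.coe_subgroup_smul]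
    have h2 := Subgroup.smul_mem_pointwise_smul (⟨x, hJ'X hx⟩ : X) (MulAut.conj c) (Q₂ : Subgroup X)
      (hQ₂ (mem_subgroupOf.2 hx))
    rwa [MulAut.smul_def, MulAut.conj_apply] at h2
  -- inside the Sylow subgroup there is only one candidate
  have uniq : ∀ u : G, (∀ x ∈ B.J, u * x * u⁻¹ ∈ S12.map B.f) → ∀ x ∈ B.J, u * x * u⁻¹ ∈ B.J := by
    intro u hu x hx
    let K₀ : Subgroup C12 := (B.J.map (MulAut.conj u).toMonoidHom).comap B.f
    have hle : B.J.map (MulAut.conj u).toMonoidHom ≤ S12.map B.f := by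
      rintro _ ⟨y, hy, rfl⟩; exact hu y hy
    have hle' : B.J.map (MulAut.conj u).toMonoidHom ≤ B.f.range := hle.trans (map_le_range _ _)
    have hK : K₀ ≤ J12 := by
      refine le_J12 ?_ ?_ ?_
      · intro y hy
        obtain ⟨z, hz, hzy⟩ := hle hy
        exact B.inj hzy ▸ hz
      · rintro y ⟨z, hz, hzy⟩
        obtain ⟨l, rfl⟩ := B.mem_J.1 hz
        apply B.inj
        rw [map_mul, map_one, ← hzy, ← map_mul, j_mul_self, map_one]
      · rw [← card_map_of_injective B.inj (K := K₀), map_comap_eq_self hle',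
          card_map_of_injective (MulAut.conj u).injective, B.card_J]
    have hxK : u * x * u⁻¹ ∈ B.J.map (MulAut.conj u).toMonoidHom := ⟨x, hx, rfl⟩
    obtain ⟨y, hy⟩ := hle' hxK
    rw [← hy]
    exact mem_map_of_mem _ (hK (show y ∈ K₀ by rw [mem_comap, hy]; exact hxK))
  have h1 := uniq d fun x hx => inS x (inT₁ x hx)
  have h2 := uniq (d * (c : G) * g) fun x hx => by
    have hx' : g * x * g⁻¹ ∈ J' := ⟨x, hx, rfl⟩
    convert inS _ (inT₂ _ hx') using 1
    group
  -- the two translates agree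
  have surj : ∀ u : G, (∀ x ∈ B.J, u * x * u⁻¹ ∈ B.J) → ∀ x, u * x * u⁻¹ ∈ B.J → x ∈ B.J := by
    intro u hu x hx
    have he : B.J.map (MulAut.conj u).toMonoidHom = B.J := by
      refine eq_of_le_of_card_ge ?_ ?_
      · rintro _ ⟨y, hy, rfl⟩; exact hu y hy
      · exact (card_map_of_injective (MulAut.conj u).injective).ge
    rw [← he] at hx
    obtain ⟨y, hy, hyx⟩ := hx
    rwa [← (MulAut.conj u).injective (show MulAut.conj u y = MulAut.conj u x from hyx)]
  refine ⟨(c : G) * g, fun x => ⟨fun hx => ?_, fun hx => ?_⟩, ?_⟩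
  · refine surj (d * (c : G) * g) h2 x ?_
    convert h1 _ hx using 1
    group
  · refine surj d h1 _ ?_
    convert h2 x hx using 1
    group
  · have hck : (c : G) * B.j k = B.j k * (c : G) := mem_centralizer_singleton_iff.1 c.2
    calc (c : G) * g * B.j i * ((c : G) * g)⁻¹ = (c : G) * (g * B.j i * g⁻¹) * (c : G)⁻¹ := by group
      _ = (c : G) * B.j k * (c : G)⁻¹ := by rw [hg]
      _ = B.j k := by rw [hck, mul_assoc, mul_inv_cancel, mul_one]

end Setup

end Cfsg.Agent.A12Type
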