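import Cfsg.Agent.A12Type.FusTab
import Cfsg.Agent.A12Type.Defs

/-!
Finite facts for the centralizers of two of the three blocks.
-/

set_option autoImplicit false
set_option maxRecDepth 100000
set_option synthInstance.maxSize 4000
set_option synthInstance.maxHeartbeats 400000

namespace Cfsg.Agent.A12Type

open Equiv

/-- The block of an index of weight one. -/
def bidx (i : Fin 64) : Fin 3 := if comp i 0 ≠ 0 then 0 else if comp i 1 ≠ 0 then 1 else 2

/-- The four generators away from a block. -/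
def offGen (k : Fin 3) : List (Fin 64) :=
  [blk (k + 1) 1, blk (k + 1) 2, blk (k + 2) 1, blk (k + 2) 2]

/-- The linear map with given images of the six generators. -/
def linImg (d : Fin 3 → Fin 64 × Fin 64) (i : Fin 64) : Fin 64 :=
  let t (l : Fin 3) : Fin 64 :=
    xr (if (comp i l).val % 2 = 1 then (d l).1 else 0) (if 2 ≤ (comp i l).val then (d l).2 else 0)
  xr (xr (t 0) (t 1)) (t 2)

/-- The stabilizer words. -/
def stabWords : List (List (Fin 4)) :=
  ([[], [2], [3], [2, 3], [3, 2], [2, 3, 2]] : List (List (Fin 4))).flatMap fun w =>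
    ([[], [0], [1], [0, 1]] : List (List (Fin 4))).map fun v => w ++ v

/-- The action of a word. -/
def actWord : List (Fin 4) → Fin 64 → Fin 64
  | [], i => i
  | g :: w, i => (actTab g).getD (actWord w i).val 0

/-- The possible images of the six generators under an element moving the central involution
to the given one. -/
def frameData (k : Fin 3) : List (List (Fin 64 × Fin 64)) :=
  let A : List (Fin 64) := (List.finRange 3).map fun l => if l = k then blk k 2 else blk l 1
  let P : List (List (Fin 3)) := [[0, 1, 2], [0, 2, 1], [1, 0, 2], [1, 2, 0], [2, 0, 1], [2, 1, 0]]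
  P.flatMap fun p => (List.range 8).map fun m => (List.finRange 3).map fun l =>
    let t := p.getD l.val 0
    let u := A.getD t.val 0
    let others := ([blk t 1, blk t 2, blk t 3] : List (Fin 64)).filter fun z => decide (z ≠ u)
    (u, others.getD (m / 2 ^ l.val % 2) 0)

theorem mlevel_facts :
    (∀ k l : Fin 3, l ≠ k → ∀ n : Fin 4, comp (blk l n) k = 0) ∧
    (∀ i, wA i = 1 → ∀ k : Fin 3, k ≠ bidx i → comp i k = 0) ∧
    (∀ i i', wA i = 1 → wA i' = 1 → (bidx i = bidx i' ↔ wA (xr i i') ≤ 1)) ∧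
    (∀ (k : Fin 3) (n : Fin 4), n ≠ 0 → wA (blk k n) = 1 ∧ bidx (blk k n) = k ∧ blk k n ≠ 0) ∧
    (∀ i (k : Fin 3), comp i k = 0 → wA (xr i (blk k 1)) = 1 + wA i) ∧
    (∀ (k : Fin 3) (i : Fin 64) (n : Fin 4), n ≠ 0 → comp i k = 0 → wA (xr (blk k n) i) = 1 → i = 0) ∧
    (∀ i i' (k : Fin 3), comp i k = 0 → comp i' k = 0 → comp (xr i i') k = 0) ∧
    (∀ i (k : Fin 3), xr (xr (blk k (comp i k)) i) (blk k (comp i k)) = i ∧
      comp (xr (blk k (comp i k)) i) k = 0) ∧
    (∀ i (k : Fin 3), comp i k = 0 → ∃ n n' : Fin 4, i = xr (blk (k + 1) n) (blk (k + 2) n')) ∧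
    (∀ (k : Fin 3) (n : Fin 4), n ≠ 0 → wA (xr (xr 21 (blk k 1)) (blk k n)) = 3) ∧
    (∀ (k l : Fin 3) (n : Fin 4), n ≠ 0 → l ≠ k →
      comp (xr (xr 21 (blk k 1)) (blk k n)) l = 1 ∧ comp (xr (xr 21 (blk k 1)) (blk k n)) k = n) := by
  decide +kernel

theorem offGen_cent : ∀ k : Fin 3,
    (centCodes ((offGen k).map fun i => enc (elP i))).all (fun c => jcodes.elem c) = true := by
  decide +kernel

theorem frame_facts : ∀ k : Fin 3, ∀ d ∈ frameData k,
    ∃ w ∈ stabWords, actWord w 21 = 21 ∧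
      linImg (fun l => d.getD l.val (0, 0)) (actWord w (blk k 1)) = blk k 2 ∧
      ∀ l : Fin 3, l ≠ k → ∀ n : Fin 4, linImg (fun l => d.getD l.val (0, 0)) (actWord w (blk l n)) = blk l n := by
  decide +kernel

theorem frame_cover : ∀ k : Fin 3, ∀ b : Fin 3 → Fin 4, ∀ p : Fin 3 → Fin 3,
    (∀ l, b l ≠ 0 ∧ b l ≠ comp (xr (xr 21 (blk k 1)) (blk k 2)) (p l)) →
    (∀ l l', l ≠ l' → p l ≠ p l') →
    ((List.finRange 3).map fun l =>
      (blk (p l) (comp (xr (xr 21 (blk k 1)) (blk k 2)) (p l)), blk (p l) (b l))) ∈ frameData k := by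
  decide +kernel

theorem linImg_decomp : ∀ i : Fin 64,
    i = linImg (fun l => (blk l 1, blk l 2)) i := by
  decide +kernel

end Cfsg.Agent.A12Type
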