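import Cfsg.Agent.A12Type.Patterns
import Cfsg.Agent.A12Type.MLevelTab
import Cfsg.Agent.Core.PCore

/-!
The centralizer of two of the three blocks, in the alternating pattern: an element of order three
rotating the remaining block, and the centralizers of the involutions of that block.
-/

set_option autoImplicit false
set_option maxRecDepth 100000

namespace Cfsg.Agent.A12Type

open Subgroup

namespace Setup

variable {G : Type*} [Group G] [Finite G] (B : Setup G)

theorem mem_MB_iff {k : Fin 3} {x : G} :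
    x ∈ B.MB k ↔ ∀ i, comp i k = 0 → Commute x (B.j i) := by
  constructor
  · intro hx i hi
    obtain ⟨n, n', rfl⟩ := mlevel_facts.2.2.2.2.2.2.2.2.1 i k hi
    rw [← j_mul]
    have hne : ∀ k : Fin 3, k + 1 ≠ k ∧ k + 2 ≠ k := by decide
    exact Commute.mul_right (mem_centralizer_iff.1 hx _ ⟨k + 1, n, (hne k).1, rfl⟩).symm
      (mem_centralizer_iff.1 hx _ ⟨k + 2, n', (hne k).2, rfl⟩).symm
  · intro hx
    refine mem_centralizer_iff.2 ?_
    rintro _ ⟨l, n, hl, rfl⟩
    exact (hx _ (mlevel_facts.1 k l hl n)).eq.symm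

theorem j_mem_MB (i : Fin 64) (k : Fin 3) : B.j i ∈ B.MB k :=
  B.mem_MB_iff.2 fun i' _ => B.j_comm i i'

/-- The centralizer in the model of two blocks is the elementary subgroup. -/
theorem mem_J_of_offGen {x : G} (ha : Commute x B.a) {k : Fin 3}
    (h : ∀ i ∈ offGen k, Commute x (B.j i)) : x ∈ B.J := by
  obtain ⟨y, rfl⟩ := B.mem_range_of_commute ha
  have hg : ∀ g ∈ (offGen k).map (fun i => enc (elP i)), ∃ z ∈ C12, enc z = g ∧
      Commute (y : Equiv.Perm (Fin 12)) z := by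
    intro g hg
    obtain ⟨i, hi, rfl⟩ := List.mem_map.1 hg
    refine ⟨_, elP_mem i, rfl, ?_⟩
    have : y * el i = el i * y := B.inj (by rw [map_mul, map_mul]; exact (h i hi).eq)
    exact congrArg Subtype.val this
  exact mem_map_of_mem _ (jcodes_mem (List.elem_iff.1
    (List.all_eq_true.1 (offGen_cent k) _ (mem_centCodes y.2 hg))))

/-- An element of the normalizer carrying the central involution to a conjugate permutes the
blocks. -/
theorem exists_frame (h : B.PatA) {X : Fin 64} (hX : wA X = 3) :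
    ∃ (n : G) (σ : Equiv.Perm (Fin 64)) (p : Fin 3 → Fin 3), B.NJ n ∧
      (∀ i, n * B.j i * n⁻¹ = B.j (σ i)) ∧ (∀ i i', σ (xr i i') = xr (σ i) (σ i')) ∧ σ 21 = X ∧
      Function.Injective p ∧
      ∀ l m, m ≠ 0 → wA (σ (blk l m)) = 1 ∧ bidx (σ (blk l m)) = p l := by
  have hX0 : X ≠ 0 := fun e => by rw [e] at hX; exact absurd hX (by decide)
  obtain ⟨n, hn, e⟩ := B.exists_normalizer_conj ((h 21 X (by decide) hX0).2 (by rw [hX]; decide))
  obtain ⟨σ, hσ, hlin, -⟩ := B.exists_perm hn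
  have h0 : σ 0 = 0 := by
    have := hlin 0 0
    rw [show xr 0 0 = 0 from xr_self 0, xr_self] at this
    exact this
  have hw : ∀ i, i ≠ 0 → wA (σ i) = wA i := fun i hi =>
    ((h i (σ i) hi fun e => hi (σ.injective (e.trans h0.symm))).1 (isConj_iff.2 ⟨n, hσ i⟩)).symm
  have hb : ∀ l m, m ≠ 0 → wA (σ (blk l m)) = 1 := fun l m hm => by
    rw [hw _ (mlevel_facts.2.2.2.1 l m hm).2.2, (mlevel_facts.2.2.2.1 l m hm).1]
  refine ⟨n, σ, fun l => bidx (σ (blk l 1)), hn, hσ, hlin, B.j_inj ((hσ 21).symm.trans e), ?_,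
    fun l m hm => ⟨hb l m hm, ?_⟩⟩
  · intro l l' hll
    by_contra hne
    have h1 := (mlevel_facts.2.2.1 _ _ (hb l 1 (by decide)) (hb l' 1 (by decide))).1 hll
    obtain ⟨hd1, hd2⟩ := (by decide +kernel : ∀ l l' : Fin 3, l ≠ l' →
      xr (blk l 1) (blk l' 1) ≠ 0 ∧ wA (xr (blk l 1) (blk l' 1)) = 2) l l' hne
    rw [← hlin, hw _ hd1, hd2] at h1
    omega
  · refine (mlevel_facts.2.2.1 _ _ (hb l m hm) (hb l 1 (by decide))).2 ?_
    rw [← hlin]
    have hd : ∀ (l : Fin 3) (m : Fin 4), wA (xr (blk l m) (blk l 1)) ≤ 1 := by decide +kernel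
    by_cases hz : xr (blk l m) (blk l 1) = 0
    · rw [hz, h0]; decide
    · rw [hw _ hz]; exact hd l m

/-- The centralizer in the block group of one of the involutions of the block. -/
theorem mem_J_of_commute_blk (h : B.PatA) {k : Fin 3} {n : Fin 4} (hn : n ≠ 0) {x : G}
    (hx : x ∈ B.MB k) (hc : Commute x (B.j (blk k n))) : x ∈ B.J := by
  set X := xr (xr 21 (blk k 1)) (blk k n) with hXdef
  obtain ⟨m, σ, p, hm, hσ, hlin, h21, hp, hpm⟩ :=
    B.exists_frame h (mlevel_facts.2.2.2.2.2.2.2.2.2.1 k n hn : wA X = 3)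
  have hcX : Commute x (B.j X) := by
    rw [hXdef, ← j_mul]
    exact (B.mem_MB_iff.1 hx _ ((by decide +kernel : ∀ k : Fin 3,
      comp (xr 21 (blk k 1)) k = 0) k)).mul_right hc
  obtain ⟨l0, hl0⟩ := (Finite.injective_iff_surjective.1 hp) k
  have hy : m⁻¹ * x * m ∈ B.J := by
    refine B.mem_J_of_offGen (k := l0) ?_ fun i hi => ?_
    · rw [← j_tc]
      have e : B.j 21 = m⁻¹ * B.j X * m := by
        rw [show X = σ 21 from h21.symm, ← hσ]; group
      show m⁻¹ * x * m * B.j 21 = B.j 21 * (m⁻¹ * x * m)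
      rw [e]
      calc m⁻¹ * x * m * (m⁻¹ * B.j X * m) = m⁻¹ * (x * B.j X) * m := by group
        _ = m⁻¹ * (B.j X * x) * m := by rw [hcX.eq]
        _ = m⁻¹ * B.j X * m * (m⁻¹ * x * m) := by group
    · have hl : ∃ l q, l ≠ l0 ∧ q ≠ 0 ∧ i = blk l q := by
        simp only [offGen, List.mem_cons, List.not_mem_nil, or_false] at hi
        have hne : ∀ k : Fin 3, k + 1 ≠ k ∧ k + 2 ≠ k := by decide
        rcases hi with rfl | rfl | rfl | rfl
        · exact ⟨_, 1, (hne l0).1, by decide, rfl⟩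
        · exact ⟨_, 2, (hne l0).1, by decide, rfl⟩
        · exact ⟨_, 1, (hne l0).2, by decide, rfl⟩
        · exact ⟨_, 2, (hne l0).2, by decide, rfl⟩
      obtain ⟨l, q, hl, hq, rfl⟩ := hl
      have hc' : Commute x (B.j (σ (blk l q))) := by
        refine B.mem_MB_iff.1 hx _ (mlevel_facts.2.1 _ (hpm l q hq).1 k ?_)
        rw [(hpm l q hq).2, ← hl0]
        exact fun e => hl (hp e).symm
      have e : B.j (blk l q) = m⁻¹ * B.j (σ (blk l q)) * m := by rw [← hσ]; group
      show m⁻¹ * x * m * B.j (blk l q) = B.j (blk l q) * (m⁻¹ * x * m)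
      rw [e]
      calc m⁻¹ * x * m * (m⁻¹ * B.j (σ (blk l q)) * m) = m⁻¹ * (x * B.j (σ (blk l q))) * m := by group
        _ = m⁻¹ * (B.j (σ (blk l q)) * x) * m := by rw [hc'.eq]
        _ = m⁻¹ * B.j (σ (blk l q)) * m * (m⁻¹ * x * m) := by group
  have := (hm _).2 hy
  convert this using 1
  group

/-- A translate of an involution of the block is conjugate to it in the block group only trivially. -/
theorem conj_blk_eq (h : B.PatA) {k : Fin 3} {n n' : Fin 4} (hn' : n' ≠ 0) (hn : n ≠ 0) {x : G}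
    {e : Fin 64} (he : comp e k = 0) (hc : x * B.j (blk k n) * x⁻¹ = B.j (xr (blk k n') e)) : e = 0 := by
  obtain ⟨h1, -, h0⟩ := mlevel_facts.2.2.2.1 k n hn
  refine mlevel_facts.2.2.2.2.2.1 k e n' hn' he ?_
  have hne : xr (blk k n') e ≠ 0 := fun hz => by
    rw [hz, j_zero] at hc
    have h2 : B.j (blk k n) = B.j 0 := by
      rw [j_zero]
      calc B.j (blk k n) = x⁻¹ * (x * B.j (blk k n) * x⁻¹) * x := by group
        _ = 1 := by rw [hc]; group
    exact h0 (B.j_inj h2)
  rw [← (h _ _ h0 hne).1 (isConj_iff.2 ⟨x, hc⟩), h1]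

theorem exists_word (w : List (Fin 4)) :
    ∃ u : G, B.NJ u ∧ ∀ i, u * B.j i * u⁻¹ = B.j (actWord w i) := by
  induction w with
  | nil => exact ⟨1, fun x => by simp, fun i => by simp [actWord]⟩
  | cons g w ih =>
    obtain ⟨u, hu, e⟩ := ih
    refine ⟨B.nG g * u, B.nj_mul (B.nj_nG g) hu, fun i => ?_⟩
    show _ = B.j ((actTab g).getD (actWord w i).val 0)
    rw [← nG_j, ← e]
    group

/-- An element of order three rotating a block and centralizing the other two. -/
theorem exists_cycle (h : B.PatA) (k : Fin 3) :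
    ∃ c ∈ B.MB k, c ^ 3 = 1 ∧ c * B.j (blk k 1) * c⁻¹ = B.j (blk k 2) ∧
      c * B.j (blk k 2) * c⁻¹ = B.j (blk k 3) ∧ c * B.j (blk k 3) * c⁻¹ = B.j (blk k 1) := by
  classical
  set X := xr (xr 21 (blk k 1)) (blk k 2) with hXdef
  obtain ⟨n, σ, p, hn, hσ, hlin, h21, hp, hpm⟩ :=
    B.exists_frame h (mlevel_facts.2.2.2.2.2.2.2.2.2.1 k 2 (by decide) : wA X = 3)
  have hblk : ∀ i, wA i = 1 → blk (bidx i) (comp i (bidx i)) = i := by decide +kernel
  have h3 : σ (xr (blk 0 1) (xr (blk 1 1) (blk 2 1))) = X := by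
    rw [show xr (blk 0 1) (xr (blk 1 1) (blk 2 1)) = 21 by decide +kernel]; exact h21
  rw [hlin, hlin] at h3
  have hcA : ∀ l : Fin 3, comp (σ (blk l 1)) (p l) = comp X (p l) := by
    intro l
    have key : ∀ a b c : Fin 64, ∀ t : Fin 3, comp b t = 0 → comp c t = 0 →
        comp (xr a (xr b c)) t = comp a t ∧ comp (xr b (xr a c)) t = comp a t ∧
        comp (xr b (xr c a)) t = comp a t := by
      intro a b c t hb hc
      have hx : ∀ a b : Fin 64, ∀ t : Fin 3, comp b t = 0 → comp (xr a b) t = comp a t ∧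
          comp (xr b a) t = comp a t := by decide +kernel
      have hbc : ∀ b c : Fin 64, ∀ t : Fin 3, comp b t = 0 → comp c t = 0 → comp (xr b c) t = 0 := by
        decide +kernel
      exact ⟨(hx a _ t (hbc b c t hb hc)).1, by rw [(hx _ b t hb).2, (hx a c t hc).1],
        by rw [(hx _ b t hb).2, (hx a c t hc).2]⟩
    have off : ∀ l', l' ≠ l → comp (σ (blk l' 1)) (p l) = 0 := fun l' hne =>
      mlevel_facts.2.1 _ (hpm l' 1 (by decide)).1 _ (by
        rw [(hpm l' 1 (by decide)).2]; exact fun e => hne (hp e).symm)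
    rw [← h3]
    fin_cases l
    · exact (key _ _ _ _ (off 1 (by decide)) (off 2 (by decide))).1.symm
    · exact (key _ _ _ _ (off 0 (by decide)) (off 2 (by decide))).2.1.symm
    · exact (key _ _ _ _ (off 0 (by decide)) (off 1 (by decide))).2.2.symm
  have hA : ∀ l, σ (blk l 1) = blk (p l) (comp X (p l)) := fun l => by
    rw [← hcA, ← (hpm l 1 (by decide)).2]
    exact (hblk _ (hpm l 1 (by decide)).1).symm
  let b : Fin 3 → Fin 4 := fun l => comp (σ (blk l 2)) (p l)
  have hF : ∀ l, σ (blk l 2) = blk (p l) (b l) := fun l => by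
    show _ = blk (p l) (comp (σ (blk l 2)) (p l))
    rw [← (hpm l 2 (by decide)).2]
    exact (hblk _ (hpm l 2 (by decide)).1).symm
  have hb : ∀ l, b l ≠ 0 ∧ b l ≠ comp X (p l) := by
    intro l
    refine ⟨fun e => ?_, fun e => ?_⟩
    · have := (hpm l 2 (by decide)).1
      rw [hF, e] at this
      exact absurd this ((by decide +kernel : ∀ t, wA (blk t 0) ≠ 1) (p l))
    · have := σ.injective (show σ (blk l 2) = σ (blk l 1) by rw [hF, hA, e])
      exact absurd this ((by decide +kernel : ∀ t, blk t 2 ≠ blk t 1) l)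
  have hd := frame_cover k b p hb fun l l' hll e => hll (hp e)
  obtain ⟨w, -, hw21, hwk, hwl⟩ := frame_facts k _ hd
  have hσd : ∀ i, σ i = linImg (fun l => ((List.finRange 3).map fun l =>
      (blk (p l) (comp X (p l)), blk (p l) (b l))).getD l.val (0, 0)) i := by
    intro i
    have h0 : σ 0 = 0 := by
      have := hlin 0 0
      rw [show xr 0 0 = 0 from xr_self 0, xr_self] at this
      exact this
    conv_lhs => rw [linImg_decomp i]
    simp only [linImg, hlin, apply_ite σ, hA, hF, h0]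
    simp [List.finRange_succ]
  obtain ⟨u, hu, he⟩ := B.exists_word w
  let m := n * u
  have hm : ∀ i, m * B.j i * m⁻¹ = B.j (σ (actWord w i)) := fun i => by
    show n * u * B.j i * (n * u)⁻¹ = _
    rw [← hσ, ← he]; group
  have hmM : m ∈ B.MB k := by
    refine B.mem_MB_iff.2 fun i hi => ?_
    obtain ⟨q, q', rfl⟩ := mlevel_facts.2.2.2.2.2.2.2.2.1 i k hi
    have hne : ∀ k : Fin 3, k + 1 ≠ k ∧ k + 2 ≠ k := by decide
    have fix : ∀ l, l ≠ k → ∀ q, Commute m (B.j (blk l q)) := fun l hl q => by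
      have := hm (blk l q)
      rw [hσd, hwl l hl q] at this
      show m * B.j (blk l q) = B.j (blk l q) * m
      calc m * B.j (blk l q) = m * B.j (blk l q) * m⁻¹ * m := by group
        _ = _ := by rw [this]
    rw [← j_mul]
    exact (fix _ (hne k).1 q).mul_right (fix _ (hne k).2 q')
  have e1 : m * B.j (blk k 1) * m⁻¹ = B.j (blk k 2) := by
    rw [hm, hσd, hwk]
  have hmJ : m * B.j (blk k 2) * m⁻¹ ∈ B.J := by
    rw [hm]; exact B.j_mem _
  have fixed : ∀ q : Fin 4, q ≠ 0 → ¬ (m * B.j (blk k q) * m⁻¹ = B.j (blk k q)) := by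
    intro q hq hf
    have hmJ : m ∈ B.J := B.mem_J_of_commute_blk h hq hmM (by
      show m * B.j (blk k q) = B.j (blk k q) * m
      calc m * B.j (blk k q) = m * B.j (blk k q) * m⁻¹ * m := by group
        _ = _ := by rw [hf])
    obtain ⟨i, hi'⟩ := B.mem_J.1 hmJ
    rw [← hi'] at e1
    rw [show B.j i * B.j (blk k 1) * (B.j i)⁻¹ = B.j (blk k 1) by
      rw [(B.j_comm i (blk k 1)).eq, mul_assoc, mul_inv_cancel, mul_one]] at e1
    exact absurd (B.j_inj e1) ((by decide +kernel : ∀ t, blk t 1 ≠ blk t 2) k)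
  obtain ⟨i, hi⟩ := B.mem_J.1 hmJ
  set q := comp i k with hq
  have hi' : i = blk k q := by
    obtain ⟨r1, r2⟩ := mlevel_facts.2.2.2.2.2.2.2.1 i k
    have hsplit : i = xr (blk k q) (xr (blk k q) i) := by
      rw [hq]
      exact ((by decide +kernel : ∀ a b : Fin 64, xr a (xr a b) = b) _ _).symm
    by_cases hq0 : q = 0
    · exfalso
      have hc' : i ≠ 0 := fun e => by
        rw [e, j_zero] at hi
        have : B.j (blk k 2) = B.j 0 := by
          rw [j_zero]
          calc B.j (blk k 2) = m⁻¹ * (m * B.j (blk k 2) * m⁻¹) * m := by group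
            _ = 1 := by rw [← hi]; group
        exact (mlevel_facts.2.2.2.1 k 2 (by decide)).2.2 (B.j_inj this)
      have hcm := B.mem_MB_iff.1 hmM i (by rw [← hq, hq0])
      have h2 : B.j (blk k 2) = B.j i := by
        calc B.j (blk k 2) = m⁻¹ * (m * B.j (blk k 2) * m⁻¹) * m := by group
          _ = m⁻¹ * B.j i * m := by rw [hi]
          _ = m⁻¹ * (B.j i * m) := mul_assoc _ _ _
          _ = B.j i := by rw [← hcm.eq, inv_mul_cancel_left]
      have := congrArg (fun t => comp t k) (B.j_inj h2)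
      rw [← hq, hq0] at this
      exact absurd this ((by decide +kernel : ∀ t, comp (blk t 2) t ≠ 0) k)
    · have e0 := B.conj_blk_eq h hq0 (show (2 : Fin 4) ≠ 0 by decide) r2 (hi.symm.trans (congrArg B.j hsplit))
      conv_lhs => rw [hsplit]
      rw [show xr (blk k q) i = 0 from e0]
      exact (by decide +kernel : ∀ a : Fin 64, xr a 0 = a) _
  rw [hi'] at hi
  have hinj : ∀ i i', m * B.j i * m⁻¹ = m * B.j i' * m⁻¹ → i = i' := fun i i' e =>
    B.j_inj (by simpa using e)
  have hsum : blk k 3 = xr (blk k 1) (blk k 2) :=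
    (by decide +kernel : ∀ k : Fin 3, blk k 3 = xr (blk k 1) (blk k 2)) k
  have e3' : m * B.j (blk k 3) * m⁻¹ = B.j (xr (blk k 2) (blk k q)) := by
    rw [hsum, ← j_mul, show m * (B.j (blk k 1) * B.j (blk k 2)) * m⁻¹
        = m * B.j (blk k 1) * m⁻¹ * (m * B.j (blk k 2) * m⁻¹) by group, e1, ← hi, j_mul]
  have hq3 : q = 3 := by
    have four : ∀ q : Fin 4, q = 0 ∨ q = 1 ∨ q = 2 ∨ q = 3 := by decide
    rcases four q with e | e | e | e
    · exfalso
      rw [e, show blk k 0 = 0 from (by decide +kernel : ∀ k, blk k 0 = 0) k, j_zero] at hi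
      have : B.j (blk k 2) = B.j 0 := by
        rw [j_zero]
        calc B.j (blk k 2) = m⁻¹ * (m * B.j (blk k 2) * m⁻¹) * m := by group
          _ = 1 := by rw [← hi]; group
      exact (mlevel_facts.2.2.2.1 k 2 (by decide)).2.2 (B.j_inj this)
    · exfalso
      refine fixed 3 (by decide) ?_
      rw [e3', e, (by decide +kernel : ∀ k : Fin 3, xr (blk k 2) (blk k 1) = blk k 3) k]
    · exfalso
      refine fixed 2 (by decide) ?_
      rw [← hi, e]
    · exact e
  have e2 : m * B.j (blk k 2) * m⁻¹ = B.j (blk k 3) := by rw [← hi, hq3]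
  have e3 : m * B.j (blk k 3) * m⁻¹ = B.j (blk k 1) := by
    rw [e3', hq3, (by decide +kernel : ∀ k : Fin 3, xr (blk k 2) (blk k 3) = blk k 1) k]
  have hcube : m ^ 3 ∈ B.J := by
    refine B.mem_J_of_commute_blk h (n := 1) (by decide) (pow_mem hmM 3) ?_
    show m ^ 3 * B.j (blk k 1) = B.j (blk k 1) * m ^ 3
    calc m ^ 3 * B.j (blk k 1) = m * (m * (m * B.j (blk k 1) * m⁻¹) * m⁻¹) * m⁻¹ * m ^ 3 := by
          simp only [pow_succ, pow_zero, one_mul]; group
      _ = _ := by rw [e1, e2, e3]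
  obtain ⟨t, ht⟩ := B.mem_J.1 hcube
  have h6 : m ^ 6 = 1 := by rw [pow_mul m 3 2, pow_two, ← ht, j_mul_self]
  refine ⟨m ^ 4, pow_mem hmM 4, ?_, ?_, ?_, ?_⟩
  · rw [← pow_mul, show 4 * 3 = 6 * 2 from rfl, pow_mul, h6, one_pow]
  all_goals
    have act : ∀ i, m ^ 4 * B.j i * (m ^ 4)⁻¹ = m * B.j i * m⁻¹ := fun i => by
      rw [show m ^ 4 = m * m ^ 3 from pow_succ' m 3, ← ht,
        show m * B.j t * B.j i * (m * B.j t)⁻¹ = m * (B.j t * B.j i * (B.j t)⁻¹) * m⁻¹ by group,
        (B.j_comm t i).eq, mul_assoc (B.j i), mul_inv_cancel, mul_one]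
    rw [act]
  · exact e1
  · exact e2
  · exact e3

end Setup

end Cfsg.Agent.A12Type
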