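import Cfsg.Agent.A12Type.NPerm
import Cfsg.Agent.A12Type.MLevel
import Cfsg.Agent.Cent32.Nine
import Mathlib.GroupTheory.Transfer
import Mathlib.GroupTheory.NoncommCoprod

/-!
The centralizer of a block: it is the block times an alternating group of degree eight or nine, and
the labelling agrees with it on the permutations of the first eight points.
-/

set_option autoImplicit false
set_option maxRecDepth 100000

namespace Cfsg.Agent.A12Type

open Equiv Subgroup Cent32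

theorem ncent_tab : (∀ n m : Fin 4, ∃ k : Fin 4, xr (blk 2 n) (blk 2 m) = blk 2 k) ∧
    (∀ n : Fin 4, n ≠ 0 → wA (xr 5 (blk 2 n)) = 3 ∧ blk 2 n ≠ 0 ∧ xr 5 (blk 2 n) ≠ 0) ∧
    (∀ i ∈ ([1, 2, 3, 8] : List (Fin 64)), i ≠ 0 ∧ ∀ n : Fin 4,
      xr 5 (blk 2 n) ≠ 0 ∧ xr i (blk 2 n) ≠ 0 ∧ wA i = 1 ∧ 2 ≤ wA (xr 5 (blk 2 n)) ∧
        (n ≠ 0 → 2 ≤ wA (xr i (blk 2 n)))) ∧
    xr 5 (blk 2 1) = 21 ∧ blk 2 0 = 0 ∧ wA 5 = 2 ∧ (5 : Fin 64) ≠ 0 ∧
    xr (blk 0 1) (blk 1 1) = 5 ∧ xr (blk 0 2) (blk 1 2) = 10 ∧ xr 5 0 = 5 ∧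
    (∀ i : Fin 64, xr i 0 = i) := by
  refine ⟨?_, ?_, ?_, ?_, ?_, ?_, ?_, ?_, ?_, ?_, ?_⟩ <;> decide +kernel

theorem ext8_commute {m : ℕ} (h : 8 ≤ m) (p : Perm (Fin 8)) {e : Perm (Fin m)}
    (h1 : ∀ i : Fin m, i.val < 8 → e i = i) (h2 : ∀ i : Fin m, 8 ≤ i.val → 8 ≤ (e i).val) :
    Commute (ext8 h p) e := by
  refine Equiv.ext fun i => ?_
  show ext8 h p (e i) = e (ext8 h p i)
  by_cases hi : i.val < 8
  · rw [h1 i hi, ext8_lt h p hi, h1 _ (by simp)]
  · rw [ext8_ge h p (not_lt.1 hi), ext8_ge h p (h2 i (not_lt.1 hi))]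

/-- The model in an alternating group. -/
noncomputable def altV {m : ℕ} (h : 8 ≤ m) : V →* alternatingGroup (Fin m) :=
  ((ext8 h).comp V.perm).codRestrict _ fun v => by
    show ext8 h (V.toP v) ∈ alternatingGroup (Fin m)
    rw [Perm.mem_alternatingGroup, sign_ext8, V_even]

theorem altV_coe {m : ℕ} (h : 8 ≤ m) (v : V) : (altV h v : Perm (Fin m)) = ext8 h (V.toP v) := rfl

namespace Setup

variable {G : Type*} [Group G] [Finite G] (B : Setup G)

/-- The block as a subgroup. -/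
def WG : Subgroup G where
  carrier := Set.range fun n : Fin 4 => B.j (blk 2 n)
  one_mem' := ⟨0, show B.j (blk 2 0) = 1 by rw [ncent_tab.2.2.2.2.1, j_zero]⟩
  mul_mem' := by
    rintro _ _ ⟨n, rfl⟩ ⟨m, rfl⟩
    obtain ⟨k, hk⟩ := ncent_tab.1 n m
    exact ⟨k, show B.j (blk 2 k) = B.j (blk 2 n) * B.j (blk 2 m) by rw [j_mul, hk]⟩
  inv_mem' := by
    rintro _ ⟨n, rfl⟩
    exact ⟨n, (inv_eq_of_mul_eq_one_right (B.j_mul_self _)).symm⟩

/-- The block in its centralizer. -/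
def WN : Subgroup (B.NB 2) := B.WG.subgroupOf (B.NB 2)

theorem blk_mem_NB (n : Fin 4) : B.j (blk 2 n) ∈ B.NB 2 := by
  refine mem_centralizer_iff.2 ?_
  rintro _ ⟨m, rfl⟩
  exact (B.j_comm _ _).eq

theorem comm_blk {x : G} (hx : x ∈ B.NB 2) (n : Fin 4) : Commute x (B.j (blk 2 n)) :=
  (mem_centralizer_iff.1 hx _ ⟨n, rfl⟩).symm

theorem mem_WN {x : B.NB 2} : x ∈ B.WN ↔ ∃ n, B.j (blk 2 n) = (x : G) := mem_subgroupOf

theorem WN_central {w : B.NB 2} (hw : w ∈ B.WN) (x : B.NB 2) : Commute x w := by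
  obtain ⟨n, hn⟩ := B.mem_WN.1 hw
  refine Subtype.ext ?_
  show (x : G) * w = w * x
  rw [← hn]
  exact (B.comm_blk x.2 n).eq

instance WN_normal : B.WN.Normal :=
  ⟨fun w hw x => by rwa [(B.WN_central hw x).eq, mul_inv_cancel_right]⟩

/-- The model in the centralizer of the block. -/
noncomputable def gl : V →* B.NB 2 :=
  (B.f.comp lift12).codRestrict (B.NB 2) fun v => by
    refine mem_centralizer_iff.2 ?_
    rintro _ ⟨n, rfl⟩
    show B.f (el (blk 2 n)) * B.f (lift12 v) = B.f (lift12 v) * B.f (el (blk 2 n))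
    rw [← map_mul, ← map_mul]
    congr 1
    obtain ⟨f1, f2, -⟩ := lift12_tab.2.2.2.2.2.2.1 n
    exact Subtype.ext (ext8_commute le812 (V.toP v) (e := elP (blk 2 n)) f1 f2).eq.symm

theorem gl_coe (v : V) : (B.gl v : G) = B.f (lift12 v) := rfl

theorem gl_j : (B.gl V.zV : G) = B.j 5 ∧ (B.gl uV : G) = B.j 1 ∧ (B.gl aV1 : G) = B.j 2 ∧
    (B.gl cV1 : G) = B.j 8 ∧ (B.gl (aV1 * uV) : G) = B.j 3 ∧ (B.gl (aV1 * cV1) : G) = B.j 10 := by
  obtain ⟨h1, h2, h3, h4, h5, h6⟩ := lift12_el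
  simp only [gl_coe, h1, h2, h3, h4, h5, h6, j]
  trivial

/-- The model in the quotient. -/
noncomputable def iota : V →* B.NB 2 ⧸ B.WN := (QuotientGroup.mk' B.WN).comp B.gl

/-- The image of the involution of the model. -/
noncomputable def zbar : B.NB 2 ⧸ B.WN := B.iota V.zV

theorem iota_eq {v : V} {x : B.NB 2} (h : B.iota v = QuotientGroup.mk x) :
    ∃ n, (x : G) = B.gl v * B.j (blk 2 n) := by
  obtain ⟨n, hn⟩ := B.mem_WN.1 (QuotientGroup.eq.1 h)
  refine ⟨n, ?_⟩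
  rw [hn, Subgroup.coe_mul, Subgroup.coe_inv, mul_inv_cancel_left]

theorem conj_lift {v w : V} {x : B.NB 2}
    (h : (QuotientGroup.mk x : B.NB 2 ⧸ B.WN) * B.iota v * (QuotientGroup.mk x)⁻¹ = B.iota w) :
    ∃ n, (x : G) * B.gl v * (x : G)⁻¹ = B.gl w * B.j (blk 2 n) := by
  obtain ⟨n, hn⟩ := B.iota_eq (v := w) (x := x * B.gl v * x⁻¹) h.symm
  exact ⟨n, by rw [← hn]; rfl⟩

variable (h : B.PatA)
include h

theorem iota_not_conj {w : V} {i : Fin 64} (hi : i ∈ ([1, 2, 3, 8] : List (Fin 64)))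
    (hw : (B.gl w : G) = B.j i) : ¬ IsConj (B.iota w) B.zbar := by
  intro hc
  obtain ⟨q, hq⟩ := isConj_iff.1 hc
  obtain ⟨x, rfl⟩ := QuotientGroup.mk_surjective q
  obtain ⟨n, hn⟩ := B.conj_lift hq
  rw [hw, B.gl_j.1, j_mul] at hn
  obtain ⟨hi0, hall⟩ := ncent_tab.2.2.1 i hi
  obtain ⟨h5, -, h1, h2, -⟩ := hall n
  have := (h i _ hi0 h5).1 (isConj_iff.2 ⟨_, hn⟩)
  omega

/-- An element commuting with the involution is in the model times the block. -/
theorem exists_gl {x : B.NB 2} (hx : Commute (x : G) (B.j 5)) :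
    ∃ v n, (x : G) = B.gl v * B.j (blk 2 n) := by
  have ha : Commute (x : G) B.a := by
    rw [← j_tc, ← ncent_tab.2.2.2.1, ← j_mul]
    exact hx.mul_right (B.comm_blk x.2 1)
  obtain ⟨y, hy⟩ := B.mem_range_of_commute ha
  have hcom : ∀ i, Commute (x : G) (B.j i) → ∀ k, (y : Perm (Fin 12)) (elP i k) = elP i ((y : Perm (Fin 12)) k) :=
    fun i hi k => by
      rw [← hy] at hi
      have e : y * el i = el i * y := B.inj (by rw [map_mul, map_mul]; exact hi.eq)
      exact Equiv.ext_iff.1 (congrArg Subtype.val e) k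
  obtain ⟨-, -, -, -, -, -, t1, t2, t3, t4, t5⟩ := lift12_tab
  have h16 := hcom (blk 2 1) (B.comm_blk x.2 1)
  have hblk : blk 2 1 = 16 := by decide +kernel
  rw [hblk] at h16
  have hlo : ∀ i : Fin 12, i.val < 8 → ((y : Perm (Fin 12)) i).val < 8 := fun i hi => by
    obtain ⟨-, e, -, -⟩ := t3 i hi
    by_contra hge
    exact t4 _ (not_lt.1 hge) (by rw [← h16, e])
  have hhi : ∀ i : Fin 12, 8 ≤ i.val → 8 ≤ ((y : Perm (Fin 12)) i).val := fun i hi => by
    by_contra hlt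
    obtain ⟨-, e, -, -⟩ := t3 _ (not_le.1 hlt)
    rw [← h16] at e
    exact t4 i hi ((y : Perm (Fin 12)).injective e)
  obtain ⟨n, hn⟩ := t2 _ (hhi 8 le_rfl)
  set y' := (y : Perm (Fin 12)) * elP (blk 2 n) with hy'
  have h8 : y' 8 = 8 := by
    have e := hcom (blk 2 n) (B.comm_blk x.2 n) 8
    rw [hy', Perm.mul_apply, e, show (y : Perm (Fin 12)) 8 = elP (blk 2 n) 8 from hn.symm]
    have := congrArg Subtype.val ((el_mul (blk 2 n) (blk 2 n)).trans (by rw [xr_self, el_zero]))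
    exact Equiv.ext_iff.1 this 8
  have hfix : ∀ i : Fin 12, 8 ≤ i.val → y' i = i := fun i hi => by
    obtain ⟨k, hk⟩ := t2 i hi
    have e1 := hcom (blk 2 k) (B.comm_blk x.2 k) (elP (blk 2 n) 8)
    have e2 : elP (blk 2 n) (elP (blk 2 k) 8) = elP (blk 2 k) (elP (blk 2 n) 8) :=
      Equiv.ext_iff.1 (congrArg Subtype.val (el_comm (blk 2 n) (blk 2 k)).eq) 8
    rw [show i = elP (blk 2 k) 8 from hk.symm, hy', Perm.mul_apply, e2, e1]
    exact congrArg _ h8
  have hsgn : Perm.sign y' = 1 := Perm.mem_alternatingGroup.1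
    (Subgroup.mem_inf.1 (mul_mem y.2 (elP_mem (blk 2 n)))).1
  have hc5 : Commute y' (ext8 le812 z8) := by
    have e5 : ext8 le812 z8 = elP 5 := Equiv.ext fun i => by
      show ext8 le812 (V.toP V.zV) i = _
      rw [ext8_fun12]; exact lift12_tab.1 i
    rw [e5]
    exact Commute.mul_left (Equiv.ext (hcom 5 hx)) (congrArg Subtype.val (el_comm (blk 2 n) 5).eq)
  obtain ⟨v, hv⟩ := exists_ext8 le812 hsgn hfix hc5
  refine ⟨v, n, ?_⟩
  have e : lift12 v = y * el (blk 2 n) := Subtype.ext hv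
  rw [gl_coe, e, map_mul, hy]
  show (x : G) = x * B.j (blk 2 n) * B.j (blk 2 n)
  rw [mul_assoc, j_mul_self, mul_one]

theorem iota_zcent {x : B.NB 2} (hx : Commute (QuotientGroup.mk x : B.NB 2 ⧸ B.WN) B.zbar) :
    Commute (x : G) (B.j 5) := by
  obtain ⟨n, hn⟩ := B.conj_lift (v := V.zV) (w := V.zV) (x := x) (by
    rw [← zbar, hx.eq, mul_inv_cancel_right])
  rw [B.gl_j.1, j_mul] at hn
  rcases eq_or_ne n 0 with rfl | hne
  · rw [ncent_tab.2.2.2.2.1, ncent_tab.2.2.2.2.2.2.2.2.2.1] at hn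
    exact mul_inv_eq_iff_eq_mul.1 hn
  · exfalso
    obtain ⟨h3, -, h0⟩ := ncent_tab.2.1 n hne
    have := (h 5 _ ncent_tab.2.2.2.2.2.2.1 h0).1 (isConj_iff.2 ⟨_, hn⟩)
    rw [ncent_tab.2.2.2.2.2.1, h3] at this
    omega

omit h in
theorem iota_inj : Function.Injective B.iota := by
  refine (injective_iff_map_eq_one _).2 fun v hv => ?_
  obtain ⟨n, hn⟩ := B.mem_WN.1 ((QuotientGroup.eq_one_iff _).1 hv)
  have e : lift12 v = el (blk 2 n) := B.inj (hn.symm.trans rfl)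
  have h8 := Equiv.ext_iff.1 (congrArg Subtype.val e) 8
  have hn0 : n = 0 := by
    by_contra hne
    refine (lift12_tab.2.2.2.2.2.2.1 n).2.2.1 hne ?_
    rw [← show fun12 v 8 = 8 from dif_neg (by decide)]
    exact h8.symm.trans (lift12_apply v 8)
  subst hn0
  exact lift12_inj (by rw [e, ncent_tab.2.2.2.2.1, el_zero, map_one])

omit h in
theorem orderOf_zbar : orderOf B.zbar = 2 := by
  rw [zbar, orderOf_injective B.iota B.iota_inj]
  exact orderOf_eq_prime (by decide +kernel) (by decide +kernel)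

theorem iota_range : B.iota.range = centralizer ({B.zbar} : Set (B.NB 2 ⧸ B.WN)) := by
  refine le_antisymm ?_ fun q hq => ?_
  · rintro _ ⟨v, rfl⟩
    rw [mem_centralizer_singleton_iff, zbar, ← map_mul, ← map_mul, V.zV_central]
  · obtain ⟨x, rfl⟩ := QuotientGroup.mk_surjective q
    obtain ⟨v, n, hv⟩ := B.exists_gl h (B.iota_zcent h (mem_centralizer_singleton_iff.1 hq))
    refine ⟨v, QuotientGroup.eq.2 (B.mem_WN.2 ⟨n, ?_⟩)⟩
    rw [Subgroup.coe_mul, Subgroup.coe_inv, hv, inv_mul_cancel_left]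

/-- The model as the centralizer in the quotient. -/
noncomputable def vemb : VEmb B.zbar := ⟨B.iota, B.iota_inj, B.iota_range h, rfl⟩

theorem zbar_fused : IsConj B.zbar (B.iota (aV1 * cV1)) := by
  obtain ⟨c0, hc0, -, a0, -⟩ := B.exists_cycle h 0
  obtain ⟨c1, hc1, -, a1, -⟩ := B.exists_cycle h 1
  have fix : ∀ {k l : Fin 3} {c : G}, c ∈ B.MB k → l ≠ k → ∀ n, c * B.j (blk l n) * c⁻¹ = B.j (blk l n) :=
    fun {k l c} hc hl n => by
      have e : B.j (blk l n) * c = c * B.j (blk l n) := mem_centralizer_iff.1 hc _ ⟨l, n, hl, rfl⟩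
      rw [← e, mul_inv_cancel_right]
  have hN : ∀ {k : Fin 3} {c : G}, c ∈ B.MB k → k ≠ 2 → c ∈ B.NB 2 := fun {k c} hc hk => by
    refine mem_centralizer_iff.2 ?_
    rintro _ ⟨n, rfl⟩
    exact mem_centralizer_iff.1 hc _ ⟨2, n, Ne.symm hk, rfl⟩
  let C : B.NB 2 := ⟨c1 * c0, mul_mem (hN hc1 (by decide)) (hN hc0 (by decide))⟩
  have hC : C * B.gl V.zV * C⁻¹ = B.gl (aV1 * cV1) := by
    refine Subtype.ext ?_
    show c1 * c0 * (B.gl V.zV : G) * (c1 * c0)⁻¹ = _
    rw [B.gl_j.1, B.gl_j.2.2.2.2.2, ← ncent_tab.2.2.2.2.2.2.2.1, ← ncent_tab.2.2.2.2.2.2.2.2.1,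
      ← j_mul, ← j_mul]
    calc c1 * c0 * (B.j (blk 0 1) * B.j (blk 1 1)) * (c1 * c0)⁻¹
        = c1 * (c0 * B.j (blk 0 1) * c0⁻¹) * c1⁻¹ * (c1 * (c0 * B.j (blk 1 1) * c0⁻¹) * c1⁻¹) := by group
      _ = B.j (blk 0 2) * B.j (blk 1 2) := by
        rw [a0, fix hc0 (by decide) 1, a1, fix hc1 (by decide) 2]
  refine isConj_iff.2 ⟨QuotientGroup.mk C, ?_⟩
  show (QuotientGroup.mk C : B.NB 2 ⧸ B.WN) * QuotientGroup.mk (B.gl V.zV) * (QuotientGroup.mk C)⁻¹ = _
  rw [← QuotientGroup.mk_inv, ← QuotientGroup.mk_mul, ← QuotientGroup.mk_mul, hC]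
  rfl

theorem quotient_iso : Nonempty (B.NB 2 ⧸ B.WN ≃* alternatingGroup (Fin 8)) ∨
    Nonempty (B.NB 2 ⧸ B.WN ≃* alternatingGroup (Fin 9)) := by
  obtain ⟨f1, -, -, -, f5, f6, f7, f8⟩ := four_facts
  rcases Cent32.exists_two (B.vemb h) f7 f8 (B.zbar_fused h) with ⟨K, hK, hKc, hK2, hK8, -⟩ | hT
  swap
  · obtain ⟨T⟩ := hT
    obtain ⟨S⟩ := T.exists_seeded
    exact S.eight_or_nine
  exfalso
  set z := B.zbar
  have hcm : ∀ a ∈ K, ∀ b ∈ K, a * b = b * a := fun a ha b hb =>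
    congrArg Subtype.val (hKc.is_comm.comm ⟨a, ha⟩ ⟨b, hb⟩)
  have hzz : z * z = 1 := by
    have := pow_orderOf_eq_one z
    rwa [B.orderOf_zbar, pow_two] at this
  have hzi : z⁻¹ = z := inv_eq_of_mul_eq_one_right hzz
  obtain ⟨k, hk, hk1, hkz⟩ : ∃ k ∈ K, k ≠ 1 ∧ k * z = z * k := by
    have hbot : K ≠ ⊥ := fun e => by rw [e, card_bot] at hK8; omega
    obtain ⟨n, hn, hn1⟩ := (Subgroup.bot_or_exists_ne_one K).resolve_left hbot
    by_cases hc : n * z = z * n
    · exact ⟨n, hn, hn1, hc⟩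
    have hn' : z * n * z ∈ K := by
      have := hK.conj_mem n hn z
      rwa [hzi] at this
    refine ⟨n * (z * n * z), mul_mem hn hn', fun e => hc ?_, ?_⟩
    · have hnn : n⁻¹ = n := inv_eq_of_mul_eq_one_right (by rw [← pow_two]; exact hK2 n hn)
      have e' : z * n * z = n := (inv_eq_of_mul_eq_one_right e).symm.trans hnn
      calc n * z = z * n * z * z := by rw [e']
        _ = z * n := by rw [mul_assoc (z * n), hzz, mul_one]
    · calc n * (z * n * z) * z = n * z * n := by simp only [mul_assoc, hzz, mul_one]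
        _ = z * (z * n * z * n) := by simp only [← mul_assoc, hzz, one_mul]
        _ = z * (n * (z * n * z)) := by rw [hcm _ hn' _ hn]
  obtain ⟨v, rfl⟩ : k ∈ B.iota.range := by
    rw [B.iota_range h]; exact mem_centralizer_singleton_iff.2 hkz
  have hv2 : v * v = 1 := B.iota_inj (by rw [map_mul, map_one, ← pow_two]; exact hK2 _ hk)
  have hv1 : v ≠ 1 := fun e => hk1 (by rw [e, map_one])
  have cl : ∀ w, B.iota w ∈ K → ∀ g, B.iota (g * w * g⁻¹) ∈ K := fun w hw g => by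
    rw [map_mul, map_mul, map_inv]; exact hK.conj_mem _ hw _
  have hz : z ∈ K := by
    show B.iota V.zV ∈ K
    rcases f5 v hv2 hv1 with e | ⟨g, e | ⟨g', e⟩⟩
    · rw [← e]; exact hk
    · rw [← e, map_mul]; exact mul_mem hk (cl _ hk g)
    · have h1 : B.iota (v * (g * v * g⁻¹)) ∈ K := by rw [map_mul]; exact mul_mem hk (cl _ hk g)
      rw [← e, map_mul B.iota (v * (g * v * g⁻¹))]
      exact mul_mem h1 (cl _ h1 g')
  obtain ⟨c1, hc1, -, a1, -⟩ := B.exists_cycle h 1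
  have hN : c1 ∈ B.NB 2 := by
    refine mem_centralizer_iff.2 ?_
    rintro _ ⟨n, rfl⟩
    exact mem_centralizer_iff.1 hc1 _ ⟨2, n, by decide, rfl⟩
  have hw : B.iota (uV * cV1) ∈ K := by
    have e : B.iota (uV * cV1) = QuotientGroup.mk ⟨c1, hN⟩ * z * (QuotientGroup.mk ⟨c1, hN⟩)⁻¹ := by
      show QuotientGroup.mk (B.gl (uV * cV1)) =
        (QuotientGroup.mk ⟨c1, hN⟩ : B.NB 2 ⧸ B.WN) * QuotientGroup.mk (B.gl V.zV) * (QuotientGroup.mk ⟨c1, hN⟩)⁻¹
      rw [← QuotientGroup.mk_inv, ← QuotientGroup.mk_mul, ← QuotientGroup.mk_mul]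
      refine congrArg _ (Subtype.ext ?_)
      show _ = c1 * (B.gl V.zV : G) * c1⁻¹
      rw [map_mul, Subgroup.coe_mul, B.gl_j.1, B.gl_j.2.1, B.gl_j.2.2.2.1,
        ← ncent_tab.2.2.2.2.2.2.2.1, ← j_mul,
        show c1 * (B.j (blk 0 1) * B.j (blk 1 1)) * c1⁻¹ =
          c1 * B.j (blk 0 1) * c1⁻¹ * (c1 * B.j (blk 1 1) * c1⁻¹) by group, a1,
        show c1 * B.j (blk 0 1) * c1⁻¹ = B.j (blk 0 1) by
          have e : B.j (blk 0 1) * c1 = c1 * B.j (blk 0 1) :=
            mem_centralizer_iff.1 hc1 _ ⟨0, 1, by decide, rfl⟩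
          rw [← e, mul_inv_cancel_right]]
      rfl
    rw [e]; exact hK.conj_mem _ hz _
  obtain ⟨g, hg⟩ := f6
  exact hg (B.iota_inj ((map_mul _ _ _).trans ((hcm _ (cl _ hw g) _ hw).trans (map_mul _ _ _).symm)))

/-- The quotient as an alternating group, agreeing with the model. -/
theorem exists_psi : ∃ (m : ℕ) (hm : 8 ≤ m) (ψ : alternatingGroup (Fin m) ≃* B.NB 2 ⧸ B.WN),
    m ≤ 9 ∧ ∀ v, ψ (altV hm v) = B.iota v := by
  classical
  obtain ⟨m, hm, hm9, ⟨φ⟩⟩ : ∃ m, 8 ≤ m ∧ m ≤ 9 ∧ Nonempty (B.NB 2 ⧸ B.WN ≃* alternatingGroup (Fin m)) := by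
    rcases B.quotient_iso h with e | e
    exacts [⟨8, le_rfl, by norm_num, e⟩, ⟨9, by norm_num, le_rfl, e⟩]
  let β : V →* Perm (Fin m) := (alternatingGroup (Fin m)).subtype.comp (φ.toMonoidHom.comp B.iota)
  have hβi : Function.Injective β := Subtype.coe_injective.comp (φ.injective.comp B.iota_inj)
  have hβs : ∀ v, Perm.sign (β v) = 1 := fun v => Perm.mem_alternatingGroup.1 (φ (B.iota v)).2
  have hβc : ∀ p : Perm (Fin m), Perm.sign p = 1 → Commute p (β V.zV) → ∃ v, β v = p := by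
    intro p hp hc
    let P : alternatingGroup (Fin m) := ⟨p, Perm.mem_alternatingGroup.2 hp⟩
    have : φ.symm P ∈ B.iota.range := by
      rw [B.iota_range h, mem_centralizer_singleton_iff]
      apply φ.injective
      rw [map_mul, map_mul, φ.apply_symm_apply]
      exact Subtype.ext hc.eq
    obtain ⟨v, hv⟩ := this
    exact ⟨v, by show (φ (B.iota v) : Perm (Fin m)) = p; rw [hv, φ.apply_symm_apply]⟩
  have hord : ∀ {v : V}, orderOf v = 2 → orderOf (β v) = 2 := fun {v} hv => by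
    rw [orderOf_injective β hβi, hv]
  have hoz : orderOf V.zV = 2 := orderOf_eq_prime (by decide +kernel) (by decide +kernel)
  have ht8 : (β V.zV).support.card = 8 := by
    rcases support_cases hm9 (hβs _) (hord hoz) with ⟨-, h4⟩ | ⟨-, h8⟩
    swap
    · exact h8
    exfalso
    obtain ⟨σ, hσ⟩ := exists_conj_four hm hm9 (hβs _) (hord hoz) h4
    let r : Perm (Fin 8) := Equiv.swap 4 5 * Equiv.swap 5 6
    obtain ⟨hr1, hr2, hr3, hr4⟩ : Perm.sign r = 1 ∧ r * r * r = 1 ∧ r ≠ 1 ∧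
        (Commute r (V.toP uV) ∧ Commute r (V.toP aV1) ∧ Commute (V.toP aV1) (V.toP uV)) := by
      refine ⟨by simp [r, Perm.sign_swap], ?_, ?_, ?_, ?_, ?_⟩ <;>
        (simp only [r, commute_iff_eq]; decide +kernel)
    let k : Perm (Fin 8) →* Perm (Fin m) := (MulAut.conj σ).toMonoidHom.comp (ext8 hm)
    have hk : Function.Injective k := (MulAut.conj σ).injective.comp (ext8_inj hm)
    have hks : ∀ q, Perm.sign (k q) = Perm.sign q := fun q => by
      show Perm.sign (σ * ext8 hm q * σ⁻¹) = _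
      rw [map_mul, map_mul, map_inv, mul_comm (Perm.sign σ), mul_inv_cancel_right, sign_ext8]
    have hku : k (V.toP uV) = β V.zV := hσ
    obtain ⟨x, hx⟩ := hβc (k r) (by rw [hks, hr1]) (hku ▸ hr4.1.map k)
    obtain ⟨q, hq⟩ := hβc (k (V.toP aV1)) (by rw [hks, V_even]) (hku ▸ hr4.2.2.map k)
    have hx3 : x * x * x = 1 := hβi (by rw [map_mul, map_mul, hx, ← map_mul, ← map_mul, hr2, map_one, map_one])
    have hx1 : x ≠ 1 := fun e => hr3 (hk (by rw [← hx, e, map_one, map_one]))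
    have hq2 : q * q = 1 := hβi (by
      rw [map_mul, hq, ← map_mul, ← V.toP_mul, model_facts.2.2.2.2.2.2.2.2.1, V.toP_one, map_one, map_one])
    have hqx : q * x = x * q := hβi (by
      rw [map_mul, map_mul, hq, hx]; exact (hr4.2.1.map k).eq.symm)
    rcases four_facts.1 x hx3 hx1 q hq2 hqx with e | e
    · rw [e, map_one] at hq
      exact (by decide +kernel : aV1 ≠ 1) (V.toP_inj ((hk (hq.symm.trans (map_one k).symm)).trans V.toP_one.symm))
    · rw [e, ← hku] at hq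
      exact (by decide +kernel : aV1 ≠ uV) (V.toP_inj (hk hq.symm))
  obtain ⟨σ, hσs, hσ⟩ := exists_even_conj hm hm9 (hβs _) (hord hoz) ht8
  let β' : V →* Perm (Fin m) := (MulAut.conj σ⁻¹).toMonoidHom.comp β
  have hβ'z : β' V.zV = ext8 hm z8 := by
    show σ⁻¹ * β V.zV * σ⁻¹⁻¹ = _
    rw [← hσ]; group
  have hfix : ∀ v, ∀ i : Fin m, 8 ≤ i.val → β' v i = i := by
    intro v i hi
    have hc : Commute (β' v) (ext8 hm z8) := by
      rw [← hβ'z]; exact Commute.map (V.zV_central v) β'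
    have e := Equiv.ext_iff.1 hc.eq i
    rw [Perm.mul_apply, Perm.mul_apply, ext8_ge hm z8 hi] at e
    rcases lt_or_ge (β' v i).val 8 with hlt | hge
    · rw [ext8_lt hm z8 hlt] at e
      have := congrArg Fin.val e
      exact absurd (Fin.ext this.symm : z8 ⟨(β' v i).val, hlt⟩ = ⟨(β' v i).val, hlt⟩) (z8_facts.1 _).2.1
    · exact Fin.ext (by have := (β' v i).isLt; have := i.isLt; omega)
  have hsgn' : ∀ v, Perm.sign (β' v) = 1 := fun v => by
    show Perm.sign (σ⁻¹ * β v * σ⁻¹⁻¹) = 1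
    rw [map_mul, map_mul, inv_inv, map_inv, hσs, hβs]; simp
  have hγ : ∀ v, ∃ w, ext8 hm (V.toP w) = β' v := fun v =>
    exists_ext8 hm (hsgn' v) (hfix v) (by rw [← hβ'z]; exact Commute.map (V.zV_central v) β')
  choose γ hγ using hγ
  have einj : ∀ {a b : V}, ext8 hm (V.toP a) = ext8 hm (V.toP b) → a = b := fun e =>
    V.toP_inj (ext8_inj hm e)
  have γmul : ∀ a b, γ (a * b) = γ a * γ b := fun a b => einj (by
    rw [hγ, map_mul, V.toP_mul, map_mul, hγ, hγ])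
  have γ1 : γ 1 = 1 := einj (by rw [hγ, map_one, V.toP_one, map_one])
  have γinj : ∀ {a b}, γ a = γ b → a = b := fun {a b} e => by
    have : β' a = β' b := by rw [← hγ, ← hγ, e]
    exact hβi ((MulAut.conj σ⁻¹).injective this)
  have hconj8 : ∀ {w : V}, IsConj (B.iota w) B.zbar → moved (γ w) = 8 := by
    intro w hc
    obtain ⟨g, hg⟩ := isConj_iff.1 (MonoidHom.map_isConj φ.toMonoidHom hc)
    have hb : (φ B.zbar : Perm (Fin m)) = g * β w * (g : Perm (Fin m))⁻¹ :=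
      (congrArg Subtype.val hg).symm
    have hbz : (φ B.zbar : Perm (Fin m)) = β V.zV := rfl
    rw [hbz] at hb
    rw [← moved_eq, ← card_support_ext8 hm, hγ, ← ht8, hb]
    show (σ⁻¹ * β w * σ⁻¹⁻¹).support.card = _
    rw [Perm.card_support_conj, Perm.card_support_conj]
  have hnot : ∀ {w : V}, w * w = 1 → w ≠ 1 → ¬ IsConj (B.iota w) B.zbar → moved (γ w) = 4 := by
    intro w hw hw1 hnc
    have ho : orderOf (β' w) = 2 := by
      refine orderOf_eq_prime (by rw [pow_two, ← map_mul, hw, map_one]) fun e => hw1 ?_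
      exact hβi ((MulAut.conj σ⁻¹).injective ((show β' w = 1 from e).trans (map_one β').symm))
    rcases support_cases hm9 (hsgn' w) ho with ⟨-, h4⟩ | ⟨-, h8⟩
    · rwa [← moved_eq, ← card_support_ext8 hm, hγ]
    exfalso
    obtain ⟨τ, hτs, hτ⟩ := exists_even_conj hm hm9 (hsgn' w) ho h8
    apply hnc
    let T : alternatingGroup (Fin m) := ⟨σ * τ * σ⁻¹, Perm.mem_alternatingGroup.2 (by
      rw [map_mul, map_mul, map_inv, hσs, hτs]; simp)⟩
    refine (isConj_iff.2 ⟨φ.symm T, φ.injective ?_⟩ : IsConj B.zbar (B.iota w)).symm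
    rw [map_mul, map_mul, map_inv, φ.apply_symm_apply]
    refine Subtype.ext ?_
    show σ * τ * σ⁻¹ * β V.zV * (σ * τ * σ⁻¹)⁻¹ = β w
    rw [show β w = σ * β' w * σ⁻¹ by show _ = σ * (σ⁻¹ * β w * σ⁻¹⁻¹) * σ⁻¹; group, ← hτ, ← hσ]
    group
  obtain ⟨ju, ja, jc, jau⟩ := (⟨B.gl_j.2.1, B.gl_j.2.2.1, B.gl_j.2.2.2.1, B.gl_j.2.2.2.2.1⟩ :
    (B.gl uV : G) = B.j 1 ∧ (B.gl aV1 : G) = B.j 2 ∧ (B.gl cV1 : G) = B.j 8 ∧ (B.gl (aV1 * uV) : G) = B.j 3)
  obtain ⟨-, -, -, -, -, -, -, u2, a2, b2, c2, au2, ab3, ab1, bc3, bc1, acc, auc, cuc, bu4, bu2⟩ := model_facts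
  have mu := hnot u2 (by decide +kernel) (B.iota_not_conj h (by simp) ju)
  have ma := hnot a2 (by decide +kernel) (B.iota_not_conj h (by simp) ja)
  have mc := hnot c2 (by decide +kernel) (B.iota_not_conj h (by simp) jc)
  have mau := hnot au2 (by decide +kernel) (B.iota_not_conj h (by simp) jau)
  have mb : moved (γ bV1) = 4 := by
    obtain ⟨g, hg⟩ := four_facts.2.1
    refine hnot b2 (by decide +kernel) fun hc => B.iota_not_conj h (i := 2) (by simp) ja ?_
    exact (isConj_iff.2 ⟨B.iota g, by rw [← map_inv, ← map_mul, ← map_mul, hg]⟩ :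
      IsConj (B.iota aV1) (B.iota bV1)).trans hc
  have mac := hconj8 (B.zbar_fused h).symm
  have γsq : ∀ {a : V}, a * a = 1 → γ a * γ a = 1 := fun {a} ha => by rw [← γmul, ha, γ1]
  have γne : ∀ {a : V}, a ≠ 1 → γ a ≠ 1 := fun {a} ha e => ha (γinj (e.trans γ1.symm))
  obtain ⟨g, e, hrel⟩ := rigid_table (γ aV1) (mem_twos _ (γsq a2) ma) (γ bV1) (mem_twos _ (γsq b2) mb)
    (by simp only [← γmul, ab3, γ1]) (by rw [← γmul]; exact γne ab1)
    (γ cV1) (mem_twos _ (γsq c2) mc) (by simp only [← γmul, bc3, γ1]) (by rw [← γmul]; exact γne bc1)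
    (by rw [← γmul, ← γmul, acc]) (fun e => (by decide +kernel : aV1 ≠ cV1) (γinj e))
    (by rw [← γmul, mac]; decide)
    (γ uV) (mem_twos _ (γsq u2) mu) (by rw [← γmul, ← γmul, auc]) (by rw [← γmul, ← γmul, cuc])
    (fun e => (by decide +kernel : cV1 ≠ uV) (γinj e)) (by rw [← γmul]; exact mau)
    (by simp only [← γmul, bu4, γ1]) (by simp only [← γmul]; exact γne bu2)
  let π : Perm (Fin 8) := V.toP g * cond e (Equiv.swap (0 : Fin 8) 1) 1
  have hπ : ∀ k, π k = V.act g (cond e (Equiv.swap (0 : Fin 8) 1 k) k) := fun k => by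
    cases e <;> rfl
  have hgen : ∀ t ∈ ([aV1, bV1, cV1, uV] : List V), V.toP (γ t) = π * V.toP t * π⁻¹ := by
    intro t ht
    rw [eq_mul_inv_iff_mul_eq]
    refine Equiv.ext fun i => ?_
    show V.act (γ t) (π i) = π (V.act t i)
    obtain ⟨r1, r2, r3, r4⟩ := hrel i
    rw [hπ, hπ]
    simp only [List.mem_cons, List.not_mem_nil, or_false] at ht
    rcases ht with rfl | rfl | rfl | rfl
    exacts [r1, r2, r3, r4]
  have hall : ∀ v, V.toP (γ v) = π * V.toP v * π⁻¹ := by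
    refine gen_induction (by rw [γ1, V.toP_one]; group) fun x hx => ?_
    have step : ∀ t, t ∈ ([aV1, bV1, cV1, uV] : List V) → V.toP (γ (x * t)) = π * V.toP (x * t) * π⁻¹ := by
      intro t ht
      rw [γmul, V.toP_mul, V.toP_mul, hx, hgen t ht]; group
    exact ⟨step _ (by simp), step _ (by simp), step _ (by simp), step _ (by simp)⟩
  let ρ : Perm (Fin m) := σ * ext8 hm π
  refine ⟨m, hm, (MulAut.conjNormal ρ).trans φ.symm, hm9, fun v => ?_⟩
  apply φ.injective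
  show φ (φ.symm _) = _
  rw [φ.apply_symm_apply]
  refine Subtype.ext ?_
  show ρ * ext8 hm (V.toP v) * ρ⁻¹ = β v
  have : β' v = ext8 hm π * ext8 hm (V.toP v) * (ext8 hm π)⁻¹ := by
    rw [← hγ, hall, map_mul, map_mul, map_inv]
  rw [show β v = σ * β' v * σ⁻¹ by show _ = σ * (σ⁻¹ * β v * σ⁻¹⁻¹) * σ⁻¹; group, this]
  show σ * ext8 hm π * ext8 hm (V.toP v) * (σ * ext8 hm π)⁻¹ = _
  group

/-- The centralizer of a block in the pattern of the alternating groups. -/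
theorem ndata : ∃ (m : ℕ) (th : alternatingGroup (Fin m) →* G), (m = 8 ∨ m = 9) ∧
    Function.Injective th ∧ th.range ≤ B.NB 2 ∧
    (∀ x : G, x ∈ B.NB 2 → ∃ n p, x = B.j (blk 2 n) * th p) ∧
    ∀ (x : C12) (p : alternatingGroup (Fin m)), (∀ i : Fin 12, 8 ≤ i.val → (x : Perm (Fin 12)) i = i) →
      (∀ (i : Fin m) (k : Fin 12), i.val < 8 → k.val = i.val →
        ((p : Perm (Fin m)) i).val = ((x : Perm (Fin 12)) k).val) →
      (∀ i : Fin m, 8 ≤ i.val → (p : Perm (Fin m)) i = i) → th p = B.f x := by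
  classical
  obtain ⟨m, hm, ψ, hm9, hψ⟩ := B.exists_psi h
  set N := B.NB 2
  let W := B.WN
  letI : CommGroup W := { (inferInstance : Group W) with
    mul_comm := fun a b => Subtype.ext ((B.WN_central b.2 (a : N)).eq) }
  let Φ : V × W →* N := MonoidHom.noncommCoprod B.gl W.subtype fun v w => B.WN_central w.2 (B.gl v)
  have hΦ : ∀ v (w : W), Φ (v, w) = B.gl v * (w : N) := fun v w => rfl
  have hΦi : Function.Injective Φ := by
    refine (injective_iff_map_eq_one _).2 ?_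
    rintro ⟨v, w⟩ e
    rw [hΦ] at e
    have hv : B.iota v = 1 := (QuotientGroup.eq_one_iff _).2 (by
      rw [eq_inv_of_mul_eq_one_left e]; exact inv_mem w.2)
    obtain rfl := (injective_iff_map_eq_one _).1 B.iota_inj v hv
    rw [map_one, one_mul] at e
    exact Prod.ext rfl (Subtype.ext e)
  let R : Subgroup N := Φ.range
  let ret : R →* W := (MonoidHom.snd V W).comp (MonoidHom.ofInjective hΦi).symm.toMonoidHom
  have hret : ∀ v w (hr : Φ (v, w) ∈ R), ret ⟨Φ (v, w), hr⟩ = w := fun v w hr => by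
    have e : (⟨Φ (v, w), hr⟩ : R) = MonoidHom.ofInjective hΦi (v, w) := Subtype.ext rfl
    show ((MonoidHom.ofInjective hΦi).symm _).2 = w
    rw [e, MulEquiv.symm_apply_apply]
  have hmodd : Odd R.index := by
    have hR : R = Subgroup.comap (QuotientGroup.mk' B.WN) B.iota.range := by
      ext x
      constructor
      · rintro ⟨⟨v, w⟩, rfl⟩
        refine ⟨v, ?_⟩
        show B.iota v = QuotientGroup.mk (B.gl v * (w : N))
        rw [QuotientGroup.mk_mul_of_mem _ w.2]; rfl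
      · rintro ⟨v, hv⟩
        exact ⟨(v, ⟨(B.gl v)⁻¹ * x, QuotientGroup.eq.1 hv⟩), mul_inv_cancel_left _ _⟩
    rw [hR, index_comap_of_surjective _ (QuotientGroup.mk'_surjective _)]
    have hcard := B.iota.range.card_mul_index
    rw [← Nat.card_congr (MonoidHom.ofInjective B.iota_inj).toEquiv, V.card,
      ← Nat.card_congr ψ.toEquiv] at hcard
    have : Nontrivial (Fin m) := Fin.nontrivial_iff_two_le.2 (by omega)
    rw [nat_card_alternatingGroup, Nat.card_fin] at hcard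
    rw [Nat.odd_iff]
    rcases (by omega : m = 8 ∨ m = 9) with rfl | rfl <;> norm_num [Nat.factorial] at hcard <;> omega
  let τ : N →* W := MonoidHom.transfer ret
  have hτW : ∀ w : W, τ (w : N) = w := by
    intro w
    have hw2 : w * w = 1 := by
      obtain ⟨n, hn⟩ := B.mem_WN.1 w.2
      refine Subtype.ext (Subtype.ext ?_)
      show ((w : N) : G) * ((w : N) : G) = 1
      rw [← hn, j_mul_self]
    have key : ∀ (k : ℕ) (g₀ : N), g₀⁻¹ * (w : N) ^ k * g₀ ∈ R → g₀⁻¹ * (w : N) ^ k * g₀ = (w : N) ^ k :=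
      fun k g₀ _ => by
        rw [mul_assoc, ← (B.WN_central (pow_mem w.2 k) g₀).eq, inv_mul_cancel_left]
    show MonoidHom.transfer ret (w : N) = w
    rw [MonoidHom.transfer_eq_pow ret _ key]
    obtain ⟨d, hd⟩ := hmodd
    have e : (w : N) ^ R.index = Φ (1, w) := by
      rw [hΦ, map_one, one_mul, hd, pow_succ, pow_mul, pow_two, ← Subgroup.coe_mul, hw2, Subgroup.coe_one,
        one_pow, one_mul]
    have hr : Φ (1, w) ∈ R := ⟨_, rfl⟩
    rw [show (⟨(w : N) ^ R.index, _⟩ : R) = ⟨Φ (1, w), hr⟩ from Subtype.ext e, hret]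
  have hKbij : Function.Bijective ((QuotientGroup.mk' B.WN).comp τ.ker.subtype) := by
    refine ⟨(injective_iff_map_eq_one _).2 fun x hx => ?_, fun q => ?_⟩
    · have hxW : (x : N) ∈ W := (QuotientGroup.eq_one_iff _).1 hx
      have h1 := hτW ⟨x, hxW⟩
      rw [show τ ((⟨x, hxW⟩ : W) : N) = 1 from x.2] at h1
      exact Subtype.ext (congrArg Subtype.val h1).symm
    · obtain ⟨x, rfl⟩ := QuotientGroup.mk_surjective q
      refine ⟨⟨x * (((τ x)⁻¹ : W) : N), ?_⟩, ?_⟩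
      · rw [MonoidHom.mem_ker, map_mul, hτW, mul_inv_cancel]
      · exact QuotientGroup.mk_mul_of_mem _ ((τ x)⁻¹).2
  let sec := (MulEquiv.ofBijective _ hKbij).symm
  let th : alternatingGroup (Fin m) →* G :=
    N.subtype.comp (τ.ker.subtype.comp (sec.toMonoidHom.comp ψ.toMonoidHom))
  have hsec : ∀ q, (QuotientGroup.mk ((sec q : τ.ker) : N) : N ⧸ B.WN) = q := fun q =>
    (MulEquiv.ofBijective _ hKbij).apply_symm_apply q
  -- the model lies in the complement
  have hτconj : ∀ x y : N, τ (x * y * x⁻¹) = τ y := fun x y => by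
    rw [map_mul, map_mul, map_inv, mul_comm (τ x), mul_inv_cancel_right]
  have hab : τ (B.gl aV1) = τ (B.gl uV) := by
    let au : ∀ {v : V}, v * v = 1 → v ≠ 1 → ¬ IsConj (B.iota v) B.zbar →
        ∃ σ : Perm (Fin m), σ * ext8 hm (V.toP uV) * σ⁻¹ = ext8 hm (V.toP v) := fun {v} hv hv1 hnc => by
      have ho : orderOf (ext8 hm (V.toP v)) = 2 := by
        refine orderOf_eq_prime (by rw [pow_two, ← map_mul, ← V.toP_mul, hv, V.toP_one, map_one]) fun e => hv1 ?_
        exact V.toP_inj ((ext8_inj hm (e.trans (map_one _).symm)).trans V.toP_one.symm)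
      have hs : Perm.sign (ext8 hm (V.toP v)) = 1 := by rw [sign_ext8, V_even]
      rcases support_cases hm9 hs ho with ⟨-, h4⟩ | ⟨-, h8⟩
      · exact exists_conj_four hm hm9 hs ho h4
      exfalso
      obtain ⟨σ, hσs, hσ⟩ := exists_even_conj hm hm9 hs ho h8
      refine hnc (IsConj.symm ?_)
      rw [zbar, ← hψ, ← hψ]
      refine MonoidHom.map_isConj ψ.toMonoidHom (isConj_iff.2 ⟨⟨σ, Perm.mem_alternatingGroup.2 hσs⟩, Subtype.ext ?_⟩)
      exact hσ
    obtain ⟨σ, hσ⟩ := au model_facts.2.2.2.2.2.2.2.2.1 (by decide +kernel)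
      (B.iota_not_conj h (i := 2) (by simp) B.gl_j.2.2.1)
    have hτeq : ∃ ρ : Perm (Fin m), Perm.sign ρ = 1 ∧ ρ * ext8 hm (V.toP uV) * ρ⁻¹ = ext8 hm (V.toP aV1) := by
      rcases Int.units_eq_one_or (Perm.sign σ) with e | e
      · exact ⟨σ, e, hσ⟩
      refine ⟨σ * ext8 hm (Equiv.swap 0 1), ?_, ?_⟩
      · rw [map_mul, e, sign_ext8, Perm.sign_swap (by decide)]; rfl
      · have hc : ext8 hm (Equiv.swap 0 1) * ext8 hm (V.toP uV) = ext8 hm (V.toP uV) * ext8 hm (Equiv.swap 0 1) := by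
          rw [← map_mul, ← map_mul]
          exact congrArg _ (Equiv.ext (by decide +kernel))
        rw [mul_assoc σ, hc, mul_inv_rev, show σ * (ext8 hm (V.toP uV) * ext8 hm (Equiv.swap 0 1)) *
          ((ext8 hm (Equiv.swap 0 1))⁻¹ * σ⁻¹) = σ * ext8 hm (V.toP uV) * σ⁻¹ by group, hσ]
    obtain ⟨ρ, hρs, hρ⟩ := hτeq
    let P : alternatingGroup (Fin m) := ⟨ρ, Perm.mem_alternatingGroup.2 hρs⟩
    obtain ⟨x, hx⟩ := QuotientGroup.mk_surjective (ψ P)
    obtain ⟨n, hn⟩ := B.conj_lift (v := uV) (w := aV1) (x := x) (by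
      rw [hx, ← hψ, ← hψ, ← map_inv, ← map_mul, ← map_mul]
      exact congrArg ψ (Subtype.ext hρ))
    rw [B.gl_j.2.1, B.gl_j.2.2.1, j_mul] at hn
    rcases eq_or_ne n 0 with rfl | hne
    · rw [ncent_tab.2.2.2.2.1, ncent_tab.2.2.2.2.2.2.2.2.2.2] at hn
      rw [← hτconj x (B.gl uV)]
      exact congrArg τ (Subtype.ext (by
        show _ = (x : G) * (B.gl uV : G) * (x : G)⁻¹
        rw [B.gl_j.2.1, hn, B.gl_j.2.2.1]))
    · exfalso
      obtain ⟨-, hall⟩ := ncent_tab.2.2.1 2 (by simp)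
      obtain ⟨-, h20, -, -, h22⟩ := hall n
      obtain ⟨h10, h1all⟩ := ncent_tab.2.2.1 1 (by simp)
      have := (h 1 _ h10 h20).1 (isConj_iff.2 ⟨_, hn⟩)
      have := (h1all n).2.2.1
      have := h22 hne
      omega
  have hu : τ (B.gl uV) = 1 := by
    obtain ⟨x, y, hxy⟩ := four_facts.2.2.2.1
    rw [← hxy, map_mul, map_mul, map_mul, map_inv, map_inv, map_mul, map_mul, map_mul, map_inv, map_inv,
      mul_comm (τ (B.gl x)), mul_inv_cancel_right, mul_inv_cancel]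
  have ha : τ (B.gl aV1) = 1 := hab.trans hu
  have hb : τ (B.gl bV1) = 1 := by
    obtain ⟨g, hg⟩ := four_facts.2.1
    rw [← hg, map_mul B.gl, map_mul B.gl, map_inv B.gl, hτconj, ha]
  have hc : τ (B.gl cV1) = 1 := by
    obtain ⟨g, hg⟩ := four_facts.2.2.1
    rw [← hg, map_mul B.gl, map_mul B.gl, map_inv B.gl, hτconj, hb]
  have hker : ∀ v, τ (B.gl v) = 1 := by
    refine gen_induction (by rw [map_one, map_one]) fun x hx => ?_
    simp only [map_mul, hx, ha, hb, hc, hu, one_mul, and_self]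
  refine ⟨m, th, by omega, ?_, ?_, ?_, ?_⟩
  · exact N.subtype_injective.comp (τ.ker.subtype_injective.comp (sec.injective.comp ψ.injective))
  · rintro _ ⟨p, rfl⟩
    exact ((sec (ψ p) : τ.ker) : N).2
  · intro x hx
    let X : N := ⟨x, hx⟩
    obtain ⟨n, hn⟩ := B.mem_WN.1 (τ X).2
    refine ⟨n, ψ.symm (QuotientGroup.mk X), ?_⟩
    show x = _ * ((sec (ψ (ψ.symm (QuotientGroup.mk X))) : τ.ker) : N).1
    rw [ψ.apply_symm_apply, hn]
    set K := sec (QuotientGroup.mk X)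
    have hmem := QuotientGroup.eq.1 (hsec (QuotientGroup.mk X))
    obtain ⟨w, hw⟩ : ∃ w : W, (w : N) = ((K : τ.ker) : N)⁻¹ * X := ⟨⟨_, hmem⟩, rfl⟩
    have hτ : τ X = w := by
      have h1 := hτW w
      rw [hw, map_mul, map_inv, show τ ((K : τ.ker) : N) = 1 from (K : τ.ker).2, inv_one, one_mul] at h1
      exact h1
    rw [hτ]
    show (X : G) = (((w : N) * ((K : τ.ker) : N) : N) : G)
    rw [← (B.WN_central w.2 ((K : τ.ker) : N)).eq, hw, mul_inv_cancel_left]
  · intro x p hx hp hpfix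
    have hxv : ∃ v, lift12 v = x := by
      have hsgn : Perm.sign (x : Perm (Fin 12)) = 1 :=
        Perm.mem_alternatingGroup.1 (Subgroup.mem_inf.1 x.2).1
      have hlt : ∀ i : Fin 12, i.val < 8 → ((x : Perm (Fin 12)) i).val < 8 := fun i hi => by
        by_contra hge
        exact hge (by rw [(x : Perm (Fin 12)).injective (hx _ (not_lt.1 hge))]; exact hi)
      have hc8 : Commute (x : Perm (Fin 12)) (ext8 le812 z8) := by
        refine Equiv.ext fun i => ?_
        show (x : Perm (Fin 12)) (ext8 le812 z8 i) = ext8 le812 z8 ((x : Perm (Fin 12)) i)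
        by_cases hi : i.val < 8
        · have hz : ∀ k : Fin 12, (hk : k.val < 8) → ext8 le812 z8 k = tcP k := by
            intro k hk
            rw [show ext8 le812 z8 k = fun12 V.zV k from ext8_fun12 V.zV k]
            revert hk k
            decide +kernel
          rw [hz i hi, hz _ (hlt i hi), comm_tc x.2]
        · rw [ext8_ge le812 z8 (not_lt.1 hi), hx i (not_lt.1 hi), ext8_ge le812 z8 (not_lt.1 hi)]
      obtain ⟨v, hv⟩ := exists_ext8 le812 hsgn hx hc8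
      exact ⟨v, Subtype.ext hv⟩
    obtain ⟨v, rfl⟩ := hxv
    have hpv : p = altV hm v := by
      refine Subtype.ext (Equiv.ext fun i => Fin.ext ?_)
      rw [altV_coe]
      by_cases hi : i.val < 8
      · rw [hp i ⟨i.val, by omega⟩ hi rfl, lift12_apply, ext8_lt hm _ hi, fun12, dif_pos hi]
        rfl
      · rw [hpfix i (not_lt.1 hi), ext8_ge hm _ (not_lt.1 hi)]
    subst hpv
    show ((sec (ψ (altV hm v)) : τ.ker) : N).1 = _
    have e : sec (ψ (altV hm v)) = ⟨B.gl v, hker v⟩ := by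
      rw [hψ]
      exact (MulEquiv.ofBijective _ hKbij).injective (((MulEquiv.ofBijective _ hKbij).apply_symm_apply _).trans rfl)
    rw [e]
    rfl

end Setup

end Cfsg.Agent.A12Type
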