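import Cfsg.Agent.A12Type.BuildTab
import Cfsg.Agent.A12Type.NCent

/-!
Elements outside the domain of the alternating factor commuting with its three-cycles on the first
block.
-/

set_option autoImplicit false
set_option maxRecDepth 100000

namespace Cfsg.Agent.A12Type

open Equiv Subgroup Cfsg.Agent.AltMult

/-- Permutations of eight points in the alternating group of a larger degree. -/
noncomputable def up8 {m : ℕ} (h : 8 ≤ m) : alternatingGroup (Fin 8) →* alternatingGroup (Fin m) :=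
  ((ext8 h).comp (alternatingGroup (Fin 8)).subtype).codRestrict _ fun q => by
    show ext8 h (q : Perm (Fin 8)) ∈ _
    rw [Perm.mem_alternatingGroup, sign_ext8]
    exact Perm.mem_alternatingGroup.1 q.2

theorem up8_coe {m : ℕ} (h : 8 ≤ m) (q : alternatingGroup (Fin 8)) :
    (up8 h q : Perm (Fin m)) = ext8 h (q : Perm (Fin 8)) := rfl

theorem ext8_swap {m : ℕ} (h : 8 ≤ m) (a b : Fin 8) :
    ext8 h (swap a b) = swap (Fin.castLE h a) (Fin.castLE h b) := by
  refine Equiv.ext fun i => ?_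
  by_cases hi : i.val < 8
  · rw [ext8_lt h _ hi, ← (Fin.castLE_injective h).swap_apply a b ⟨i.val, hi⟩]
    rfl
  · rw [ext8_ge h _ (not_lt.1 hi), swap_apply_of_ne_of_ne]
    · exact fun e => hi (by rw [e]; exact a.isLt)
    · exact fun e => hi (by rw [e]; exact b.isLt)

theorem le89 : 8 ≤ 9 := by norm_num

/-- The permutations behind the relations of the cycle through the ninth point. -/
theorem nine_perms :
    (∀ k : Fin 3, (cyc (0 : Fin 9) 1 8) * (![swap (Fin.castLE le89 4) (Fin.castLE le89 5) *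
        swap (Fin.castLE le89 6) (Fin.castLE le89 7), swap (Fin.castLE le89 4) (Fin.castLE le89 6) *
        swap (Fin.castLE le89 5) (Fin.castLE le89 7), swap (Fin.castLE le89 4) (Fin.castLE le89 7) *
        swap (Fin.castLE le89 5) (Fin.castLE le89 6)] : Fin 3 → Perm (Fin 9)) k =
      (![swap (Fin.castLE le89 4) (Fin.castLE le89 5) *
        swap (Fin.castLE le89 6) (Fin.castLE le89 7), swap (Fin.castLE le89 4) (Fin.castLE le89 6) *
        swap (Fin.castLE le89 5) (Fin.castLE le89 7), swap (Fin.castLE le89 4) (Fin.castLE le89 7) *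
        swap (Fin.castLE le89 5) (Fin.castLE le89 6)] : Fin 3 → Perm (Fin 9)) k * cyc (0 : Fin 9) 1 8) ∧
    ∀ x : Fin 8, x = 2 ∨ x = 3 →
      cyc (0 : Fin 9) 1 8 * cyc (Fin.castLE le89 0) (Fin.castLE le89 1) (Fin.castLE le89 x) *
        (cyc (0 : Fin 9) 1 8 * cyc (Fin.castLE le89 0) (Fin.castLE le89 1) (Fin.castLE le89 x)) = 1 := by
  decide +kernel

theorem ext8_cyc {m : ℕ} (h : 8 ≤ m) (a b c : Fin 8) :
    ext8 h (cyc a b c) = cyc (Fin.castLE h a) (Fin.castLE h b) (Fin.castLE h c) := by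
  rw [cyc, map_mul, ext8_swap, ext8_swap]; rfl

namespace Setup

variable {G : Type*} [Group G] [Finite G] (B : Setup G)

/-- The alternating factor of the centralizer of the last block. -/
structure ND (m : ℕ) (th : alternatingGroup (Fin m) →* G) : Prop where
  le8 : 8 ≤ m
  le9 : m ≤ 9
  inj : Function.Injective th
  le : th.range ≤ B.NB 2
  span : ∀ x : G, x ∈ B.NB 2 → ∃ n p, x = B.j (blk 2 n) * th p
  agr : ∀ (x : C12) (p : alternatingGroup (Fin m)),
    (∀ i : Fin 12, 8 ≤ i.val → (x : Perm (Fin 12)) i = i) →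
    (∀ (i : Fin m) (k : Fin 12), i.val < 8 → k.val = i.val →
      ((p : Perm (Fin m)) i).val = ((x : Perm (Fin 12)) k).val) →
    (∀ i : Fin m, 8 ≤ i.val → (p : Perm (Fin m)) i = i) → th p = B.f x

/-- An element of order three acting on the first block and centralizing the others. -/
structure Cyc (c : G) : Prop where
  cube : c ^ 3 = 1
  v0 : ∀ n, ∃ n', c * B.j (blk 0 n) * c⁻¹ = B.j (blk 0 n')
  v12 : ∀ k n, k ≠ 0 → Commute c (B.j (blk k n))

/-- The alternating factor of the centralizer of the first block. -/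
def T0 {m : ℕ} (th : alternatingGroup (Fin m) →* G) : Subgroup G :=
  th.range.map (MulAut.conj (B.f g02)).toMonoidHom

variable {B} {m : ℕ} {th : alternatingGroup (Fin m) →* G}

theorem ND.th_eq (N : B.ND m th) (x : C12) (q : alternatingGroup (Fin 8))
    (h : ∀ i, (x : Perm (Fin 12)) i = fun8 (q : Perm (Fin 8)) i) : th (up8 N.le8 q) = B.f x := by
  refine N.agr x _ (fun i hi => ?_) (fun i k hi hk => ?_) fun i hi => ?_
  · rw [h, fun8, dif_neg (not_lt.2 hi)]
  · rw [up8_coe, ext8_lt _ _ hi, h, fun8, dif_pos (hk ▸ hi)]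
    simp [hk]
  · rw [up8_coe, ext8_ge _ _ hi]

theorem ND.dom_exists (x : C12) (hx : ∀ i : Fin 12, 8 ≤ i.val → (x : Perm (Fin 12)) i = i) :
    ∃ q : alternatingGroup (Fin 8), ∀ i, (x : Perm (Fin 12)) i = fun8 (q : Perm (Fin 8)) i := by
  set p := (x : Perm (Fin 12)) with hp
  have hlt : ∀ i : Fin 8, (p (Fin.castLE le812 i)).val < 8 := fun i => by
    by_contra hge
    have := p.injective (hx _ (not_lt.1 hge))
    exact hge (by rw [this]; exact i.isLt)
  let f : Fin 8 → Fin 8 := fun i => ⟨(p (Fin.castLE le812 i)).val, hlt i⟩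
  have hf : Function.Injective f := fun i j e => by
    exact Fin.castLE_injective le812 (p.injective (Fin.ext (congrArg Fin.val e :)))
  let q : Perm (Fin 8) := Equiv.ofBijective f (Finite.injective_iff_bijective.1 hf)
  have hq : ext8 le812 q = p := Equiv.ext fun i => by
    by_cases hi : i.val < 8
    · rw [ext8_lt le812 q hi]; exact Fin.ext rfl
    · rw [ext8_ge le812 q (not_lt.1 hi), hx i (not_lt.1 hi)]
  refine ⟨⟨q, Perm.mem_alternatingGroup.2 ?_⟩, fun i => ?_⟩
  · rw [← sign_ext8 le812, hq]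
    exact Perm.mem_alternatingGroup.1 (Subgroup.mem_inf.1 x.2).1
  · show p i = _
    rw [show p i = ext8 le812 q i by rw [hq], fun8]
    split
    · exact ext8_lt le812 q _
    · exact ext8_ge le812 q (not_lt.1 ‹_›)

theorem ND.th_blk (N : B.ND m th) (k : Fin 2) (n : Fin 4) :
    th (up8 N.le8 (w8 k n)) = B.j (blk k.castSucc n) := by
  unfold Setup.j
  refine N.th_eq (el (blk k.castSucc n)) (w8 k n) fun i => ?_
  have h := dom8_facts.1 k n i
  rw [← h]
  rfl

theorem f_g02_sq : B.f g02 * B.f g02 = 1 := by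
  rw [← map_mul, ← map_one B.f]
  refine congrArg B.f (Subtype.ext ?_)
  show g02P * g02P = 1
  refine Equiv.ext fun i => ?_
  rw [Perm.mul_apply, Perm.one_apply]
  exact dom8_facts.2.2.2.2.2.2 i

theorem f_gC_sq (g : Fin 4) : B.f (gC g) * B.f (gC g) = 1 := by
  rw [← map_mul, ← map_one B.f]
  exact congrArg B.f (Subtype.ext (Equiv.ext (stage_facts.2.2.2.2.1 g)))

theorem f_gC_inv (g : Fin 4) : (B.f (gC g))⁻¹ = B.f (gC g) :=
  inv_eq_of_mul_eq_one_right (f_gC_sq g)

theorem mem_T0 {x : G} : x ∈ B.T0 th ↔ ∃ p, B.f g02 * th p * (B.f g02)⁻¹ = x := by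
  simp [T0, MonoidHom.mem_range, Subgroup.mem_map]

theorem conj_g02_blk (n : Fin 4) : B.f g02 * B.j (blk 2 n) * (B.f g02)⁻¹ = B.j (blk 0 n) := by
  rw [inv_eq_of_mul_eq_one_right f_g02_sq, j, j, ← map_mul, ← map_mul]
  exact congrArg B.f (Subtype.ext (Equiv.ext (dom8_facts.2.2.2.2.1 n)))

theorem ND.T0_comm (N : B.ND m th) {x : G} (hx : x ∈ B.T0 th) (n : Fin 4) :
    Commute x (B.j (blk 0 n)) := by
  obtain ⟨p, rfl⟩ := mem_T0.1 hx
  rw [← conj_g02_blk]
  exact (Commute.conj_iff (B.f g02)).2 (B.comm_blk (N.le ⟨p, rfl⟩) n)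

theorem ND.disj (N : B.ND m th) {n : Fin 4} {p : alternatingGroup (Fin m)}
    (e : B.j (blk 2 n) = th p) : p = 1 := by
  have hc : p ∈ Subgroup.center (alternatingGroup (Fin m)) := by
    refine Subgroup.mem_center_iff.2 fun q => N.inj ?_
    rw [map_mul, map_mul, ← e]
    exact (B.comm_blk (N.le ⟨q, rfl⟩) n).eq
  rwa [alternatingGroup.center_eq_bot (by have := N.le8; simp; omega), Subgroup.mem_bot] at hc

theorem ND.disj0 (N : B.ND m th) {n : Fin 4} (h : B.j (blk 0 n) ∈ B.T0 th) : n = 0 := by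
  obtain ⟨p, hp⟩ := mem_T0.1 h
  rw [← conj_g02_blk] at hp
  have e : B.j (blk 2 n) = th p := (mul_left_cancel (mul_right_cancel hp)).symm
  rw [N.disj e, map_one, ← B.j_zero] at e
  have := B.j_inj e
  exact (by decide +kernel : ∀ n : Fin 4, blk 2 n = 0 → n = 0) n this

theorem ND.order_three (N : B.ND m th) {x : G} (hx : x ∈ B.NB 2) (h3 : x ^ 3 = 1) :
    ∃ p, x = th p ∧ p ^ 3 = 1 := by
  obtain ⟨n, p, rfl⟩ := N.span x hx
  rw [(B.comm_blk (N.le ⟨p, rfl⟩) n).symm.mul_pow, pow_succ (B.j (blk 2 n)), pow_two,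
    B.j_mul_self, one_mul, ← map_pow] at h3
  have e : B.j (blk 2 n) = th (p ^ 3)⁻¹ := by rw [map_inv]; exact eq_inv_of_mul_eq_one_left h3
  have h1 := N.disj e
  rw [h1, map_one] at e
  exact ⟨p, by rw [e, one_mul], inv_eq_one.1 h1⟩

theorem Cyc.inv_v0 {c : G} (hc : B.Cyc c) (n : Fin 4) :
    ∃ n', c⁻¹ * B.j (blk 0 n) * c = B.j (blk 0 n') := by
  obtain ⟨n1, h1⟩ := hc.v0 n
  obtain ⟨n2, h2⟩ := hc.v0 n1
  refine ⟨n2, ?_⟩
  have h3 : c⁻¹ = c * c := inv_eq_of_mul_eq_one_left (by rw [← hc.cube, pow_three, mul_assoc])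
  calc c⁻¹ * B.j (blk 0 n) * c = c * c * B.j (blk 0 n) * (c * c)⁻¹ := by rw [← h3, inv_inv]
    _ = c * (c * B.j (blk 0 n) * c⁻¹) * c⁻¹ := by group
    _ = _ := by rw [h1, h2]

theorem ND.conj_T0 (N : B.ND m th) {c : G} (hc : B.Cyc c) {y : G} (hy : y ∈ B.T0 th) :
    c * y * c⁻¹ ∈ B.T0 th := by
  obtain ⟨p, rfl⟩ := mem_T0.1 hy
  let P : Subgroup (alternatingGroup (Fin m)) := (B.T0 th).comap
    (((MulAut.conj c).toMonoidHom.comp (MulAut.conj (B.f g02)).toMonoidHom).comp th)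
  suffices h : P = ⊤ from (show p ∈ P by rw [h]; exact Subgroup.mem_top p)
  have h3 : ∀ q : alternatingGroup (Fin m), q ^ 3 = 1 → q ∈ P := by
    intro q hq
    show c * (B.f g02 * th q * (B.f g02)⁻¹) * c⁻¹ ∈ B.T0 th
    set g := B.f g02
    have hN : g⁻¹ * (c * (g * th q * g⁻¹) * c⁻¹) * g ∈ B.NB 2 := by
      refine mem_centralizer_iff.2 ?_
      rintro _ ⟨n, rfl⟩
      obtain ⟨n', hn'⟩ := hc.inv_v0 n
      have e1 := conj_g02_blk (B := B) n
      have e2 := conj_g02_blk (B := B) n'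
      have e3 := (B.comm_blk (N.le ⟨q, rfl⟩) n').eq
      have e4 : (g⁻¹ * c⁻¹ * g) * B.j (blk 2 n) * (g⁻¹ * c⁻¹ * g)⁻¹ = B.j (blk 2 n') := by
        calc _ = g⁻¹ * (c⁻¹ * (g * B.j (blk 2 n) * g⁻¹) * c) * g := by group
          _ = g⁻¹ * (g * B.j (blk 2 n') * g⁻¹) * g := by rw [e1, hn', ← e2]
          _ = _ := by group
      calc B.j (blk 2 n) * (g⁻¹ * (c * (g * th q * g⁻¹) * c⁻¹) * g)
          = (g⁻¹ * c * g) * ((g⁻¹ * c⁻¹ * g) * B.j (blk 2 n) * (g⁻¹ * c⁻¹ * g)⁻¹ * th q) *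
              (g⁻¹ * c * g)⁻¹ := by group
        _ = (g⁻¹ * c * g) * (th q * ((g⁻¹ * c⁻¹ * g) * B.j (blk 2 n) * (g⁻¹ * c⁻¹ * g)⁻¹)) *
              (g⁻¹ * c * g)⁻¹ := by rw [e4, e3]
        _ = _ := by group
    obtain ⟨r, hr, -⟩ := N.order_three hN (by
      have : g⁻¹ * (c * (g * th q * g⁻¹) * c⁻¹) * g = (g⁻¹ * c * g) * th q * (g⁻¹ * c * g)⁻¹ := by group
      rw [this, conj_pow, ← map_pow, hq, map_one, mul_one, mul_inv_cancel])
    refine mem_T0.2 ⟨r, ?_⟩
    show g * th r * g⁻¹ = _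
    rw [← hr]
    group
  have hle : alternatingGroup (Fin m) ≤ P.map (alternatingGroup (Fin m)).subtype := by
    refine (Perm.closure_three_cycles_eq_alternating (α := Fin m)).symm.trans_le
      ((Subgroup.closure_le _).2 fun σ hσ => ?_)
    refine ⟨⟨σ, hσ.mem_alternatingGroup⟩, h3 _ (Subtype.ext ?_), rfl⟩
    show σ ^ 3 = 1
    rw [← hσ.orderOf]
    exact pow_orderOf_eq_one σ
  refine (Subgroup.eq_top_iff' P).2 fun q => ?_
  obtain ⟨q', hq', e⟩ := hle q.2
  rwa [show q' = q from Subtype.ext e] at hq'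

theorem ND.conj_mem_T0 (N : B.ND m th) (r : C12) (q : alternatingGroup (Fin 8))
    (h : ∀ i, (g02P * (r : Perm (Fin 12)) * g02P) i = fun8 (q : Perm (Fin 8)) i) :
    B.f r ∈ B.T0 th := by
  refine mem_T0.2 ⟨up8 N.le8 q, ?_⟩
  rw [N.th_eq (g02 * r * g02) q h, map_mul, map_mul]
  rw [inv_eq_of_mul_eq_one_right f_g02_sq]
  calc B.f g02 * (B.f g02 * B.f r * B.f g02) * B.f g02
      = (B.f g02 * B.f g02) * B.f r * (B.f g02 * B.f g02) := by group
    _ = B.f r := by rw [f_g02_sq, one_mul, mul_one]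

theorem ND.blk_T0 (N : B.ND m th) {k : Fin 3} (hk : k ≠ 0) (n : Fin 4) :
    B.j (blk k n) ∈ B.T0 th := by
  rcases (by decide : ∀ k : Fin 3, k ≠ 0 → k = 1 ∨ k = 2) k hk with rfl | rfl
  · exact N.conj_mem_T0 _ _ (dom8_facts.2.2.1 n)
  · exact N.conj_mem_T0 _ _ (dom8_facts.2.1 n)

theorem ND.gC_T0 (N : B.ND m th) (g : Fin 3) : B.f (gC g.castSucc) ∈ B.T0 th :=
  N.conj_mem_T0 _ _ (dom8_facts.2.2.2.1 g)

/-- An element of order three commutes with an element of the factor of the first block which does so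
on a large enough set. -/
theorem ND.commute_core (N : B.ND m th) {c : G} (hc : B.Cyc c) {r : C12} (hr : B.f r ∈ B.T0 th)
    (Φ : Set C12) (hΦ : ∀ φ ∈ Φ, Commute c (B.f φ))
    (hΦr : ∀ φ ∈ Φ, Commute c (B.f (r * φ * r⁻¹)))
    (h1 : el (blk 1 1) ∈ Φ) (h2 : el (blk 2 1) ∈ Φ)
    (tab : ∀ x : C12, (∀ n, Commute x (el (blk 0 n))) → (∀ φ ∈ Φ, Commute x φ) →
      x * x = 1 ∧ ∃ i w, x = el i * w ∧ B.f w ∈ B.T0 th ∧ Commute c (B.f w)) :
    Commute c (B.f r) := by
  set R := B.f r with hR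
  have hy := N.conj_T0 hc hr
  set u := R⁻¹ * (c * R * c⁻¹) with hu
  have huT : u ∈ B.T0 th := mul_mem (inv_mem hr) hy
  have hu0 : ∀ n, Commute u (B.j (blk 0 n)) := N.T0_comm huT
  have huΦ : ∀ φ ∈ Φ, Commute u (B.f φ) := by
    intro φ hφ
    have e := (hΦr φ hφ).eq
    rw [map_mul, map_mul, map_inv, ← hR] at e
    refine mul_inv_eq_iff_eq_mul.1 ?_
    calc u * B.f φ * u⁻¹ = R⁻¹ * (c * R * (c⁻¹ * B.f φ * c) * R⁻¹ * c⁻¹) * R := by rw [hu]; group
      _ = R⁻¹ * (c * (R * B.f φ * R⁻¹) * c⁻¹) * R := by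
          rw [mul_assoc c⁻¹, ← (hΦ φ hφ).eq, inv_mul_cancel_left]; group
      _ = R⁻¹ * (R * B.f φ * R⁻¹) * R := by rw [e, mul_inv_cancel_right]
      _ = B.f φ := by group
  have hua : Commute u B.a := by
    rw [← B.j_tc, show (21 : Fin 64) = xr (blk 0 1) (xr (blk 1 1) (blk 2 1)) by decide +kernel,
      ← B.j_mul, ← B.j_mul]
    exact (hu0 1).mul_right ((huΦ _ h1).mul_right (huΦ _ h2))
  obtain ⟨x, hx⟩ := B.mem_range_of_commute hua
  have back : ∀ y : C12, Commute u (B.f y) → Commute x y := fun y h => B.inj (by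
    rw [map_mul, map_mul, hx]; exact h.eq)
  obtain ⟨hxx, i, w, e, hwT, hwc⟩ := tab x (fun n => back _ (hu0 n)) fun φ hφ => back _ (huΦ φ hφ)
  have hrest : B.j (xr (blk 1 (comp i 1)) (blk 2 (comp i 2))) ∈ B.T0 th := by
    rw [← B.j_mul]; exact mul_mem (N.blk_T0 (by decide) _) (N.blk_T0 (by decide) _)
  have hi := stage_facts.2.2.2.2.2.2.2.1 i
  have hji : B.j i ∈ B.T0 th := by
    have : B.j i = u * (B.f w)⁻¹ := by rw [← hx, e, map_mul, mul_inv_cancel_right]; rfl
    rw [this]; exact mul_mem huT (inv_mem hwT)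
  have hc0 : comp i 0 = 0 := by
    refine N.disj0 ?_
    rw [hi, ← B.j_mul] at hji
    exact (Subgroup.mul_mem_cancel_right _ hrest).1 hji
  have hcu : Commute c u := by
    rw [← hx, e, map_mul]
    refine Commute.mul_right ?_ hwc
    show Commute c (B.j i)
    rw [hi, hc0, ← B.j_mul, ← B.j_mul, show blk 0 0 = 0 by decide, B.j_zero, one_mul]
    exact (hc.v12 1 _ (by decide)).mul_right (hc.v12 2 _ (by decide))
  have huu : u * u = 1 := by rw [← hx, ← map_mul, hxx, map_one]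
  have hu3 : u * u * u = 1 := by
    have e1 : c * R * c⁻¹ = R * u := by rw [hu]; group
    have e2 : c * u * c⁻¹ = u := by rw [hcu.eq, mul_inv_cancel_right]
    have h3 := hc.cube
    have : R * (u * u * u) = R := by
      calc R * (u * u * u) = c * R * c⁻¹ * (u * u) := by rw [e1]; group
        _ = c * R * c⁻¹ * ((c * u * c⁻¹) * (c * u * c⁻¹)) := by rw [e2]
        _ = c * (R * u * u) * c⁻¹ := by group
        _ = c * (c * R * c⁻¹ * (c * u * c⁻¹)) * c⁻¹ := by rw [e1, e2]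
        _ = c * c * (R * u) * c⁻¹ * c⁻¹ := by group
        _ = c * c * (c * R * c⁻¹) * c⁻¹ * c⁻¹ := by rw [e1]
        _ = (c * c * c) * R * (c * c * c)⁻¹ := by group
        _ = c ^ 3 * R * (c ^ 3)⁻¹ := by rw [pow_three, mul_assoc c c c]
        _ = R := by rw [h3, one_mul, inv_one, mul_one]
    exact mul_left_cancel (this.trans (mul_one R).symm)
  rw [huu, one_mul] at hu3
  refine mul_inv_eq_iff_eq_mul.1 ?_
  rw [show c * R * c⁻¹ = R * u by rw [hu]; group, hu3, mul_one]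

/-- The exchange of the last two blocks and the flip commute with the rotation. -/
theorem ND.commute_stage1 (N : B.ND m th) {c : G} (hc : B.Cyc c) (g : Fin 2) :
    Commute c (B.f (gC g.castSucc.castSucc)) := by
  refine N.commute_core hc (N.gC_T0 g.castSucc)
    {φ | ∃ k n, k ≠ (0 : Fin 3) ∧ φ = el (blk k n)} ?_ ?_ ⟨1, 1, by decide, rfl⟩ ⟨2, 1, by decide, rfl⟩ ?_
  · rintro _ ⟨k, n, hk, rfl⟩; exact hc.v12 k n hk
  · rintro _ ⟨k, n, hk, rfl⟩
    obtain ⟨hb, ht⟩ := stage_facts.1 g k hk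
    rw [show gC g.castSucc.castSucc * el (blk k n) * (gC g.castSucc.castSucc)⁻¹ =
        el (blk (gBlk g k n).1 (gBlk g k n).2) from Subtype.ext (Equiv.ext fun i => by
      show (gP g.castSucc.castSucc * elP (blk k n) * (gP g.castSucc.castSucc)⁻¹) i = _
      rw [show (gP g.castSucc.castSucc)⁻¹ = gP g.castSucc.castSucc from
        inv_eq_of_mul_eq_one_right (Equiv.ext (stage_facts.2.2.2.2.1 _))]
      exact ht n i)]
    exact hc.v12 _ _ (hb n)
  · intro x h0 hΦ
    obtain ⟨i, rfl⟩ := mem_J12_of_commute (x := x) fun i => by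
      rw [stage_facts.2.2.2.2.2.2.2.1 i, ← el_mul, ← el_mul]
      exact (h0 _).mul_right ((hΦ _ ⟨1, _, by decide, rfl⟩).mul_right (hΦ _ ⟨2, _, by decide, rfl⟩))
    exact ⟨by rw [el_mul, xr_self, el_zero], i, 1, (mul_one _).symm,
      by rw [map_one]; exact one_mem _, by rw [map_one]; exact Commute.one_right _⟩

/-- The exchange of two pairs of different blocks commutes with the rotation. -/
theorem ND.commute_stage2 (N : B.ND m th) {c : G} (hc : B.Cyc c) :
    Commute c (B.f (gC 2)) := by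
  have hd : Commute c (B.f (gC 1)) := N.commute_stage1 hc 1
  have he : ∀ k, k ≠ (0 : Fin 3) → Commute c (B.f (el (blk k 1))) := fun k hk => hc.v12 k 1 hk
  have hinv : (gC 2)⁻¹ = gC 2 :=
    inv_eq_of_mul_eq_one_right (Subtype.ext (Equiv.ext (stage_facts.2.2.2.2.1 2)))
  refine N.commute_core hc (N.gC_T0 2) {el (blk 1 1), el (blk 2 1), gC 1} ?_ ?_ (by simp) (by simp) ?_
  · rintro φ (rfl | rfl | rfl)
    exacts [he 1 (by decide), he 2 (by decide), hd]
  · rintro φ (rfl | rfl | rfl) <;> rw [hinv]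
    · rw [show gC 2 * el (blk 1 1) * gC 2 = el (blk 1 1) * gC 1 from
        Subtype.ext (Equiv.ext stage_facts.2.1), map_mul]
      exact (he 1 (by decide)).mul_right hd
    · rw [show gC 2 * el (blk 2 1) * gC 2 = gC 1 * el (blk 2 1) from
        Subtype.ext (Equiv.ext stage_facts.2.2.1), map_mul]
      exact hd.mul_right (he 2 (by decide))
    · rw [show gC 2 * gC 1 * gC 2 = gC 1 from Subtype.ext (Equiv.ext stage_facts.2.2.2.1)]
      exact hd
  · intro x h0 hΦ
    have hg : ∀ g ∈ flipGens, ∃ y ∈ C12, enc y = g ∧ Commute (x : Perm (Fin 12)) y := by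
      intro g hg
      simp only [flipGens, List.mem_cons, List.not_mem_nil, or_false] at hg
      rcases hg with rfl | rfl | rfl | rfl | rfl
      · exact ⟨_, elP_mem _, rfl, congrArg Subtype.val (show x * el 1 = el 1 * x from
          (by decide : blk 0 1 = 1) ▸ (h0 1).eq)⟩
      · exact ⟨_, elP_mem _, rfl, congrArg Subtype.val (show x * el 2 = el 2 * x from
          (by decide : blk 0 2 = 2) ▸ (h0 2).eq)⟩
      · exact ⟨_, elP_mem _, rfl, congrArg Subtype.val (show x * el 4 = el 4 * x from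
          (by decide : blk 1 1 = 4) ▸ (hΦ _ (by simp)).eq)⟩
      · exact ⟨_, elP_mem _, rfl, congrArg Subtype.val (show x * el 16 = el 16 * x from
          (by decide : blk 2 1 = 16) ▸ (hΦ _ (by simp)).eq)⟩
      · exact ⟨_, gP_mem _, rfl, congrArg Subtype.val (show x * gC 1 = gC 1 * x from
          (hΦ _ (by simp)).eq)⟩
    have h := List.all_eq_true.1 flip_table _ (mem_centCodes x.2 hg)
    simp only [Bool.and_eq_true, beq_iff_eq, Bool.or_eq_true, decide_eq_true_eq] at h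
    obtain ⟨h2, h3⟩ := h
    refine ⟨Subtype.ext (enc_inj (x * x).2 (one_mem _) (by
      show enc ((x : Perm (Fin 12)) * x) = enc 1
      rw [enc_mul x.2 x.2, enc_one]; exact h2)), ?_⟩
    rcases h3 with h3 | h3
    · simp only [jcodes, List.mem_map, List.mem_range] at h3
      obtain ⟨n, -, hn⟩ := h3
      exact ⟨Fin.ofNat 64 n, 1, (Subtype.ext (enc_inj (elP_mem _) x.2 hn)).symm.trans (mul_one _).symm,
        by rw [map_one]; exact one_mem _, by rw [map_one]; exact Commute.one_right _⟩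
    · simp only [jcodes, List.mem_map, List.mem_range, List.map_map] at h3
      obtain ⟨n, -, hn⟩ := h3
      refine ⟨Fin.ofNat 64 n, gC 1, (Subtype.ext (enc_inj (mul_mem (elP_mem _) (gP_mem 1)) x.2 ?_)).symm,
        N.gC_T0 1, hd⟩
      show enc (elP (Fin.ofNat 64 n) * gP 1) = _
      rw [enc_mul (elP_mem _) (gP_mem 1)]; exact hn

theorem ND.cyc_th (N : B.ND m th) {x : Fin 8} (hx : x = 2 ∨ x = 3) :
    B.Cyc (th (up8 N.le8 (c8 x))) where
  cube := by
    rw [← map_pow, ← map_pow, show c8 x ^ 3 = 1 from Subtype.ext (Equiv.ext fun i => by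
      rw [pow_three]
      rcases cyc8_facts.2.2.2 x i with h | h
      · exact h
      · rcases hx with rfl | rfl <;> exact absurd h (by decide)), map_one, map_one]
  v0 n := by
    obtain ⟨n', h⟩ := (cyc8_facts.1 x hx n).2
    refine ⟨n', ?_⟩
    have e : c8 x * w8 0 n = w8 0 n' * c8 x := Subtype.ext (Equiv.ext h)
    rw [show blk 0 n = blk (Fin.castSucc (0 : Fin 2)) n from rfl,
      show blk 0 n' = blk (Fin.castSucc (0 : Fin 2)) n' from rfl, ← N.th_blk, ← N.th_blk,
      ← map_inv, ← map_mul, ← map_mul, ← map_inv, ← map_mul, ← map_mul, e, mul_inv_cancel_right]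
  v12 k n hk := by
    rcases (by decide : ∀ k : Fin 3, k ≠ 0 → k = 1 ∨ k = 2) k hk with rfl | rfl
    · rw [show blk 1 n = blk (Fin.castSucc (1 : Fin 2)) n from rfl, ← N.th_blk]
      exact ((show Commute (c8 x) (w8 1 n) from Subtype.ext (Equiv.ext (cyc8_facts.1 x hx n).1)).map
        (up8 N.le8)).map th
    · exact B.comm_blk (N.le ⟨_, rfl⟩) n

set_option maxHeartbeats 800000 in
/-- The exchange of the last two blocks commutes with the cycle through the ninth point. -/
theorem ND.commute_nine {th : alternatingGroup (Fin 9) →* G} (N : B.ND 9 th) :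
    Commute (th (cycA 0 1 8 (by decide) (by decide))) (B.f (gC 0)) := by
  set n := B.f (gC 0) with hn
  have hnn : n * n = 1 := f_gC_sq 0
  have hn' : n⁻¹ = n := f_gC_inv 0
  set p : alternatingGroup (Fin 9) := cycA 0 1 8 (by decide) (by decide) with hp
  have hp3 : p ^ 3 = 1 := Subtype.ext (cyc_pow_three (by decide) (by decide) (by decide))
  have hw : ∀ k, Commute p (up8 N.le8 (w8 1 k)) := fun k => by
    refine Subtype.ext ?_
    rw [Subgroup.coe_mul, Subgroup.coe_mul, up8_coe]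
    fin_cases k <;>
      simp only [w8, d8, Matrix.cons_val_zero, Matrix.cons_val_one, Matrix.cons_val, Fin.zero_eta,
        Fin.mk_one, Fin.reduceFinMk, OneMemClass.coe_one, map_one, mul_one, one_mul, map_mul,
        ext8_swap] <;>
      first | exact nine_perms.1 0 | exact nine_perms.1 1 | exact nine_perms.1 2
  -- the conjugate is in the same factor
  have hswap : ∀ k, n * B.j (blk 1 k) * n⁻¹ = B.j (blk 2 k) := fun k => by
    rw [hn', hn, j, j, ← map_mul, ← map_mul]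
    exact congrArg B.f (Subtype.ext (Equiv.ext (stage_facts.2.2.2.2.2.1 k)))
  have hswap' : ∀ k, n * B.j (blk 2 k) * n⁻¹ = B.j (blk 1 k) := fun k => by
    rw [← hswap k, hn']
    calc n * (n * B.j (blk 1 k) * n) * n = (n * n) * B.j (blk 1 k) * (n * n) := by group
      _ = _ := by rw [hnn, one_mul, mul_one]
  have hp1 : ∀ k, Commute (th p) (B.j (blk 1 k)) := fun k => by
    rw [show blk 1 k = blk (Fin.castSucc (1 : Fin 2)) k from rfl, ← N.th_blk]
    exact (hw k).map th
  obtain ⟨q, hq, hq3⟩ := N.order_three (x := n * th p * n⁻¹) (by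
      refine mem_centralizer_iff.2 ?_
      rintro _ ⟨k, rfl⟩
      rw [← hswap k]
      exact ((Commute.conj_iff n).2 (hp1 k)).eq.symm)
    (by rw [conj_pow, ← map_pow, hp3, map_one, mul_one, mul_inv_cancel])
  have hq1 : ∀ k, Commute q (up8 N.le8 (w8 1 k)) := fun k => N.inj (by
    rw [map_mul, map_mul, ← hq, N.th_blk, show blk (Fin.castSucc (1 : Fin 2)) k = blk 1 k from rfl,
      ← hswap' k]
    exact ((Commute.conj_iff n).2 (B.comm_blk (N.le ⟨p, rfl⟩) k)).eq)
  have hab : ∀ x : Fin 8, (x = 2 ∨ x = 3) → (q * up8 N.le8 (c8 x)) * (q * up8 N.le8 (c8 x)) = 1 := by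
    intro x hx
    refine N.inj ?_
    have hc : Commute (th (up8 N.le8 (c8 x))) n := N.commute_stage1 (N.cyc_th hx) 0
    have h2 : (p * up8 N.le8 (c8 x)) * (p * up8 N.le8 (c8 x)) = 1 := by
      refine Subtype.ext ?_
      simp only [Subgroup.coe_mul, up8_coe, OneMemClass.coe_one]
      have h0 : (0 : Fin 8) ≠ x := by rcases hx with rfl | rfl <;> decide
      simp only [c8, cycA, hp, dif_pos h0, ext8_cyc]
      exact nine_perms.2 x hx
    rw [map_mul, map_mul, ← hq, map_one]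
    calc n * th p * n⁻¹ * th (up8 N.le8 (c8 x)) * (n * th p * n⁻¹ * th (up8 N.le8 (c8 x)))
        = n * th p * n⁻¹ * (th (up8 N.le8 (c8 x)) * n) * th p * n⁻¹ * th (up8 N.le8 (c8 x)) := by group
      _ = n * th p * th (up8 N.le8 (c8 x)) * th p * (n⁻¹ * th (up8 N.le8 (c8 x))) := by
          rw [hc.eq]; group
      _ = n * th ((p * up8 N.le8 (c8 x)) * (p * up8 N.le8 (c8 x))) * n⁻¹ := by
          rw [← (hc.inv_right).eq]; simp only [map_mul]; group
      _ = 1 := by rw [h2, map_one, mul_one, mul_inv_cancel]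
  -- the permutation
  set σ := (q : Perm (Fin 9)) with hσ
  have h3 : ∀ i, σ (σ (σ i)) = i := fun i => by
    have := congrArg (fun z : alternatingGroup (Fin 9) => (z : Perm (Fin 9)) i) hq3
    simpa [pow_three, ← hσ] using this
  have hw9 : ∀ i, σ (w9 i) = w9 (σ i) := fun i => by
    have := congrArg (fun z : alternatingGroup (Fin 9) => (z : Perm (Fin 9)) i) (hq1 1).eq
    simpa [up8_coe, w8, d8, map_mul, ext8_swap, ← hσ, w9] using this
  have hw9' : ∀ i, σ ((swap (4 : Fin 9) 6 * swap (5 : Fin 9) 7) i) =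
      (swap (4 : Fin 9) 6 * swap (5 : Fin 9) 7) (σ i) := fun i => by
    have := congrArg (fun z : alternatingGroup (Fin 9) => (z : Perm (Fin 9)) i) (hq1 2).eq
    simpa [up8_coe, w8, d8, map_mul, ext8_swap, ← hσ] using this
  have hrel : ∀ x : Fin 8, (x = 2 ∨ x = 3) → ∀ i,
      σ (cyc 0 1 (Fin.castLE N.le8 x) (σ (cyc 0 1 (Fin.castLE N.le8 x) i))) = i := fun x hx i => by
    have := congrArg (fun z : alternatingGroup (Fin 9) => (z : Perm (Fin 9)) i) (hab x hx)
    have hx0 : (0 : Fin 8) ≠ x := by rcases hx with rfl | rfl <;> decide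
    simpa [up8_coe, c8, cycA, dif_pos hx0, ext8_cyc, ← hσ] using this
  let s5 : Fin 5 → Fin 9 := ![0, 1, 2, 3, 8]
  let t4 : Fin 4 → Fin 9 := ![4, 5, 6, 7]
  have s5i : Function.Injective s5 := by decide +kernel
  have t4i : Function.Injective t4 := by decide +kernel
  have hne : ∀ k l, s5 l ≠ t4 k := by decide +kernel
  choose f hf0 using fun k => nine_points.2.1 (σ (s5 k)) (by rw [← hw9, nine_points.2.2.1])
  have hf : ∀ k, s5 (f k) = σ (s5 k) := hf0
  choose g hg0 using fun k => nine_points.2.2.2 (σ (t4 k)) (fun l e => hne k (f (f l)) (by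
    show s5 (f (f l)) = t4 k
    rw [hf, hf, show s5 l = σ (t4 k) from e, h3]))
  have hg : ∀ k, t4 (g k) = σ (t4 k) := hg0
  have f3 : ∀ k, f (f (f k)) = k := fun k => s5i (by show s5 _ = _; rw [hf, hf, hf, h3])
  have hfu := five_unique f f3 (by
    have key : ∀ (x : Fin 8) (a : Fin 5 → Fin 5), (x = 2 ∨ x = 3) →
        (∀ k, cyc 0 1 (Fin.castLE le89 x) (s5 k) = s5 (a k)) → ∀ k, f (a (f (a k))) = k := by
      intro x a hx ha k
      refine s5i ?_
      show s5 _ = _
      rw [hf, ← ha, hf, ← ha, hrel x hx]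
    exact ⟨key 2 _ (Or.inl rfl) (by decide +kernel), key 3 _ (Or.inr rfl) (by decide +kernel)⟩)
  have hg4 := four_regular g (fun k => t4i (by show t4 _ = _; rw [hg, hg, hg, h3]))
    (fun k => t4i (by
      show t4 _ = t4 _
      rw [hg, (by decide +kernel : ∀ k, t4 (![1, 0, 3, 2] k) = w9 (t4 k)) k, hw9,
        (by decide +kernel : ∀ k, t4 (![1, 0, 3, 2] k) = w9 (t4 k)) (g k), hg]))
    (fun k => t4i (by
      show t4 _ = t4 _
      rw [hg, (by decide +kernel : ∀ k, t4 (![2, 3, 0, 1] k) =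
          (swap (4 : Fin 9) 6 * swap (5 : Fin 9) 7) (t4 k)) k, hw9',
        (by decide +kernel : ∀ k, t4 (![2, 3, 0, 1] k) =
          (swap (4 : Fin 9) 6 * swap (5 : Fin 9) 7) (t4 k)) (g k), hg]))
  have hqp : q = p := Subtype.ext (Equiv.ext fun i => by
    show σ i = cyc 0 1 8 i
    rcases nine_points.1 i with ⟨k, rfl⟩ | ⟨k, rfl⟩
    · show σ (s5 k) = cyc 0 1 8 (s5 k)
      rw [← show s5 (f k) = σ (s5 k) from hf k, hfu]
      exact (by decide +kernel : ∀ k, s5 (![1, 4, 2, 3, 0] k) = cyc 0 1 8 (s5 k)) k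
    · show σ (t4 k) = cyc 0 1 8 (t4 k)
      rw [← show t4 (g k) = σ (t4 k) from hg k, hg4]
      exact (by decide +kernel : ∀ k, t4 k = cyc 0 1 8 (t4 k)) k)
  show th p * n = n * th p
  rw [hqp] at hq
  calc th p * n = n * th p * n⁻¹ * n := by rw [hq]
    _ = n * th p := by group

end Setup

end Cfsg.Agent.A12Type
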