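import Cfsg.Agent.Cent32.Model
import Mathlib.GroupTheory.Perm.Cycle.Type
import Mathlib.GroupTheory.SpecificGroups.Alternating
import Mathlib.GroupTheory.Perm.ViaEmbedding
import Mathlib.Tactic

/-!
The centralizer of a product of four transpositions in the alternating groups of degree eight and
nine, on the model of order 192, and its automorphisms that respect the cycle types.
-/

set_option autoImplicit false
set_option maxRecDepth 100000

namespace Cfsg.Agent.A12Type

open Equiv Cent32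

/-- The embedding of the permutations of eight points. -/
noncomputable def ext8 {m : ℕ} (h : 8 ≤ m) : Perm (Fin 8) →* Perm (Fin m) :=
  Perm.viaEmbeddingHom (Fin.castLEEmb h)

theorem ext8_lt {m : ℕ} (h : 8 ≤ m) (p : Perm (Fin 8)) {i : Fin m} (hi : i.val < 8) :
    ext8 h p i = Fin.castLE h (p ⟨i.val, hi⟩) :=
  Perm.viaEmbedding_apply p (Fin.castLEEmb h) ⟨i.val, hi⟩

theorem ext8_ge {m : ℕ} (h : 8 ≤ m) (p : Perm (Fin 8)) {i : Fin m} (hi : 8 ≤ i.val) :
    ext8 h p i = i := by
  refine Perm.viaEmbedding_apply_of_notMem p (Fin.castLEEmb h) i ?_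
  rintro ⟨j, rfl⟩
  exact absurd hi (not_le.2 j.isLt)

theorem ext8_inj {m : ℕ} (h : 8 ≤ m) : Function.Injective (ext8 h) :=
  Perm.viaEmbeddingHom_injective _

theorem sign_ext8 {m : ℕ} (h : 8 ≤ m) (p : Perm (Fin 8)) : Perm.sign (ext8 h p) = Perm.sign p := by
  classical
  convert Perm.sign_extendDomain p (Equiv.ofInjective _ (Fin.castLEEmb h).injective) using 2
  show Perm.viaEmbedding p (Fin.castLEEmb h) = _
  unfold Perm.viaEmbedding
  congr!

theorem card_support_ext8 {m : ℕ} (h : 8 ≤ m) (p : Perm (Fin 8)) :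
    (ext8 h p).support.card = p.support.card := by
  classical
  convert Perm.card_support_extend_domain (g := p) (Equiv.ofInjective _ (Fin.castLEEmb h).injective) using 3
  show Perm.viaEmbedding p (Fin.castLEEmb h) = _
  unfold Perm.viaEmbedding
  congr!

/-- The fixed-point-free involution of eight points. -/
def z8 : Perm (Fin 8) := V.toP V.zV

/-- The product of two transpositions in a block. -/
def uV : V := V.mk' 72

/-- The first of the three products of two transpositions moving blocks. -/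
def aV1 : V := V.mk' 6

/-- The second. -/
def bV1 : V := V.mk' 2

/-- The third. -/
def cV1 : V := V.mk' 1

/-- The number of moved points. -/
def moved (v : V) : ℕ := ((List.finRange 8).filter fun i => decide (V.act v i ≠ i)).length

/-- The eighteen products of two transpositions. -/
def twos : List V :=
  [1, 2, 5, 6, 14, 21, 24, 45, 48, 53, 72, 78, 96, 97, 120, 134, 144, 146].map V.mk'

theorem mem_twos : ∀ v : V, v * v = 1 → moved v = 4 → v ∈ twos := by decide +kernel

theorem model_facts : moved uV = 4 ∧ moved aV1 = 4 ∧ moved bV1 = 4 ∧ moved cV1 = 4 ∧ moved V.zV = 8 ∧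
    moved (aV1 * uV) = 4 ∧ moved (aV1 * cV1) = 8 ∧ uV * uV = 1 ∧ aV1 * aV1 = 1 ∧ bV1 * bV1 = 1 ∧
    cV1 * cV1 = 1 ∧ aV1 * uV * (aV1 * uV) = 1 ∧ (aV1 * bV1) * (aV1 * bV1) * (aV1 * bV1) = 1 ∧
    aV1 * bV1 ≠ 1 ∧ (bV1 * cV1) * (bV1 * cV1) * (bV1 * cV1) = 1 ∧ bV1 * cV1 ≠ 1 ∧
    aV1 * cV1 = cV1 * aV1 ∧ aV1 * uV = uV * aV1 ∧ cV1 * uV = uV * cV1 ∧
    (bV1 * uV) * (bV1 * uV) * ((bV1 * uV) * (bV1 * uV)) = 1 ∧ bV1 * uV * (bV1 * uV) ≠ 1 := by
  decide +kernel

/-- The relations of the generators. -/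
def Rels (A B C U : V) : Prop :=
  ((A * B) * (A * B) * (A * B) = 1 ∧ A * B ≠ 1) ∧
    ((B * C) * (B * C) * (B * C) = 1 ∧ B * C ≠ 1) ∧ A * C = C * A ∧ A ≠ C ∧ moved (A * C) ≠ 4 ∧
    A * U = U * A ∧ C * U = U * C ∧ C ≠ U ∧ moved (A * U) = 4 ∧
    ((B * U) * (B * U) * ((B * U) * (B * U)) = 1 ∧ B * U * (B * U) ≠ 1)

/-- The images of the generators under a relabelling of the points. -/
def Relabel (A B C U : V) (g : V) (e : Bool) : Prop :=
  ∀ i : Fin 8,
    let π : Fin 8 → Fin 8 := fun k => V.act g (cond e (Equiv.swap (0 : Fin 8) 1 k) k)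
    V.act A (π i) = π (V.act aV1 i) ∧ V.act B (π i) = π (V.act bV1 i) ∧
      V.act C (π i) = π (V.act cV1 i) ∧ V.act U (π i) = π (V.act uV i)

instance (A B C U g : V) (e : Bool) : Decidable (Relabel A B C U g e) :=
  inferInstanceAs (Decidable (∀ _, _))

theorem rigid_table : ∀ A ∈ twos, ∀ B ∈ twos, (A * B) * (A * B) * (A * B) = 1 → A * B ≠ 1 →
    ∀ C ∈ twos, (B * C) * (B * C) * (B * C) = 1 → B * C ≠ 1 → A * C = C * A → A ≠ C →
    moved (A * C) ≠ 4 → ∀ U ∈ twos, A * U = U * A → C * U = U * C → C ≠ U → moved (A * U) = 4 →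
      (B * U) * (B * U) * ((B * U) * (B * U)) = 1 → B * U * (B * U) ≠ 1 →
      ∃ g : V, ∃ e : Bool, Relabel A B C U g e := by
  decide +kernel

/-- The elements of the model in the order of a search from the four generators. -/
def genList : List ℕ :=
  [0, 6, 2, 1, 72, 8, 7, 78, 12, 3, 122, 4, 73, 74, 14, 9, 152, 10, 79, 80, 13, 132, 5, 123, 120,
    18, 28, 76, 84, 75, 146, 15, 158, 11, 153, 150, 20, 58, 82, 86, 81, 128, 16, 133, 134, 19, 29,
    125, 126, 121, 144, 42, 25, 90, 77, 52, 85, 156, 147, 17, 159, 21, 59, 155, 151, 68, 55, 92, 83,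
    34, 87, 129, 22, 112, 136, 135, 43, 27, 139, 124, 101, 127, 145, 44, 31, 24, 49, 91, 66, 53, 88,
    157, 149, 23, 113, 161, 69, 57, 165, 154, 107, 54, 93, 35, 89, 131, 118, 109, 142, 137, 40, 46,
    37, 26, 99, 138, 115, 100, 130, 148, 45, 30, 48, 94, 67, 51, 184, 160, 163, 173, 119, 111, 167,
    65, 71, 63, 56, 105, 164, 117, 106, 95, 33, 185, 141, 179, 108, 143, 41, 47, 36, 98, 140, 114,
    97, 178, 162, 172, 32, 50, 190, 70, 61, 171, 181, 166, 64, 187, 110, 62, 104, 116, 103, 191, 39,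
    177, 183, 189, 38, 96, 188, 169, 175, 186, 176, 60, 170, 180, 102, 182, 168, 174]

/-- Their predecessors: position and generator. -/
def genPar : List ℕ :=
  [0, 0, 1, 2, 3, 5, 6, 7, 8, 10, 11, 13, 15, 17, 20, 22, 23, 25, 27, 29, 34, 35, 37, 39, 41, 44,
    47, 49, 52, 54, 55, 58, 59, 61, 63, 65, 68, 71, 73, 76, 78, 79, 81, 83, 85, 88, 91, 93, 96, 98,
    99, 103, 105, 108, 110, 111, 114, 115, 119, 125, 127, 132, 135, 137, 142, 147, 149, 152, 154,
    155, 158, 163, 168, 171, 173, 178, 183, 185, 188, 190, 191, 194, 199, 205, 208, 210, 211, 214,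
    215, 219, 225, 227, 233, 236, 239, 241, 247, 249, 252, 254, 255, 266, 270, 275, 281, 285, 291,
    293, 296, 298, 299, 305, 308, 310, 311, 314, 315, 319, 325, 329, 334, 338, 343, 349, 351, 357,
    363, 365, 368, 371, 375, 377, 380, 383, 385, 388, 390, 391, 394, 395, 399, 409, 413, 419, 420,
    423, 430, 434, 439, 446, 450, 455, 461, 463, 469, 475, 476, 479, 485, 489, 495, 497, 500, 503,
    505, 508, 511, 515, 526, 542, 547, 555, 561, 567, 568, 571, 573, 579, 601, 605, 611, 619, 621,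
    627, 635, 636, 639, 658, 681, 706, 719, 730]

theorem gen_table : (genList.map V.mk').Nodup ∧ genList.length = 192 ∧ V.mk' (genList.getD 0 0) = 1 ∧
    ∀ k : Fin 192, k.val ≠ 0 → genPar.getD k.val 0 / 4 < k.val ∧
      V.mk' (genList.getD k.val 0) = V.mk' (genList.getD (genPar.getD k.val 0 / 4) 0) *
        [aV1, bV1, cV1, uV].getD (genPar.getD k.val 0 % 4) 1 := by
  refine ⟨?_, ?_, ?_, ?_⟩ <;> decide +kernel

/-- Induction along the four generators. -/
theorem gen_induction {p : V → Prop} (h1 : p 1) (hm : ∀ x, p x → p (x * aV1) ∧ p (x * bV1) ∧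
    p (x * cV1) ∧ p (x * uV)) (v : V) : p v := by
  obtain ⟨hnd, hlen, h0, hall⟩ := gen_table
  have key : ∀ k, k < 192 → p (V.mk' (genList.getD k 0)) := by
    intro k
    induction k using Nat.strong_induction_on with
    | _ k ih =>
      intro hk
      rcases Nat.eq_zero_or_pos k with rfl | hpos
      · rw [h0]; exact h1
      · obtain ⟨hlt, he⟩ := hall ⟨k, hk⟩ (by simpa using hpos.ne')
        have hp := hm _ (ih _ hlt (lt_trans hlt hk))
        rw [he]
        have h4 : genPar.getD k 0 % 4 < 4 := Nat.mod_lt _ (by norm_num)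
        show p (_ * [aV1, bV1, cV1, uV].getD (genPar.getD k 0 % 4) 1)
        generalize genPar.getD k 0 % 4 = r at h4 ⊢
        interval_cases r
        exacts [hp.1, hp.2.1, hp.2.2.1, hp.2.2.2]
  have hv : v ∈ genList.map V.mk' := by
    have : (genList.map V.mk').toFinset = Finset.univ := Finset.eq_univ_of_card _ (by
      rw [List.toFinset_card_of_nodup hnd, List.length_map, hlen, ← Nat.card_eq_fintype_card, V.card])
    exact List.mem_toFinset.1 (this ▸ Finset.mem_univ v)
  obtain ⟨n, hn, rfl⟩ := List.mem_map.1 hv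
  obtain ⟨k, hk, rfl⟩ := List.getElem_of_mem hn
  rw [← List.getD_eq_getElem genList 0 hk]
  exact key k (hlen ▸ hk)

end Cfsg.Agent.A12Type
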