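import Cfsg.Agent.A12Type.MBlock
import Cfsg.Agent.AltMult.Alt
import Cfsg.Agent.A12Type.NModel

/-!
Finite facts for the extension of the alternating factor to an alternating group of degree twelve or
thirteen.
-/

set_option autoImplicit false
set_option maxRecDepth 100000

namespace Cfsg.Agent.A12Type

open Equiv Cfsg.Agent.AltMult

/-- The exchange of the second and third blocks, a flip of two pairs, the exchange of two pairs and
the exchange of the pairs `23`, `45`. -/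
def gP : Fin 4 → Perm (Fin 12) :=
  ![swap 4 8 * swap 5 9 * (swap 6 10 * swap 7 11), swap 6 7 * swap 8 9, swap 6 8 * swap 7 9,
    swap 2 4 * swap 3 5]

theorem gP_mem (g : Fin 4) : gP g ∈ C12 := by
  refine mem_C12 ?_ ((by decide +kernel : ∀ g i, gP g (tcP i) = tcP (gP g i)) g)
  fin_cases g <;> simp [gP, Perm.sign_mul, Fin.ext_iff]

/-- The same permutations in the centralizer. -/
def gC (g : Fin 4) : C12 := ⟨gP g, gP_mem g⟩

/-- The exchange of the first and third blocks. -/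
def g02P : Perm (Fin 12) := swap 0 8 * swap 1 9 * (swap 2 10 * swap 3 11)

theorem g02P_mem : g02P ∈ C12 := by
  refine mem_C12 ?_ ((by decide +kernel : ∀ i, g02P (tcP i) = tcP (g02P i)))
  simp [g02P, Perm.sign_mul, Fin.ext_iff]

/-- The same permutation in the centralizer. -/
def g02 : C12 := ⟨g02P, g02P_mem⟩

/-- A permutation of eight points acting on twelve. -/
def fun8 (q : Perm (Fin 8)) (i : Fin 12) : Fin 12 :=
  if h : i.val < 8 then Fin.castLE (by norm_num) (q ⟨i.val, h⟩) else i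

/-- Two transpositions. -/
def d8 (a b c d : Fin 8) (h : a ≠ b ∧ c ≠ d) : alternatingGroup (Fin 8) :=
  ⟨swap a b * swap c d, Perm.mem_alternatingGroup.2 (by
    rw [map_mul, Perm.sign_swap h.1, Perm.sign_swap h.2]; decide)⟩

/-- The three-cycle `(0 1 x)`. -/
def c8 (x : Fin 8) : alternatingGroup (Fin 8) :=
  if h : (0 : Fin 8) ≠ x then cycA 0 1 x (by decide) h else 1

/-- The elements of the first two blocks on eight points. -/
def w8 (k : Fin 2) (n : Fin 4) : alternatingGroup (Fin 8) :=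
  ![![1, d8 0 1 2 3 (by decide), d8 0 2 1 3 (by decide), d8 0 3 1 2 (by decide)],
    ![1, d8 4 5 6 7 (by decide), d8 4 6 5 7 (by decide), d8 4 7 5 6 (by decide)]] k n

/-- The conjugates by the exchange of the first and third blocks, on eight points. -/
def g8 : Fin 3 → alternatingGroup (Fin 8) :=
  ![d8 0 4 1 5 (by decide) * d8 2 6 3 7 (by decide), d8 6 7 0 1 (by decide), d8 6 0 7 1 (by decide)]

/-- The exchange of the pairs `23`, `45` on eight points. -/
def q8 : alternatingGroup (Fin 8) := d8 2 4 3 5 (by decide)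

theorem dom8_facts :
    (∀ k : Fin 2, ∀ n i, elP (blk k.castSucc n) i = fun8 (w8 k n : Perm (Fin 8)) i) ∧
    (∀ n i, (g02P * elP (blk 2 n) * g02P) i = fun8 (w8 0 n : Perm (Fin 8)) i) ∧
    (∀ n i, (g02P * elP (blk 1 n) * g02P) i = fun8 (w8 1 n : Perm (Fin 8)) i) ∧
    (∀ g : Fin 3, ∀ i, (g02P * gP g.castSucc * g02P) i = fun8 (g8 g : Perm (Fin 8)) i) ∧
    (∀ n i, (g02P * elP (blk 2 n) * g02P) i = elP (blk 0 n) i) ∧
    (∀ i, gP 3 i = fun8 (q8 : Perm (Fin 8)) i) ∧ ∀ i, g02P (g02P i) = i := by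
  decide +kernel

theorem cyc8_facts :
    (∀ x : Fin 8, (x = 2 ∨ x = 3) → ∀ n : Fin 4, (∀ i, (c8 x * w8 1 n : Perm (Fin 8)) i =
      (w8 1 n * c8 x : Perm (Fin 8)) i) ∧
      ∃ n' : Fin 4, ∀ i, (c8 x * w8 0 n : Perm (Fin 8)) i = (w8 0 n' * c8 x : Perm (Fin 8)) i) ∧
    (∀ n : Fin 4, ∀ i, (w8 1 n * c8 4 * w8 1 n : Perm (Fin 8)) i =
      (c8 ⟨4 + n.val, by omega⟩ : Perm (Fin 8)) i) ∧
    (∀ i, (q8 * c8 2 * q8 : Perm (Fin 8)) i = (c8 4 : Perm (Fin 8)) i) ∧
    ∀ x : Fin 8, ∀ i, (c8 x * c8 x * c8 x : Perm (Fin 8)) i = i ∨ x = 1 := by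
  decide +kernel

/-- The block into which a generator moves a block. -/
def gBlk (g : Fin 2) (k : Fin 3) (n : Fin 4) : Fin 3 × Fin 4 :=
  if g = 0 then (if k = 1 then (2, n) else (1, n)) else (k, if n = 2 then 3 else if n = 3 then 2 else n)

theorem stage_facts :
    (∀ g : Fin 2, ∀ k : Fin 3, k ≠ 0 → (∀ n, (gBlk g k n).1 ≠ 0) ∧ ∀ n i,
      (gP g.castSucc.castSucc * elP (blk k n) * gP g.castSucc.castSucc) i =
        elP (blk (gBlk g k n).1 (gBlk g k n).2) i) ∧
    (∀ i, (gP 2 * elP (blk 1 1) * gP 2) i = (elP (blk 1 1) * gP 1) i) ∧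
    (∀ i, (gP 2 * elP (blk 2 1) * gP 2) i = (gP 1 * elP (blk 2 1)) i) ∧
    (∀ i, (gP 2 * gP 1 * gP 2) i = gP 1 i) ∧
    (∀ g i, gP g (gP g i) = i) ∧
    (∀ n i, (gP 0 * elP (blk 1 n) * gP 0) i = elP (blk 2 n) i) ∧
    (let w := elP 8 * gP 2 * gP 0; ∀ i, (w * gP 3) i = (gP 3 * w) i) ∧
    (∀ i : Fin 64, i = xr (blk 0 (comp i 0)) (xr (blk 1 (comp i 1)) (blk 2 (comp i 2)))) ∧
    (∀ n : Fin 4, blk 0 n = 0 → n = 0) := by
  decide +kernel

/-- The codes of the centralizer of the first block and of the flips of the other pairs. -/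
def flipGens : List ℕ := [enc (elP 1), enc (elP 2), enc (elP 4), enc (elP 16), enc (gP 1)]

theorem flip_table : (centCodes flipGens).all (fun c => mulc c c == onec &&
    (decide (c ∈ jcodes) || decide (c ∈ jcodes.map fun e => mulc e (enc (gP 1))))) = true := by
  decide +kernel

/-- The generators used for the centralizer. -/
def Kgens : List (Perm (Fin 12)) :=
  [elP 1, elP 2, elP 4, elP 8, elP 16, elP 32, gP 3, gP 0, actP 0, actP 2]

/-- One round of images of the pairs of points. -/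
def stepP : List (Perm (Fin 12)) → List (Fin 12 × Fin 12) → List (Fin 12 × Fin 12)
  | [], P => P
  | g :: gs, P => stepP gs (P ∪ P.map fun p => (g p.1, g p.2))

theorem orbit_table : ∀ a b : Fin 12, a.val / 2 ≠ b.val / 2 →
    (a, b) ∈ stepP Kgens (stepP Kgens (stepP Kgens (stepP Kgens (stepP Kgens [((8 : Fin 12), 10)])))) := by
  decide +kernel

theorem fixed_table : ∀ i : Fin 64, (∀ g ∈ ([0, 2, 3] : List (Fin 4)), (actTab g).getD i.val 0 = i) →
    i = 0 ∨ i = 21 := by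
  decide +kernel

theorem five_unique : ∀ f : Fin 5 → Fin 5,
    (∀ k, f (f (f k)) = k) →
    (let a : Fin 5 → Fin 5 := ![1, 2, 0, 3, 4]
     let b : Fin 5 → Fin 5 := ![1, 3, 2, 0, 4]
     (∀ k, f (a (f (a k))) = k) ∧ ∀ k, f (b (f (b k))) = k) →
    f = ![1, 4, 2, 3, 0] := by
  decide +kernel

theorem four_regular : ∀ f : Fin 4 → Fin 4, (∀ k, f (f (f k)) = k) →
    (∀ k, f (![1, 0, 3, 2] k) = ![1, 0, 3, 2] (f k)) →
    (∀ k, f (![2, 3, 0, 1] k) = ![2, 3, 0, 1] (f k)) → ∀ k, f k = k := by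
  decide +kernel

/-- An element of the second block on nine points. -/
def w9 : Perm (Fin 9) := swap 4 5 * swap 6 7

theorem nine_points : (∀ i : Fin 9, (∃ k : Fin 5, (![0, 1, 2, 3, 8] : Fin 5 → Fin 9) k = i) ∨
      ∃ k : Fin 4, (![4, 5, 6, 7] : Fin 4 → Fin 9) k = i) ∧
    (∀ i : Fin 9, w9 i = i → ∃ k : Fin 5,
      (![0, 1, 2, 3, 8] : Fin 5 → Fin 9) k = i) ∧
    (∀ k, w9 ((![0, 1, 2, 3, 8] : Fin 5 → Fin 9) k) =
      (![0, 1, 2, 3, 8] : Fin 5 → Fin 9) k) ∧
    (∀ i : Fin 9, (∀ k : Fin 5, (![0, 1, 2, 3, 8] : Fin 5 → Fin 9) k ≠ i) → ∃ k : Fin 4,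
      (![4, 5, 6, 7] : Fin 4 → Fin 9) k = i) := by
  decide +kernel

end Cfsg.Agent.A12Type
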