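import Cfsg.Agent.Invol.IsolatedApps
import Cfsg.Agent.Invol.Pair
import Cfsg.Agent.Coprime.Generation
import Cfsg.Agent.Core.PCore

/-!
A subgroup containing the relevant centralizers contains a section's group with an isolated involution.
-/

set_option autoImplicit false

namespace Cfsg.Agent.A12Type

open Subgroup

theorem le_of_isolated_image {G : Type*} [Group G] [Finite G] {Y L D : Subgroup G} (hDY : D ≤ Y)
    (hDL : D ≤ L) (hD2 : IsPGroup 2 D) (hn : ∀ g ∈ Y, ∀ d ∈ D, g * d * g⁻¹ ∈ D) {x a b : G}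
    (hx : x ∈ Y) (ha : a ∈ Y) (hb : b ∈ Y) (hxD : x ∉ D) (hx2 : x * x ∈ D)
    (hc : ∀ g ∈ Y, x⁻¹ * (g * x * g⁻¹) ∈ D → g ∈ L)
    (hiso : ∀ g ∈ Y, x * (g * x * g⁻¹) * x⁻¹ * (g * x * g⁻¹)⁻¹ ∈ D → x⁻¹ * (g * x * g⁻¹) ∈ D)
    (ha2 : a * a ∈ D) (hb2 : b * b ∈ D) (hab : a * b * a⁻¹ * b⁻¹ ∈ D)
    (hfix : ∀ g ∈ Y, Odd (orderOf g) → ∀ u ∈ [a, b, a * b], g * u * g⁻¹ * u⁻¹ ∈ D → g ∈ L) :
    Y ≤ L := by
  classical
  have hN : (D.subgroupOf Y).Normal := ⟨fun d hd g => hn g g.2 d hd⟩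
  let π := QuotientGroup.mk' (D.subgroupOf Y)
  have hπ : ∀ u : Y, π u = 1 ↔ (u : G) ∈ D := fun u => QuotientGroup.eq_one_iff _
  set X : Y := ⟨x, hx⟩
  have hz : Cfsg.IsIsolatedInvolution (π X) := by
    refine ⟨Invol.orderOf_eq_two_iff.2 ⟨fun e => hxD ((hπ X).1 e),
      by rw [← map_mul]; exact (hπ _).2 hx2⟩, fun q hq => ?_⟩
    obtain ⟨g, rfl⟩ := QuotientGroup.mk'_surjective (D.subgroupOf Y) q
    rw [← map_inv, ← map_mul, ← map_mul] at hq ⊢
    have h1 : π (X * (g * X * g⁻¹) * X⁻¹ * (g * X * g⁻¹)⁻¹) = 1 := by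
      rw [map_mul, map_mul, map_mul, map_inv π X, map_inv π (g * X * g⁻¹), hq.eq, mul_inv_cancel_right]
      exact mul_inv_cancel _
    have h2 := hiso g g.2 ((hπ _).1 h1)
    have h3 : π (X⁻¹ * (g * X * g⁻¹)) = 1 := (hπ _).2 h2
    rw [map_mul, map_inv] at h3
    exact (inv_mul_eq_one.1 h3).symm
  let W : Subgroup (Y ⧸ D.subgroupOf Y) := (L.subgroupOf Y).map π
  have hW : ∀ q ∈ W, ∀ g : Y, π g = q → (g : G) ∈ L := by
    rintro _ ⟨p, hp, rfl⟩ g hg
    have : π (p⁻¹ * g) = 1 := by rw [map_mul, map_inv, hg, inv_mul_cancel]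
    have h1 := hDL ((hπ _).1 this)
    have := mul_mem (mem_subgroupOf.1 hp) h1
    rwa [show (p : G) * ((p⁻¹ * g : Y) : G) = g by simp] at this
  have lift : ∀ q : Y ⧸ D.subgroupOf Y, Odd (orderOf q) → ∃ p : Y, π p = q ∧ Odd (orderOf (p : G)) := by
    intro q hq
    obtain ⟨p, rfl⟩ := QuotientGroup.mk'_surjective (D.subgroupOf Y) q
    have hpD : ((p ^ orderOf (π p) : Y) : G) ∈ D :=
      (hπ _).1 (by rw [map_pow, pow_orderOf_eq_one])
    obtain ⟨s, hs⟩ := hD2 ⟨_, hpD⟩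
    have hs' : ((p : G) ^ orderOf (π p)) ^ 2 ^ s = 1 := congrArg Subtype.val hs
    obtain ⟨m, hm⟩ := exists_pow_eq_self_of_coprime (x := π p) (n := 2 ^ s)
      (Nat.Coprime.pow_left s (Nat.coprime_two_left.2 hq))
    refine ⟨(p ^ 2 ^ s) ^ m, by rw [map_pow, map_pow]; exact hm, ?_⟩
    refine Odd.of_dvd_nat hq (orderOf_dvd_of_pow_eq_one ?_)
    show (((p : G) ^ 2 ^ s) ^ m) ^ orderOf (π p) = 1
    rw [← pow_mul, ← pow_mul, show 2 ^ s * (m * orderOf (π p)) = orderOf (π p) * 2 ^ s * m by ring,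
      pow_mul, pow_mul, hs', one_pow]
  have hO : Cfsg.oddCore (Y ⧸ D.subgroupOf Y) ≤ W := by
    set K := Cfsg.oddCore (Y ⧸ D.subgroupOf Y)
    have hKn : K.Normal := Core.pPrimeCore_normal
    let A : Y := ⟨a, ha⟩
    let Bb : Y := ⟨b, hb⟩
    have hA2 : π A ^ 2 = 1 := by rw [pow_two, ← map_mul]; exact (hπ _).2 ha2
    have hB2 : π Bb ^ 2 = 1 := by rw [pow_two, ← map_mul]; exact (hπ _).2 hb2
    have hAB : Commute (π A) (π Bb) := by
      have h1 : π (A * Bb * A⁻¹ * Bb⁻¹) = 1 := (hπ _).2 hab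
      rw [map_mul, map_mul, map_mul, map_inv, map_inv, mul_inv_eq_one, mul_inv_eq_iff_eq_mul] at h1
      exact h1
    have hK2 : (2 : ℕ).Coprime (Nat.card K) := (Core.coprime_card_pPrimeCore).symm
    have key : ∀ u : Y, (u : G) ∈ [a, b, a * b] → K ⊓ centralizer {π u} ≤ W := by
      rintro u hu q ⟨hqK, hq⟩
      have hodd : Odd (orderOf q) := by
        have h1 : orderOf q ∣ Nat.card K := by
          have := orderOf_dvd_natCard (⟨q, hqK⟩ : K)
          rwa [Subgroup.orderOf_mk] at this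
        exact Odd.of_dvd_nat (Nat.coprime_two_left.1 hK2) h1
      obtain ⟨p, rfl, hp⟩ := lift q hodd
      refine mem_map_of_mem π (mem_subgroupOf.2 (hfix p p.2 hp u hu ?_))
      have h1 : π (p * u * p⁻¹ * u⁻¹) = 1 := by
        rw [map_mul, map_mul, map_mul, map_inv, map_inv, mem_centralizer_singleton_iff.1 hq]
        group
      exact (hπ _).1 h1
    refine Coprime.le_of_centralizers_le hAB (by rw [normalizer_eq_top_iff.2 hKn]; trivial)
      (by rw [normalizer_eq_top_iff.2 hKn]; trivial) Nat.prime_two (by rw [hA2]; exact one_mem _)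
      (by rw [hB2]; exact one_mem _) hK2 ?_ (key A (by simp [A])) fun k => ?_
    · have hP : IsPGroup 2 (closure {π A, π Bb} : Subgroup (Y ⧸ D.subgroupOf Y)) := by
        have : IsMulCommutative (closure {π A, π Bb} : Subgroup (Y ⧸ D.subgroupOf Y)) := by
          refine isMulCommutative_closure ?_
          rintro u (rfl | rfl) v (rfl | rfl) <;> first | exact rfl | exact hAB.eq | exact hAB.eq.symm
        intro z
        refine ⟨1, ?_⟩
        have hle : closure {π A, π Bb} ≤ (MonoidHom.id (Y ⧸ D.subgroupOf Y)).range := fun _ _ => ⟨_, rfl⟩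
        obtain ⟨z, hz'⟩ := z
        apply Subtype.ext
        show z ^ (2 ^ 1) = 1
        rw [pow_one]
        induction hz' using closure_induction with
        | mem u hu => rcases hu with rfl | rfl; exacts [hA2, hB2]
        | one => exact one_pow 2
        | mul u v hu hv ihu ihv =>
          have hc : Commute u v := congrArg Subtype.val
            (IsMulCommutative.is_comm.comm (⟨u, hu⟩ : closure {π A, π Bb}) ⟨v, hv⟩)
          rw [hc.mul_pow, ihu, ihv, one_mul]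
        | inv u hu ihu => rw [inv_pow, ihu, inv_one]
      obtain ⟨n, hn⟩ := IsPGroup.iff_card.1 hP
      rw [hn]
      exact hK2.pow_left n
    · rcases Nat.even_or_odd k with ⟨l, rfl⟩ | ⟨l, rfl⟩
      · rw [← two_mul, pow_mul, hA2, one_pow, one_mul]; exact key Bb (by simp [Bb])
      · rw [pow_succ, pow_mul, hA2, one_pow, one_mul, ← map_mul]; exact key (A * Bb) (by simp [A, Bb])
  intro g hg
  obtain ⟨o, ho, hco⟩ := Invol.isolated_decomp hz (π ⟨g, hg⟩)
  obtain ⟨p, rfl⟩ := QuotientGroup.mk'_surjective (D.subgroupOf Y) o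
  have h1 : π (X⁻¹ * ((p⁻¹ * ⟨g, hg⟩) * X * (p⁻¹ * ⟨g, hg⟩)⁻¹)) = 1 := by
    rw [← map_inv, ← map_mul] at hco
    rw [map_mul, map_mul, map_mul, hco.eq, map_inv, map_inv, mul_inv_cancel_right]
    exact inv_mul_cancel _
  have h2 := hc _ (p⁻¹ * ⟨g, hg⟩).2 ((hπ _).1 h1)
  have h3 := mul_mem (hW _ (hO ho) p rfl) h2
  rwa [show (p : G) * ((p⁻¹ * ⟨g, hg⟩ : Y) : G) = g by simp] at h3

end Cfsg.Agent.A12Type
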