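import Cfsg.Agent.A12Type.HostFacts
import Cfsg.Agent.A12Type.IsoLe

/-!
The centralizer of the involution of weight one lies in the host.
-/

set_option autoImplicit false
set_option maxRecDepth 100000
set_option synthInstance.maxSize 4000
set_option synthInstance.maxHeartbeats 400000

namespace Cfsg.Agent.A12Type

open Equiv

/-- The flip of the last block on thirteen points. -/
def E2 : Perm (Fin 13) := swap 8 9 * swap 10 11

/-- The swap of the last block on thirteen points. -/
def F2 : Perm (Fin 13) := swap 8 10 * swap 9 11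

theorem ext_block : ext13 (elP 16) = E2 ∧ ext13 (elP 32) = F2 ∧ ext13 (elP 48) = E2 * F2 ∧
    E2 * E2 = 1 ∧ F2 * F2 = 1 := by
  decide +kernel

/-- The points outside a four-element list. -/
def restPts (l : List (Fin 13)) : List (Fin 13) := (List.finRange 13).filter fun i => !l.elem i

/-- The fixed-point-free witness through a triangle. -/
def witQ (a b c d : Fin 13) : Perm (Fin 13) :=
  let r := restPts ([8, 9, 10, 11, a, b, c, d] : List (Fin 13))
  let t : Perm (Fin 13) := if [a, b].all (fun i => ([8, 9, 10, 11] : List (Fin 13)).elem i)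
    then swap c d else swap a b
  E2 * t * (swap (r.getD 0 0) (r.getD 1 0) * swap (r.getD 2 0) (r.getD 3 0) * swap (r.getD 4 0) (r.getD 5 0))

theorem dbl_table :
    ((List.finRange 13).all fun a => (List.finRange 13).all fun b => (List.finRange 13).all fun c =>
      (List.finRange 13).all fun d =>
        if a < b ∧ c < d ∧ a < c ∧ b ≠ c ∧ b ≠ d then
          let p := swap a b * swap c d
          if p * E2 = E2 * p ∧ (p * E2).support.card = 4 then
            decide (p = F2 ∨ p = E2 * F2 ∨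
              (witQ a b c d * witQ a b c d = 1 ∧ (witQ a b c d).support.card = 12 ∧
                (witQ a b c d * E2).support.card = 8 ∧ (witQ a b c d * p).support.card = 8 ∧
                (witQ a b c d * (E2 * p)).support.card = 8 ∧ witQ a b c d * E2 = E2 * witQ a b c d ∧
                witQ a b c d * p = p * witQ a b c d ∧ (p 12 = 12 → witQ a b c d 12 = 12)))
          else true
        else true) = true := by
  decide +kernel

theorem swap_swap_comm {n : ℕ} {a b c d : Fin n} (h1 : a ≠ c) (h2 : a ≠ d) (h3 : b ≠ c) (h4 : b ≠ d) :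
    swap a b * swap c d = swap c d * swap a b := by
  have : swap a b * swap c d * (swap a b)⁻¹ = swap c d := by
    have h := Equiv.mul_swap_eq_swap_mul (swap a b) c d
    rw [h, swap_apply_of_ne_of_ne h1.symm h3.symm, swap_apply_of_ne_of_ne h2.symm h4.symm, mul_inv_cancel_right]
  calc swap a b * swap c d = swap a b * swap c d * (swap a b)⁻¹ * swap a b := by group
    _ = _ := by rw [this]

/-- A double transposition normalizing the block with a double product is in it or has a witness. -/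
theorem dbl_cases {p : Perm (Fin 13)} {a b c d : Fin 13} (hab : a ≠ b) (hcd : c ≠ d) (hac : a ≠ c)
    (had : a ≠ d) (hbc : b ≠ c) (hbd : b ≠ d) (hp : p = swap a b * swap c d)
    (hc : p * E2 = E2 * p) (hs : (p * E2).support.card = 4) :
    p = F2 ∨ p = E2 * F2 ∨ ∃ q : Perm (Fin 13), q * q = 1 ∧ Perm.sign q = 1 ∧ q.support.card = 12 ∧
      (q * E2).support.card = 8 ∧ (q * p).support.card = 8 ∧ (q * (E2 * p)).support.card = 8 ∧
      q * E2 = E2 * q ∧ q * p = p * q ∧ (p 12 = 12 → q 12 = 12) := by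
  obtain ⟨a, b, c, d, h1, h2, h3, h4, h5, rfl⟩ : ∃ a' b' c' d' : Fin 13, a' < b' ∧ c' < d' ∧ a' < c' ∧
      b' ≠ c' ∧ b' ≠ d' ∧ p = swap a' b' * swap c' d' := by
    subst hp
    wlog h : a < b generalizing a b
    · have := this hab.symm hbc hbd hac had (by rwa [swap_comm b a]) (by rwa [swap_comm b a])
        (lt_of_le_of_ne (not_lt.1 h) hab.symm)
      rwa [swap_comm b a] at this
    wlog h' : c < d generalizing c d
    · have := this hcd.symm had hac hbd hbc (by rwa [swap_comm d c]) (by rwa [swap_comm d c])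
        (lt_of_le_of_ne (not_lt.1 h') hcd.symm)
      rwa [swap_comm d c] at this
    rcases lt_trichotomy a c with h'' | h'' | h''
    · exact ⟨a, b, c, d, h, h', h'', hbc, hbd, rfl⟩
    · exact absurd h'' hac
    · exact ⟨c, d, a, b, h', h, h'', had.symm, hbd.symm, swap_swap_comm hac had hbc hbd⟩
  have h := List.all_eq_true.1 (List.all_eq_true.1 (List.all_eq_true.1 (List.all_eq_true.1 dbl_table a
    (List.mem_finRange a)) b (List.mem_finRange b)) c (List.mem_finRange c)) d (List.mem_finRange d)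
  rw [if_pos ⟨h1, h2, h3, h4, h5⟩] at h
  simp only [if_pos (And.intro hc hs), decide_eq_true_eq] at h
  rcases h with h | h | ⟨w1, w2, w3, w4, w5, w6, w7, w8⟩
  · exact Or.inl h
  · exact Or.inr (Or.inl h)
  refine Or.inr (Or.inr ⟨_, w1, ?_, w2, w3, w4, w5, w6, w7, w8⟩)
  have : Fact (Nat.Prime 2) := ⟨Nat.prime_two⟩
  have ht := Perm.cycleType_of_pow_prime_eq_one (p := 2) (σ := witQ a b c d) (by rw [pow_two, w1])
  have hsum := Perm.sum_cycleType (witQ a b c d)
  rw [ht, Multiset.sum_replicate, smul_eq_mul, w2] at hsum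
  rw [Perm.sign_of_cycleType', ht, Multiset.map_replicate, Multiset.prod_replicate,
    show (witQ a b c d).cycleType.card = 6 by omega]
  decide

/-- An involution moving twelve points and centralizing the block has the support of one of its translates. -/
theorem block_translate {s : Perm (Fin 13)} (hE : s * E2 = E2 * s) (hF : s * F2 = F2 * s)
    (h12 : s.support.card = 12) :
    (s * E2).support.card = 12 ∨ (s * F2).support.card = 12 := by
  have h9 : s 9 = E2 (s 8) := congrArg (fun t : Perm (Fin 13) => t 8) hE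
  have h10 : s 10 = F2 (s 8) := congrArg (fun t : Perm (Fin 13) => t 8) hF
  have h11 : s 11 = F2 (E2 (s 8)) := by
    have := congrArg (fun t : Perm (Fin 13) => t 9) hF
    change s 11 = F2 (s 9) at this
    rwa [h9] at this
  have out : ∀ i : Fin 13, i ≠ 8 → i ≠ 9 → i ≠ 10 → i ≠ 11 → E2 i = i ∧ F2 i = i := by decide +kernel
  have hcase : s 8 = 8 ∨ s 8 = 9 ∨ s 8 = 10 ∨ s 8 = 11 := by
    by_contra h
    rw [not_or, not_or, not_or] at h
    have := (out (s 8) h.1 h.2.1 h.2.2.1 h.2.2.2).1
    rw [← h9] at this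
    exact absurd (s.injective this) (by decide)
  have eq_supp : ∀ v : Perm (Fin 13), (∀ i, i ≠ 8 → i ≠ 9 → i ≠ 10 → i ≠ 11 → v i = i) →
      (∀ i, (i = 8 ∨ i = 9 ∨ i = 10 ∨ i = 11) → (s (v i) ≠ i ∧ s i ≠ i)) →
      (s * v).support.card = 12 := by
    intro v ho hb
    rw [← h12]
    congr 1
    ext i
    rw [Perm.mem_support, Perm.mem_support, Perm.mul_apply]
    by_cases hi : i = 8 ∨ i = 9 ∨ i = 10 ∨ i = 11
    · exact ⟨fun _ => (hb i hi).2, fun _ => (hb i hi).1⟩
    · rw [not_or, not_or, not_or] at hi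
      rw [ho i hi.1 hi.2.1 hi.2.2.1 hi.2.2.2]
  rcases hcase with h | h | h | h <;> rw [h] at h9 h10 h11
  · exfalso
    have hsub : s.support ⊆ Finset.univ \ {8, 9, 10, 11} := by
      intro i hi
      rw [Perm.mem_support] at hi
      simp only [Finset.mem_sdiff, Finset.mem_univ, true_and, Finset.mem_insert, Finset.mem_singleton]
      rintro (rfl | rfl | rfl | rfl)
      · exact hi h
      · exact hi (h9.trans (by decide +kernel))
      · exact hi (h10.trans (by decide +kernel))
      · exact hi (h11.trans (by decide +kernel))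
    have := Finset.card_le_card hsub
    rw [h12, show (Finset.univ \ ({8, 9, 10, 11} : Finset (Fin 13))).card = 9 by decide] at this
    omega
  all_goals
    have t9 : s 9 = _ := h9.trans rfl
  · refine Or.inr (eq_supp F2 (fun i a b c d => (out i a b c d).2) ?_)
    have e : E2 9 = 8 ∧ F2 9 = 11 ∧ F2 (E2 9) = 10 ∧ F2 8 = 10 ∧ F2 10 = 8 ∧ F2 11 = 9 := by decide +kernel
    rintro i (rfl | rfl | rfl | rfl) <;>
      simp only [e.1, e.2.1, e.2.2.1, e.2.2.2.1, e.2.2.2.2.1, e.2.2.2.2.2, h, h9, h10, h11] <;> decide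
  · refine Or.inl (eq_supp E2 (fun i a b c d => (out i a b c d).1) ?_)
    have e : E2 10 = 11 ∧ F2 10 = 8 ∧ F2 (E2 10) = 9 ∧ E2 8 = 9 ∧ E2 9 = 8 ∧ E2 11 = 10 := by decide +kernel
    rintro i (rfl | rfl | rfl | rfl) <;>
      simp only [e.1, e.2.1, e.2.2.1, e.2.2.2.1, e.2.2.2.2.1, e.2.2.2.2.2, h, h9, h10, h11] <;> decide
  · refine Or.inl (eq_supp E2 (fun i a b c d => (out i a b c d).1) ?_)
    have e : E2 11 = 10 ∧ F2 11 = 9 ∧ F2 (E2 11) = 8 ∧ E2 8 = 9 ∧ E2 9 = 8 ∧ E2 10 = 11 := by decide +kernel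
    rintro i (rfl | rfl | rfl | rfl) <;>
      simp only [e.1, e.2.1, e.2.2.1, e.2.2.2.1, e.2.2.2.2.1, e.2.2.2.2.2, h, h9, h10, h11] <;> decide

namespace Setup

open Subgroup

variable {G : Type*} [Group G] [Finite G] {B : Setup G} (H : B.Host)

theorem Host.supp_of_weight (h : B.PatA) (p : hostK H.big) {i : Fin 64} (hi : i ≠ 0)
    (hc : IsConj (H.φ p) (B.j i)) : (p : Perm (Fin 13)).support.card = 4 * wA i := by
  have ho := B.orderOf_j hi
  have hp : orderOf (H.φ p) = 2 := Invol.orderOf_eq_two_of_isConj hc.symm ho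
  obtain ⟨r, g, hg, e⟩ := H.exists_rep ⟨p, rfl⟩ hp
  obtain ⟨g, rfl⟩ := hg
  have hne : repIdx r ≠ 0 := (by decide : ∀ r, repIdx r ≠ 0) r
  have hw := (h _ _ hne hi).1 ((isConj_iff.2 ⟨_, e⟩).symm.trans hc)
  rw [← H.φ_el, ← map_inv, ← map_mul, ← map_mul] at e
  have e' := congrArg Subtype.val (H.inj e)
  change (g : Perm (Fin 13)) * p * (g : Perm (Fin 13))⁻¹ = ext13 (elP (repIdx r)) at e'
  have hs : ∀ r, (ext13 (elP (repIdx r))).support.card = 4 * (r.val + 1) := by decide +kernel
  rw [← hw, (rep_facts.1 r).2.1, ← hs, ← e', Perm.card_support_conj]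

theorem Host.weight_of_supp (p : hostK H.big) (hp : p * p = 1) (r : Fin 3)
    (hs : (p : Perm (Fin 13)).support.card = 4 * (r.val + 1)) : IsConj (H.φ p) (B.j (repIdx r)) := by
  have hp1 : p ≠ 1 := fun e => by
    rw [e] at hs
    simp at hs
  obtain ⟨r', g, hg⟩ := hostK_class H.big p hp hp1
  have e' := congrArg Subtype.val hg
  change (g : Perm (Fin 13)) * p * (g : Perm (Fin 13))⁻¹ = ext13 (elP (repIdx r')) at e'
  have hs' : ∀ r, (ext13 (elP (repIdx r))).support.card = 4 * (r.val + 1) := by decide +kernel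
  have := hs' r'
  rw [← e', Perm.card_support_conj, hs] at this
  obtain rfl : r = r' := Fin.ext (by omega)
  exact isConj_iff.2 ⟨H.φ g, by rw [← H.φ_el, ← hg, map_mul, map_mul, map_inv]⟩

theorem Host.mem_of_fix_block {g : G} (h16 : g * B.j 16 * g⁻¹ = B.j 16)
    (h32 : g * B.j 32 * g⁻¹ = B.j 32) : g ∈ H.φ.range := by
  have c : ∀ i, g * B.j i * g⁻¹ = B.j i → Commute g (B.j i) := fun i e => by
    show g * B.j i = B.j i * g
    calc g * B.j i = g * B.j i * g⁻¹ * g := by group
      _ = _ := by rw [e]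
  refine H.nb (mem_centralizer_iff.2 ?_)
  rintro _ ⟨n, rfl⟩
  have hn : ∀ n, blk 2 n = 0 ∨ blk 2 n = 16 ∨ blk 2 n = 32 ∨ blk 2 n = xr 16 32 := by decide +kernel
  rcases hn n with e | e | e | e <;> rw [e]
  · rw [j_zero, one_mul, mul_one]
  · exact (c _ h16).eq.symm
  · exact (c _ h32).eq.symm
  · rw [← j_mul]; exact ((c _ h16).mul_right (c _ h32)).eq.symm

theorem Host.centJ_le (h : B.PatA) : centralizer ({B.j 16} : Set G) ≤ H.φ.range := by
  set Y : Subgroup G := centralizer ({B.j 16} : Set G) with hY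
  have memY : ∀ g, g ∈ Y ↔ g * B.j 16 * g⁻¹ = B.j 16 := fun g => by
    rw [hY, mem_centralizer_singleton_iff, mul_inv_eq_iff_eq_mul]
  have hjY : ∀ i, B.j i ∈ Y := fun i => mem_centralizer_singleton_iff.2 (B.j_comm i 16).eq
  have hjL : ∀ i, B.j i ∈ H.φ.range := fun i => ⟨_, H.φ_el i⟩
  let D : Subgroup G := zpowers (B.j 16)
  have memD : ∀ d, d ∈ D → d = 1 ∨ d = B.j 16 := by
    intro d hd
    obtain ⟨n, rfl⟩ := mem_zpowers_iff.1 hd
    rw [← zpow_mod_orderOf, B.orderOf_j (by decide)]
    rcases Int.emod_two_eq n with e | e <;> push_cast <;> rw [e]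
    · exact Or.inl (zpow_zero _)
    · exact Or.inr (zpow_one _)
  have hc : ∀ g ∈ Y, (B.j 32)⁻¹ * (g * B.j 32 * g⁻¹) ∈ D → g ∈ H.φ.range := by
    intro g hg hd
    rcases memD _ hd with e | e
    · exact H.mem_of_fix_block ((memY g).1 hg) (inv_mul_eq_one.1 e).symm
    · have h48 : g * B.j 32 * g⁻¹ = B.j 48 := by
        rw [show (48 : Fin 64) = xr 32 16 from rfl, ← j_mul, ← e]; group
      have hk : (B.nG 1)⁻¹ * g ∈ H.φ.range := by
        have a16 : B.nG 1 * B.j 16 * (B.nG 1)⁻¹ = B.j 16 := by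
          rw [nG_j]; congr 1
        have a32 : B.nG 1 * B.j 32 * (B.nG 1)⁻¹ = B.j 48 := by
          rw [nG_j]; congr 1
        refine H.mem_of_fix_block ?_ ?_
        · calc (B.nG 1)⁻¹ * g * B.j 16 * ((B.nG 1)⁻¹ * g)⁻¹
              = (B.nG 1)⁻¹ * (g * B.j 16 * g⁻¹) * B.nG 1 := by group
            _ = (B.nG 1)⁻¹ * (B.nG 1 * B.j 16 * (B.nG 1)⁻¹) * B.nG 1 := by rw [(memY g).1 hg, a16]
            _ = _ := by group
        · calc (B.nG 1)⁻¹ * g * B.j 32 * ((B.nG 1)⁻¹ * g)⁻¹
              = (B.nG 1)⁻¹ * (g * B.j 32 * g⁻¹) * B.nG 1 := by group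
            _ = (B.nG 1)⁻¹ * (B.nG 1 * B.j 32 * (B.nG 1)⁻¹) * B.nG 1 := by rw [h48, a32]
            _ = _ := by group
      have := mul_mem (H.range_f ⟨_, rfl⟩ : B.nG 1 ∈ H.φ.range) hk
      rwa [mul_inv_cancel_left] at this
  have odd_fix : ∀ g : G, Odd (orderOf g) → ∀ u, Commute (g ^ 2) u → Commute g u := by
    intro g hg u hu
    obtain ⟨m, hm⟩ := exists_pow_eq_self_of_coprime (x := g) (n := 2) (Nat.coprime_two_left.2 hg)
    rw [← hm]; exact hu.pow_left m
  have j16sq := B.j_mul_self 16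
  refine le_of_isolated_image (Y := Y) (D := D) (x := B.j 32) (a := B.j 21) (b := B.j 42)
    (zpowers_le.2 (hjY 16)) (zpowers_le.2 (hjL 16)) ?_ ?_ (hjY _) (hjY _) (hjY _) ?_ ?_ hc ?_
    (by rw [j_mul_self]; exact one_mem _) (by rw [j_mul_self]; exact one_mem _) ?_ ?_
  · refine IsPGroup.of_card (n := 1) ?_
    rw [Nat.card_zpowers, B.orderOf_j (by decide)]; rfl
  · intro g hg d hd
    rcases memD d hd with rfl | rfl
    · rw [mul_one, mul_inv_cancel]; exact one_mem _
    · rw [(memY g).1 hg]; exact mem_zpowers _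
  · intro hd
    rcases memD _ hd with e | e
    · exact absurd (B.j_inj (e.trans B.j_zero.symm)) (by decide)
    · exact absurd (B.j_inj e) (by decide)
  · rw [j_mul_self]; exact one_mem _
  · intro g hg hd
    set y := g * B.j 32 * g⁻¹ with hy
    have hyy : y * y = 1 := by
      rw [hy, show g * B.j 32 * g⁻¹ * (g * B.j 32 * g⁻¹) = g * (B.j 32 * B.j 32) * g⁻¹ by group,
        j_mul_self]
      group
    have hyY : y ∈ Y := mul_mem (mul_mem hg (hjY 32)) (inv_mem hg)
    have hyL : y ∈ H.φ.range := by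
      refine hc y hyY ?_
      rcases memD _ hd with e | e
      · have : y * B.j 32 * y⁻¹ = B.j 32 := by
          rw [mul_inv_eq_one] at e
          calc y * B.j 32 * y⁻¹ = (B.j 32 * y * (B.j 32)⁻¹) * B.j 32 * y⁻¹ := by rw [e]
            _ = B.j 32 := by group
        rw [this, inv_mul_cancel]; exact one_mem _
      · have : (B.j 32)⁻¹ * (y * B.j 32 * y⁻¹) = B.j 16 := by
          have h1 : y⁻¹ = y := inv_eq_of_mul_eq_one_right hyy
          have h2 : (B.j 32)⁻¹ = B.j 32 := inv_eq_of_mul_eq_one_right (B.j_mul_self 32)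
          rw [h1, h2] at e ⊢
          rw [← e]; group
        rw [this]; exact mem_zpowers _
    obtain ⟨p, hp⟩ := hyL
    have hyj : y * B.j 16 = g * B.j 48 * g⁻¹ := by
      rw [show (48 : Fin 64) = xr 32 16 from rfl, ← j_mul]
      calc y * B.j 16 = y * (g * B.j 16 * g⁻¹) := by rw [(memY g).1 hg]
        _ = _ := by rw [hy]; group
    have hpe : H.φ (p * extC H.big (el 16)) = y * B.j 16 := by rw [map_mul, hp, H.φ_el]
    have sp : (p : Perm (Fin 13)).support.card = 4 :=
      H.supp_of_weight h p (i := 32) (by decide) (by rw [hp]; exact (isConj_iff.2 ⟨g, rfl⟩).symm)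
    have spe : ((p : Perm (Fin 13)) * E2).support.card = 4 := by
      have := H.supp_of_weight h (p * extC H.big (el 16)) (i := 48) (by decide)
        (by rw [hpe, hyj]; exact (isConj_iff.2 ⟨g, rfl⟩).symm)
      change ((p : Perm (Fin 13)) * ext13 (elP 16)).support.card = 4 * wA 48 at this
      rwa [ext_block.1] at this
    have hpc : (p : Perm (Fin 13)) * E2 = E2 * p := by
      have : p * extC H.big (el 16) = extC H.big (el 16) * p := H.inj (by
        rw [map_mul, map_mul, hp, H.φ_el]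
        calc y * B.j 16 = y * B.j 16 * y⁻¹ * y := by group
          _ = _ := by rw [(memY y).1 hyY])
      have := congrArg Subtype.val this
      change (p : Perm (Fin 13)) * ext13 (elP 16) = ext13 (elP 16) * p at this
      rwa [ext_block.1] at this
    obtain ⟨g0, hg0⟩ : ∃ g0 : Perm (Fin 13), g0 * (p : Perm (Fin 13)) * g0⁻¹ = E2 := by
      have hp1 : p ≠ 1 := fun e => by rw [e] at sp; simp at sp
      obtain ⟨r, m, hm⟩ := hostK_class H.big p (H.inj (by rw [map_mul, hp, map_one]; exact hyy)) hp1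
      have e' := congrArg Subtype.val hm
      change (m : Perm (Fin 13)) * p * (m : Perm (Fin 13))⁻¹ = ext13 (elP (repIdx r)) at e'
      have hs : ∀ r, (ext13 (elP (repIdx r))).support.card = 4 * (r.val + 1) := by decide +kernel
      have := hs r
      rw [← e', Perm.card_support_conj, sp] at this
      obtain rfl : r = 0 := Fin.ext (by simp; omega)
      exact ⟨m, e'.trans ext_block.1⟩
    have hdbl : (p : Perm (Fin 13)) = swap (g0⁻¹ 8) (g0⁻¹ 9) * swap (g0⁻¹ 10) (g0⁻¹ 11) := by
      calc (p : Perm (Fin 13)) = g0⁻¹ * (g0 * p * g0⁻¹) * g0 := by group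
        _ = g0⁻¹ * swap 8 9 * g0 * (g0⁻¹ * swap 10 11 * g0) := by rw [hg0, E2]; group
        _ = _ := by
          rw [Equiv.mul_swap_eq_swap_mul g0⁻¹ 8 9, Equiv.mul_swap_eq_swap_mul g0⁻¹ 10 11]; group
    rcases dbl_cases (g0⁻¹.injective.ne (by decide)) (g0⁻¹.injective.ne (by decide))
      (g0⁻¹.injective.ne (by decide)) (g0⁻¹.injective.ne (by decide)) (g0⁻¹.injective.ne (by decide))
      (g0⁻¹.injective.ne (by decide)) hdbl hpc spe with e | e | ⟨q, q1, qs, q12, qe, qp, qep, qce, qcp, qfix⟩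
    · have : y = B.j 32 := by
        rw [← hp, ← H.φ_el]
        exact congrArg H.φ (Subtype.ext (e.trans ext_block.2.1.symm))
      rw [this, inv_mul_cancel]; exact one_mem _
    · have : y = B.j 48 := by
        rw [← hp, ← H.φ_el]
        exact congrArg H.φ (Subtype.ext (e.trans ext_block.2.2.1.symm))
      rw [this, show (48 : Fin 64) = xr 32 16 from rfl, ← j_mul, inv_mul_cancel_left]
      exact mem_zpowers _
    exfalso
    have hqK : q ∈ hostK H.big := by
      exact ⟨qs, fun hb => qfix (p.2.2 hb)⟩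
    set Q : hostK H.big := ⟨q, hqK⟩
    have hQw : ∀ (z : hostK H.big) (r : Fin 3), z * z = 1 →
        (z : Perm (Fin 13)).support.card = 4 * (r.val + 1) → IsConj (H.φ z) (B.j (repIdx r)) :=
      fun z r hz hzs => H.weight_of_supp z hz r hzs
    set v := g⁻¹ * H.φ Q * g with hv
    have cv : ∀ i : Fin 64, ∀ z : hostK H.big, g * B.j i * g⁻¹ = H.φ z → Q * z = z * Q →
        Commute v (B.j i) := by
      intro i z hz hqz
      show g⁻¹ * H.φ Q * g * B.j i = B.j i * (g⁻¹ * H.φ Q * g)
      calc g⁻¹ * H.φ Q * g * B.j i = g⁻¹ * (H.φ Q * (g * B.j i * g⁻¹)) * g := by group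
        _ = g⁻¹ * ((g * B.j i * g⁻¹) * H.φ Q) * g := by rw [hz, ← map_mul, ← map_mul, hqz]
        _ = _ := by group
    have hQp : Q * p = p * Q := Subtype.ext qcp
    have hQe : Q * extC H.big (el 16) = extC H.big (el 16) * Q := Subtype.ext (by
      show q * ext13 (elP 16) = ext13 (elP 16) * q
      rw [ext_block.1]; exact qce)
    have cj : ∀ i, Commute v (B.j i) → v * B.j i * v⁻¹ = B.j i := fun i hc' => by
      rw [hc'.eq, mul_assoc, mul_inv_cancel, mul_one]
    have hg16 : g * B.j 16 * g⁻¹ = H.φ (extC H.big (el 16)) := by rw [(memY g).1 hg, H.φ_el]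
    obtain ⟨s, hs⟩ := H.mem_of_fix_block (cj _ (cv 16 _ hg16 hQe)) (cj _ (cv 32 p hp.symm hQp))
    have wconj : ∀ (z : hostK H.big) (r : Fin 3) (w : hostK H.big), z * z = 1 →
        (z : Perm (Fin 13)).support.card = 4 * (r.val + 1) → g * H.φ w * g⁻¹ = H.φ z →
        (w : Perm (Fin 13)).support.card = 4 * (r.val + 1) := by
      intro z r w hz hzs hw
      have h1 := H.supp_of_weight h w (i := repIdx r) ((by decide : ∀ r, repIdx r ≠ 0) r)
        ((isConj_iff.2 ⟨g, hw⟩).trans (hQw z r hz hzs))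
      rwa [(rep_facts.1 r).2.1] at h1
    have hQQ : Q * Q = 1 := Subtype.ext q1
    have hsQ : g * H.φ s * g⁻¹ = H.φ Q := by rw [hs, hv]; group
    have sq12 : (s : Perm (Fin 13)).support.card = 12 := wconj Q 2 s hQQ q12 hsQ
    have hzsq : ∀ z : hostK H.big, z * z = 1 → Q * z = z * Q → (Q * z) * (Q * z) = 1 := by
      intro z hz hqz
      rw [mul_assoc, ← mul_assoc z Q z, ← hqz, mul_assoc Q z z, hz, mul_one, hQQ]
    have he16 : extC H.big (el 16) * extC H.big (el 16) = 1 := by rw [← map_mul, el_mul, xr_self, el_zero, map_one]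
    have hp2 : p * p = 1 := H.inj (by rw [map_mul, hp, map_one]; exact hyy)
    have scF : s * extC H.big (el 32) = extC H.big (el 32) * s := H.inj (by
      rw [map_mul, map_mul, hs, H.φ_el]; exact (cv 32 p hp.symm hQp).eq)
    have scE : s * extC H.big (el 16) = extC H.big (el 16) * s := H.inj (by
      rw [map_mul, map_mul, hs, H.φ_el]; exact (cv 16 _ hg16 hQe).eq)
    have se : (s * extC H.big (el 16) : hostK H.big).1.support.card = 8 :=
      wconj (Q * extC H.big (el 16)) 1 _ (hzsq _ he16 hQe) (by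
        show (q * ext13 (elP 16)).support.card = _
        rw [ext_block.1]; exact qe) (by
        rw [map_mul, map_mul, H.φ_el, ← hsQ]
        conv_rhs => rw [← (memY g).1 hg]
        group)
    have sf : (s * extC H.big (el 32) : hostK H.big).1.support.card = 8 :=
      wconj (Q * p) 1 _ (hzsq _ hp2 hQp) qp (by
        rw [map_mul, map_mul, ← hsQ, hp, H.φ_el, hy]; group)
    change ((s : Perm (Fin 13)) * ext13 (elP 16)).support.card = 8 at se
    change ((s : Perm (Fin 13)) * ext13 (elP 32)).support.card = 8 at sf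
    rw [ext_block.1] at se
    rw [ext_block.2.1] at sf
    have cE := congrArg Subtype.val scE
    have cF := congrArg Subtype.val scF
    change (s : Perm (Fin 13)) * ext13 (elP 16) = ext13 (elP 16) * s at cE
    change (s : Perm (Fin 13)) * ext13 (elP 32) = ext13 (elP 32) * s at cF
    rw [ext_block.1] at cE
    rw [ext_block.2.1] at cF
    rcases block_translate cE cF sq12 with h' | h' <;> omega
  · rw [(B.j_comm 21 42).eq, mul_assoc (B.j 42), mul_inv_cancel, mul_one, mul_inv_cancel]
    exact one_mem _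
  · intro g hg hodd u hu hd
    have hu3 : ∃ i, u = B.j i ∧ wA i = 3 ∧ i ≠ 0 := by
      simp only [List.mem_cons, List.not_mem_nil, or_false] at hu
      rcases hu with rfl | rfl | rfl
      · exact ⟨21, rfl, by decide, by decide⟩
      · exact ⟨42, rfl, by decide, by decide⟩
      · exact ⟨xr 21 42, B.j_mul 21 42, by decide, by decide⟩
    obtain ⟨i, rfl, hi, hi0⟩ := hu3
    have hC : centralizer ({B.j i} : Set G) ≤ H.φ.range :=
      H.cent_of_conj h H.cent_a ⟨_, H.agree tc⟩ (hjL i) B.orderOf_a (by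
        rw [← B.j_tc]; exact (h 21 i (by decide) hi0).2 (by rw [hi]; decide))
    apply hC
    rw [mem_centralizer_singleton_iff]
    rcases memD _ hd with e | e
    · rw [mul_inv_eq_one, mul_inv_eq_iff_eq_mul] at e; exact e
    · refine (odd_fix g hodd _ ?_).eq
      have e' : g * B.j i * g⁻¹ = B.j 16 * B.j i := mul_inv_eq_iff_eq_mul.1 e
      show g ^ 2 * B.j i = B.j i * g ^ 2
      calc g ^ 2 * B.j i = g * (g * B.j i * g⁻¹) * g := by rw [pow_two]; group
        _ = g * (B.j 16 * B.j i) * g := by rw [e']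
        _ = (g * B.j 16 * g⁻¹) * (g * B.j i * g⁻¹) * (g * g) := by group
        _ = B.j 16 * (B.j 16 * B.j i) * (g * g) := by rw [(memY g).1 hg, e']
        _ = _ := by rw [← mul_assoc (B.j 16), j16sq, one_mul, pow_two]

end Setup

end Cfsg.Agent.A12Type
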