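import Cfsg.Agent.A12Type.CentTTab

/-!
The centralizer of the involution of weight two lies in the host.
-/

set_option autoImplicit false
set_option maxRecDepth 100000
set_option linter.unusedSectionVars false

namespace Cfsg.Agent.A12Type

open Equiv

namespace CT

/-- The representatives on twelve points. -/
def r12 : Fin 5 → Perm (Fin 12) :=
  ![elP 20, elP 10, swap 0 2 * swap 1 3 * (swap 4 5 * swap 8 9),
    swap 0 2 * swap 2 1 * swap 1 3 * (swap 4 6 * swap 6 5 * swap 5 7),
    swap 0 2 * swap 2 1 * swap 1 3 * (swap 4 6 * swap 6 5 * swap 5 7) * (swap 8 9 * swap 10 11)]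

theorem r12_mem (r : Fin 5) : r12 r ∈ C12 := by
  have h : ∀ r i, r12 r (tcP i) = tcP (r12 r i) := by decide +kernel
  refine mem_C12 ?_ (h r)
  fin_cases r
  · exact Perm.mem_alternatingGroup.1 (Subgroup.mem_inf.1 (elP_mem 20)).1
  · exact Perm.mem_alternatingGroup.1 (Subgroup.mem_inf.1 (elP_mem 10)).1
  all_goals simp [r12, Perm.sign_mul, Fin.ext_iff]

theorem r12_ext : ∀ r, ext13 (r12 r) = R r := by decide +kernel

theorem r12_comm : ∀ r, r12 r * elP 1 = elP 1 * r12 r ∧ r12 r * elP 5 = elP 5 * r12 r := by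
  decide +kernel

theorem r12_ne : ∀ r, R r ≠ 1 ∧ R r ≠ T ∧ (R r * R r = 1 ∨ R r * R r = T) := by decide +kernel

theorem r12_low : ∀ r, r ≠ (0 : Fin 5) → ∀ p : Perm (Fin 13),
    p = ext13 (elP 1) ∨ p = ext13 (elP 4) → p * R r = R r * p := by
  rintro r - p (rfl | rfl) <;> revert r <;> decide +kernel

theorem r12_outside : ∀ r, r ≠ (0 : Fin 5) → ext13 (elP 1) ≠ R r ∧ ext13 (elP 1) ≠ R r * T := by
  decide +kernel

end CT

namespace Setup

open Subgroup

variable {G : Type*} [Group G] [Finite G] {B : Setup G} (H : B.Host)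

/-- A representative in the group. -/
def rG (B : Setup G) (r : Fin 5) : G := B.f ⟨CT.r12 r, CT.r12_mem r⟩

/-- An element of weight one or three has its centralizer in the host. -/
theorem Host.good (h : B.PatA) {i : Fin 64} (hi : i ≠ 0) (hw : wA i = 1 ∨ wA i = 3) :
    centralizer ({B.j i} : Set G) ≤ H.φ.range := by
  rcases hw with hw | hw
  · exact H.cent_of_conj h (H.centJ_le h) ⟨_, H.φ_el 16⟩ ⟨_, H.φ_el i⟩ (B.orderOf_j (by decide))
      ((h 16 i (by decide) hi).2 (by rw [hw]; decide))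
  · exact H.cent_of_conj h H.cent_a ⟨_, H.agree tc⟩ ⟨_, H.φ_el i⟩ B.orderOf_a (by
      rw [← B.j_tc]; exact (h 21 i (by decide) hi).2 (by rw [hw]; decide))

/-- The common argument for the representatives. -/
theorem Host.near (h : B.PatA) {w a b : G} {i : Fin 64} (hwL : w ∈ H.φ.range)
    (hwt : w * B.j 5 = B.j 5 * w) (hw1 : w ≠ 1) (hwt1 : w ≠ B.j 5)
    (hw2 : w * w = 1 ∨ w * w = B.j 5)
    (hi : i ≠ 0) (hiw : wA i = 1 ∨ wA i = 3) (hix : B.j i ≠ w ∧ B.j i ≠ w * B.j 5)
    (hi5 : i ≠ 5) (hxw : w * B.j i = B.j i * w)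
    (ha : a * a = 1) (hb : b * b = 1) (hab : a * b = b * a)
    (hat : a * B.j 5 = B.j 5 * a) (hbt : b * B.j 5 = B.j 5 * b)
    (haw : a * w = w * a) (hbw : b * w = w * b)
    (hfin : ∀ g : G, g * B.j 5 = B.j 5 * g → (g * w * g⁻¹ = w ∨ g * w * g⁻¹ = w * B.j 5) →
      g * B.j i * g⁻¹ ∈ H.φ.range →
        ∀ D : Subgroup G, B.j 5 ∈ D → w ∈ D → (B.j i)⁻¹ * (g * B.j i * g⁻¹) ∈ D)
    (hfix : ∀ u ∈ [a, b, a * b], ∀ g : G, g * B.j 5 = B.j 5 * g → g * w = w * g → g * u = u * g →
      g ∈ H.φ.range)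
    {g : G} (hgt : g * B.j 5 = B.j 5 * g) (hgw : g * w * g⁻¹ = w ∨ g * w * g⁻¹ = w * B.j 5) :
    g ∈ H.φ.range := by
  set t := B.j 5 with ht
  have htt : t * t = 1 := B.j_mul_self 5
  let Y : Subgroup G :=
    { carrier := {g | g * t = t * g ∧ (g * w * g⁻¹ = w ∨ g * w * g⁻¹ = w * t)}
      one_mem' := ⟨by simp, Or.inl (by simp)⟩
      mul_mem' := by
        rintro p q ⟨hp, hp'⟩ ⟨hq, hq'⟩
        have hpt : p * t * p⁻¹ = t := by rw [hp, mul_inv_cancel_right]
        refine ⟨(show Commute p t from hp).mul_left hq, ?_⟩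
        rw [show p * q * w * (p * q)⁻¹ = p * (q * w * q⁻¹) * p⁻¹ by group]
        rcases hq' with e | e <;> rw [e]
        · exact hp'
        · rw [show p * (w * t) * p⁻¹ = p * w * p⁻¹ * (p * t * p⁻¹) by group, hpt]
          rcases hp' with e' | e' <;> rw [e']
          · exact Or.inr rfl
          · exact Or.inl (by rw [mul_assoc, htt, mul_one])
      inv_mem' := by
        rintro p ⟨hp, hp'⟩
        refine ⟨(show Commute p t from hp).inv_left, ?_⟩
        rw [inv_inv]
        rcases hp' with e | e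
        · refine Or.inl ?_
          calc p⁻¹ * w * p = p⁻¹ * (p * w * p⁻¹) * p := by rw [e]
            _ = w := by group
        · refine Or.inr ?_
          have hpt : p⁻¹ * t * p = t := by rw [mul_assoc, ← hp, inv_mul_cancel_left]
          calc p⁻¹ * w * p = p⁻¹ * (p * w * p⁻¹ * t) * p := by
                rw [e, mul_assoc w t t, htt, mul_one]
            _ = w * (p⁻¹ * t * p) := by group
            _ = _ := by rw [hpt] }
  have hwtw : Commute w t := hwt
  let D : Subgroup G :=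
    { carrier := {d | d = 1 ∨ d = t ∨ d = w ∨ d = w * t}
      one_mem' := Or.inl rfl
      mul_mem' := by
        have c1 : t * w = w * t := hwtw.symm.eq
        have key : ∀ p q : G, (p = 1 ∨ p = t) → (q = 1 ∨ q = t) → p * q = 1 ∨ p * q = t := by
          rintro p q (rfl | rfl) (rfl | rfl) <;> simp [htt]
        rintro p q hp hq
        obtain ⟨p', hp', ep⟩ : ∃ p', (p' = 1 ∨ p' = t) ∧ (p = p' ∨ p = w * p') := by
          rcases hp with e | e | e | e
          exacts [⟨1, Or.inl rfl, Or.inl e⟩, ⟨t, Or.inr rfl, Or.inl e⟩,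
            ⟨1, Or.inl rfl, Or.inr (e.trans (mul_one w).symm)⟩, ⟨t, Or.inr rfl, Or.inr e⟩]
        obtain ⟨q', hq', eq⟩ : ∃ q', (q' = 1 ∨ q' = t) ∧ (q = q' ∨ q = w * q') := by
          rcases hq with e | e | e | e
          exacts [⟨1, Or.inl rfl, Or.inl e⟩, ⟨t, Or.inr rfl, Or.inl e⟩,
            ⟨1, Or.inl rfl, Or.inr (e.trans (mul_one w).symm)⟩, ⟨t, Or.inr rfl, Or.inr e⟩]
        have cp : p' * w = w * p' := by rcases hp' with rfl | rfl <;> simp [c1]
        have hpq := key p' q' hp' hq'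
        show p * q = 1 ∨ _
        rcases ep with rfl | rfl <;> rcases eq with rfl | rfl
        · rcases hpq with e | e <;> rw [e] <;> simp
        · rw [← mul_assoc, cp, mul_assoc]
          rcases hpq with e | e <;> rw [e] <;> simp
        · rw [mul_assoc]
          rcases hpq with e | e <;> rw [e] <;> simp
        · rw [show w * p' * (w * q') = w * (p' * w) * q' by group, cp,
            show w * (w * p') * q' = w * w * (p' * q') by group]
          rcases hw2 with e | e <;> rw [e] <;> rcases hpq with e' | e' <;> rw [e'] <;> simp [htt]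
      inv_mem' := by
        intro p hp
        rcases hp with e | e | e | e <;> rw [e]
        · simp
        · exact Or.inr (Or.inl (inv_eq_of_mul_eq_one_right htt))
        · rcases hw2 with e | e
          · exact Or.inr (Or.inr (Or.inl (inv_eq_of_mul_eq_one_right e)))
          · refine Or.inr (Or.inr (Or.inr (inv_eq_of_mul_eq_one_right ?_)))
            rw [← mul_assoc, e, htt]
        · rcases hw2 with e | e
          · refine Or.inr (Or.inr (Or.inr (inv_eq_of_mul_eq_one_right ?_)))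
            rw [hwtw.symm.mul_mul_mul_comm, e, htt, mul_one]
          · refine Or.inr (Or.inr (Or.inl (inv_eq_of_mul_eq_one_right ?_)))
            rw [mul_assoc, ← hwtw.eq, ← mul_assoc, e, htt] }
  have hxt : B.j i * t = t * B.j i := (B.j_comm i 5).eq
  have hDcomm : ∀ u : G, u * t = t * u → u * w = w * u → ∀ d ∈ D, u * d = d * u := by
    rintro u h1 h2 d (rfl | rfl | rfl | rfl)
    exacts [by simp, h1, h2, (show Commute u w from h2).mul_right h1]
  have hD4 : ∀ d ∈ D, d ^ 4 = 1 := by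
    have t4 : t ^ 4 = 1 := by rw [show 4 = 2 * 2 from rfl, pow_mul, pow_two t, htt, one_pow]
    have w4 : w ^ 4 = 1 := by
      rw [show 4 = 2 * 2 from rfl, pow_mul, pow_two w]
      rcases hw2 with e | e <;> rw [e] <;> simp [pow_two, htt]
    rintro d (rfl | rfl | rfl | rfl)
    exacts [one_pow 4, t4, w4, by rw [hwtw.mul_pow, w4, t4, one_mul]]
  have tL : t ∈ H.φ.range := ⟨_, H.φ_el 5⟩
  have hDL : D ≤ H.φ.range := by
    rintro d (rfl | rfl | rfl | rfl)
    exacts [one_mem _, tL, hwL, mul_mem hwL tL]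
  have hxY : B.j i ∈ Y := ⟨hxt, Or.inl (by rw [← hxw, mul_inv_cancel_right])⟩
  have memY : ∀ u : G, u * t = t * u → u * w = w * u → u ∈ Y := fun u h1 h2 =>
    ⟨h1, Or.inl (by rw [h2, mul_inv_cancel_right])⟩
  have hc : ∀ p ∈ Y, (B.j i)⁻¹ * (p * B.j i * p⁻¹) ∈ D → p ∈ H.φ.range := by
    intro p _ hd
    refine H.mem_of_conj h (H.good h hi hiw) ⟨_, H.φ_el i⟩ (B.orderOf_j hi) ?_
    rw [show p * B.j i * p⁻¹ = B.j i * ((B.j i)⁻¹ * (p * B.j i * p⁻¹)) by group]
    exact mul_mem ⟨_, H.φ_el i⟩ (hDL hd)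
  have hconjD : ∀ p ∈ Y, ∀ d ∈ D, p * d * p⁻¹ ∈ D := by
    rintro p ⟨hp, hp'⟩ d (rfl | rfl | rfl | rfl)
    · simp
    · exact Or.inr (Or.inl (by rw [hp, mul_inv_cancel_right]))
    · exact Or.inr (Or.inr hp')
    · rw [show p * (w * t) * p⁻¹ = p * w * p⁻¹ * (p * t * p⁻¹) by group, hp, mul_inv_cancel_right]
      rcases hp' with e | e <;> rw [e]
      · exact Or.inr (Or.inr (Or.inr rfl))
      · exact Or.inr (Or.inr (Or.inl (by rw [mul_assoc, htt, mul_one])))
  have : Fact (Nat.Prime 2) := ⟨Nat.prime_two⟩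
  refine le_of_isolated_image (Y := Y) (L := H.φ.range) (D := D) (x := B.j i) (a := a) (b := b)
    ?_ hDL ?_ hconjD hxY (memY a hat haw) (memY b hbt hbw) ?_ ?_ hc ?_ ?_ ?_ ?_ ?_ ⟨hgt, hgw⟩
  · intro d hd
    rcases hd with e | e | e | e <;> rw [e]
    exacts [one_mem _, memY t rfl hwtw.symm.eq, memY w hwt rfl,
      memY (w * t) (hwtw.mul_left (Commute.refl t)).eq
        ((Commute.refl w).mul_left hwtw.symm).eq]
  · intro d
    exact ⟨2, Subtype.ext (hD4 d d.2)⟩
  · rintro (e | e | e | e)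
    · exact hi (B.j_inj (e.trans B.j_zero.symm))
    · exact hi5 (B.j_inj e)
    · exact hix.1 e
    · exact hix.2 e
  · rw [B.j_mul_self]; exact one_mem _
  · intro p hp hd
    set y := p * B.j i * p⁻¹ with hy
    have hyY : y ∈ Y := mul_mem (mul_mem hp hxY) (inv_mem hp)
    have hyL : y ∈ H.φ.range := by
      refine hc y hyY ?_
      set d := B.j i * y * (B.j i)⁻¹ * y⁻¹ with hd'
      have e : (B.j i)⁻¹ * (y * B.j i * y⁻¹) = (B.j i)⁻¹ * d⁻¹ * B.j i := by rw [hd']; group
      rw [e, mul_assoc, ← hDcomm _ hxt hxw.symm _ (inv_mem hd), inv_mul_cancel_left]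
      exact inv_mem hd
    exact hfin p hp.1 hp.2 hyL D (Or.inr (Or.inl rfl)) (Or.inr (Or.inr (Or.inl rfl)))
  · rw [ha]; exact one_mem _
  · rw [hb]; exact one_mem _
  · rw [hab, mul_assoc b, mul_inv_cancel, mul_one, mul_inv_cancel]; exact one_mem _
  · intro p hp hodd u hu hd
    have odd_fix : ∀ v : G, Commute (p ^ 2) v → Commute p v := by
      intro v hv
      obtain ⟨m, hm⟩ := exists_pow_eq_self_of_coprime (x := p) (n := 2) (Nat.coprime_two_left.2 hodd)
      rw [← hm]; exact hv.pow_left m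
    obtain ⟨hpt, hpw⟩ := hp
    have hpw' : p * w = w * p := by
      rcases hpw with e | e
      · exact mul_inv_eq_iff_eq_mul.1 e
      · refine (odd_fix w (mul_inv_eq_iff_eq_mul.1 ?_)).eq
        calc p ^ 2 * w * (p ^ 2)⁻¹ = p * (p * w * p⁻¹) * p⁻¹ := by rw [pow_two]; group
          _ = p * w * p⁻¹ * (p * t * p⁻¹) := by nth_rewrite 1 [e]; group
          _ = w := by rw [e, hpt, mul_inv_cancel_right, mul_assoc, htt, mul_one]
    refine hfix u hu p hpt hpw' ?_
    set d := p * u * p⁻¹ * u⁻¹ with hdd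
    have hpd : p * d = d * p := hDcomm p hpt hpw' d hd
    have hn : ∀ n : ℕ, p ^ n * u * (p ^ n)⁻¹ = d ^ n * u := by
      intro n
      induction n with
      | zero => simp
      | succ n ih =>
        rw [pow_succ' p, show p * p ^ n * u * (p * p ^ n)⁻¹ = p * (p ^ n * u * (p ^ n)⁻¹) * p⁻¹ by group,
          ih, show p * (d ^ n * u) * p⁻¹ = p * d ^ n * p⁻¹ * (p * u * p⁻¹) by group,
          ((show Commute p d from hpd).pow_right n).eq, mul_inv_cancel_right,
          show p * u * p⁻¹ = d * u by rw [hdd]; group, ← mul_assoc, ← pow_succ]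
    have h1 := hn (orderOf p)
    rw [pow_orderOf_eq_one, one_mul, inv_one, mul_one] at h1
    have hd1 : d = 1 := by
      have hco : Nat.Coprime (orderOf p) 4 := by
        rw [show 4 = 2 ^ 2 from rfl]; exact (Nat.coprime_two_right.2 hodd).pow_right 2
      have h2 : d ^ orderOf p = 1 := mul_eq_right.1 h1.symm
      have h3 := Nat.dvd_gcd (orderOf_dvd_of_pow_eq_one h2) (orderOf_dvd_of_pow_eq_one (hD4 d hd))
      rw [hco.gcd_eq_one, Nat.dvd_one, orderOf_eq_one_iff] at h3
      exact h3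
    rw [hdd, mul_inv_eq_one, mul_inv_eq_iff_eq_mul] at hd1
    exact hd1

theorem Host.φ_rG (r : Fin 5) : H.φ (extC H.big ⟨CT.r12 r, CT.r12_mem r⟩) = rG B r := H.agree _

theorem rG_comm_t (r : Fin 5) : rG B r * B.j 5 = B.j 5 * rG B r := by
  rw [rG, j, ← map_mul, ← map_mul]
  exact congrArg B.f (Subtype.ext (CT.r12_comm r).2)

theorem Host.perm_of_j (i : Fin 64) {p : hostK H.big} (h : H.φ p = B.j i) :
    (p : Perm (Fin 13)) = ext13 (elP i) :=
  congrArg Subtype.val (H.inj (h.trans (H.φ_el i).symm))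

theorem Host.perm_of_rG (r : Fin 5) {p : hostK H.big} (h : H.φ p = rG B r) :
    (p : Perm (Fin 13)) = CT.R r :=
  (congrArg Subtype.val (H.inj (h.trans (H.φ_rG r).symm))).trans (CT.r12_ext r)

include H in
theorem Host.rep_ne (r : Fin 5) :
    rG B r ≠ 1 ∧ rG B r ≠ B.j 5 ∧ (rG B r * rG B r = 1 ∨ rG B r * rG B r = B.j 5) := by
  obtain ⟨n1, n2, n3⟩ := CT.r12_ne r
  refine ⟨fun e => n1 ?_, fun e => n2 ?_, ?_⟩
  · have := H.perm_of_rG r (p := 1) (by rw [map_one, e])
    exact this.symm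
  · have := H.perm_of_rG r (p := extC H.big (el 5)) (by rw [H.φ_el, e])
    rw [← this]; exact CT.host_facts.1
  · rw [← H.φ_rG, ← map_mul]
    rcases n3 with e | e
    · refine Or.inl ((congrArg H.φ (Subtype.ext ?_)).trans (map_one _))
      show ext13 (CT.r12 r) * ext13 (CT.r12 r) = 1
      rw [CT.r12_ext, e]
    · refine Or.inr ((congrArg H.φ (Subtype.ext ?_)).trans (H.φ_el 5))
      show ext13 (CT.r12 r) * ext13 (CT.r12 r) = ext13 (elP 5)
      rw [CT.r12_ext, e, CT.host_facts.1]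

theorem Host.rep_A (h : B.PatA) {g : G} (hgt : g * B.j 5 = B.j 5 * g)
    (hgw : g * B.j 20 * g⁻¹ = B.j 20 ∨ g * B.j 20 * g⁻¹ = B.j 20 * B.j 5) : g ∈ H.φ.range := by
  have jc : ∀ i k, B.j i * B.j k = B.j k * B.j i := fun i k => (B.j_comm i k).eq
  have ne : ∀ {i k : Fin 64}, i ≠ k → B.j i ≠ B.j k := fun hne e => hne (B.j_inj e)
  refine H.near h (w := B.j 20) (a := B.j 21) (b := B.j 42) (i := 21) ⟨_, H.φ_el 20⟩ (jc _ _)
    (fun e => absurd (B.j_inj (e.trans B.j_zero.symm)) (by decide)) (ne (by decide))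
    (Or.inl (B.j_mul_self _)) (by decide) (Or.inr (by decide))
    ⟨ne (by decide), by rw [j_mul]; exact ne (by decide)⟩ (by decide) (jc _ _)
    (B.j_mul_self _) (B.j_mul_self _) (jc _ _) (jc _ _) (jc _ _) (jc _ _) (jc _ _) ?_ ?_ hgt hgw
  · intro p hpt hpw hyL D ht hw
    obtain ⟨q, hq⟩ := hyL
    have hqq : q * q = 1 := H.inj (by
      rw [map_mul, hq, map_one, show p * B.j 21 * p⁻¹ * (p * B.j 21 * p⁻¹) = p * (B.j 21 * B.j 21) * p⁻¹ by group,
        j_mul_self]
      group)
    have s12 : (q : Perm (Fin 13)).support.card = 12 := by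
      rw [H.supp_of_weight h q (i := 21) (by decide) (by rw [hq]; exact (isConj_iff.2 ⟨p, rfl⟩).symm)]
      decide
    have hqt : p * B.j 21 * p⁻¹ * B.j 5 = p * (B.j 21 * B.j 5) * p⁻¹ := by
      calc p * B.j 21 * p⁻¹ * B.j 5 = p * B.j 21 * (p⁻¹ * (B.j 5 * p)) * p⁻¹ := by group
        _ = _ := by rw [← hpt]; group
    have sT : ((q : Perm (Fin 13)) * CT.T).support.card = 4 := by
      have := H.supp_of_weight h (q * extC H.big (el 5)) (i := 16) (by decide) (by
        rw [map_mul, hq, H.φ_el, hqt, j_mul, show xr 21 5 = 16 from rfl]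
        exact (isConj_iff.2 ⟨p, rfl⟩).symm)
      change ((q : Perm (Fin 13)) * ext13 (elP 5)).support.card = 4 * wA 16 at this
      rwa [CT.host_facts.1] at this
    have sW : ((q : Perm (Fin 13)) * CT.R 0).support.card = 4 := by
      obtain ⟨k, hk, hkw, hk0⟩ : ∃ k, p * B.j 21 * p⁻¹ * B.j 20 = p * B.j k * p⁻¹ ∧ wA k = 1 ∧ k ≠ 0 := by
        rcases hpw with e | e
        · refine ⟨1, ?_, by decide, by decide⟩
          calc p * B.j 21 * p⁻¹ * B.j 20 = p * B.j 21 * p⁻¹ * (p * B.j 20 * p⁻¹) := by rw [e]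
            _ = p * (B.j 21 * B.j 20) * p⁻¹ := by group
            _ = _ := by rw [j_mul, show xr 21 20 = 1 from rfl]
        · refine ⟨4, ?_, by decide, by decide⟩
          have e' : B.j 20 = p * B.j 20 * p⁻¹ * B.j 5 := by rw [e, mul_assoc, j_mul_self, mul_one]
          calc p * B.j 21 * p⁻¹ * B.j 20
              = p * B.j 21 * p⁻¹ * (p * B.j 20 * p⁻¹ * B.j 5) := by rw [← e']
            _ = p * (B.j 21 * B.j 20) * (p⁻¹ * (B.j 5 * p)) * p⁻¹ := by group
            _ = p * (B.j 21 * B.j 20 * B.j 5) * p⁻¹ := by rw [← hpt]; group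
            _ = _ := by rw [j_mul, j_mul, show xr (xr 21 20) 5 = 4 from rfl]
      have := H.supp_of_weight h (q * extC H.big (el 20)) (i := k) hk0 (by
        rw [map_mul, hq, H.φ_el, hk]
        exact (isConj_iff.2 ⟨p, rfl⟩).symm)
      change ((q : Perm (Fin 13)) * ext13 (elP 20)).support.card = 4 * wA k at this
      rwa [CT.host_facts.2.1, hkw] at this
    have hc : (q : Perm (Fin 13)) * CT.T = CT.T * q := by
      have e : q * extC H.big (el 5) = extC H.big (el 5) * q := H.inj (by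
        rw [map_mul, map_mul, hq, H.φ_el]
        exact (((show Commute p (B.j 5) from hpt).mul_left (B.j_comm 21 5)).mul_left
          (show Commute p (B.j 5) from hpt).inv_left).eq)
      have := congrArg Subtype.val e
      change (q : Perm (Fin 13)) * ext13 (elP 5) = ext13 (elP 5) * q at this
      rwa [CT.host_facts.1] at this
    have := CT.fix_A (congrArg Subtype.val hqq) s12 hc sT sW
    have hq' : p * B.j 21 * p⁻¹ = B.j 21 := by
      rw [← hq, ← H.φ_el]
      exact congrArg H.φ (Subtype.ext (this.trans CT.host_facts.2.2.2.symm))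
    rw [hq', inv_mul_cancel]
    exact one_mem _
  · intro u hu p _ _ hc
    obtain ⟨k, rfl, hk, hk0⟩ : ∃ k, u = B.j k ∧ wA k = 3 ∧ k ≠ 0 := by
      simp only [List.mem_cons, List.not_mem_nil, or_false] at hu
      rcases hu with rfl | rfl | rfl
      · exact ⟨21, rfl, by decide, by decide⟩
      · exact ⟨42, rfl, by decide, by decide⟩
      · exact ⟨xr 21 42, B.j_mul 21 42, by decide, by decide⟩
    exact H.good h hk0 (Or.inr hk) (mem_centralizer_singleton_iff.2 hc)

theorem Host.rep_B (h : B.PatA) {r : Fin 5} (hr : r ≠ 0) {g : G} (hgt : g * B.j 5 = B.j 5 * g)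
    (hgw : g * rG B r * g⁻¹ = rG B r ∨ g * rG B r * g⁻¹ = rG B r * B.j 5) : g ∈ H.φ.range := by
  have jc : ∀ i k, B.j i * B.j k = B.j k * B.j i := fun i k => (B.j_comm i k).eq
  have ne : ∀ {i k : Fin 64}, i ≠ k → B.j i ≠ B.j k := fun hne e => hne (B.j_inj e)
  obtain ⟨n1, n2, n3⟩ := H.rep_ne r
  have hwj : rG B r * B.j 1 = B.j 1 * rG B r := by
    rw [rG, j, ← map_mul, ← map_mul]
    exact congrArg B.f (Subtype.ext (CT.r12_comm r).1)
  have hwa : B.j 21 * rG B r = rG B r * B.j 21 := by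
    rw [B.j_tc, rG]
    exact (B.commute_a _).eq.symm
  refine H.near h (w := rG B r) (a := B.j 1) (b := B.j 21) (i := 1) ⟨_, H.φ_rG r⟩ (rG_comm_t r)
    n1 n2 n3 (by decide) (Or.inl (by decide)) ⟨fun e => ?_, fun e => ?_⟩ (by decide) hwj
    (B.j_mul_self _) (B.j_mul_self _) (jc _ _) (jc _ _) (jc _ _) hwj.symm hwa ?_ ?_ hgt hgw
  · exact (CT.r12_outside r hr).1 (H.perm_of_rG r (p := extC H.big (el 1)) (by rw [H.φ_el, e]))
  · refine (CT.r12_outside r hr).2 ?_
    have := congrArg Subtype.val (H.inj (show H.φ (extC H.big (el 1)) =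
      H.φ (extC H.big ⟨CT.r12 r, CT.r12_mem r⟩ * extC H.big (el 5)) by
        rw [map_mul, H.φ_el, H.φ_el, H.φ_rG, e]))
    change ext13 (elP 1) = ext13 (CT.r12 r) * ext13 (elP 5) at this
    rwa [CT.r12_ext, CT.host_facts.1] at this
  · intro p hpt hpw hyL D ht hw
    obtain ⟨q, hq⟩ := hyL
    have hqq : q * q = 1 := H.inj (by
      rw [map_mul, hq, map_one, show p * B.j 1 * p⁻¹ * (p * B.j 1 * p⁻¹) = p * (B.j 1 * B.j 1) * p⁻¹ by group,
        j_mul_self]
      group)
    have s4 : (q : Perm (Fin 13)).support.card = 4 := by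
      rw [H.supp_of_weight h q (i := 1) (by decide) (by rw [hq]; exact (isConj_iff.2 ⟨p, rfl⟩).symm)]
      decide
    have hqt : p * B.j 1 * p⁻¹ * B.j 5 = p * (B.j 1 * B.j 5) * p⁻¹ := by
      calc p * B.j 1 * p⁻¹ * B.j 5 = p * B.j 1 * (p⁻¹ * (B.j 5 * p)) * p⁻¹ := by group
        _ = _ := by rw [← hpt]; group
    have sT : ((q : Perm (Fin 13)) * CT.T).support.card = 4 := by
      have := H.supp_of_weight h (q * extC H.big (el 5)) (i := 4) (by decide) (by
        rw [map_mul, hq, H.φ_el, hqt, j_mul, show xr 1 5 = 4 from rfl]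
        exact (isConj_iff.2 ⟨p, rfl⟩).symm)
      change ((q : Perm (Fin 13)) * ext13 (elP 5)).support.card = 4 * wA 4 at this
      rwa [CT.host_facts.1] at this
    have hc : (q : Perm (Fin 13)) * CT.T = CT.T * q := by
      have e : q * extC H.big (el 5) = extC H.big (el 5) * q := H.inj (by
        rw [map_mul, map_mul, hq, H.φ_el]
        exact (((show Commute p (B.j 5) from hpt).mul_left (B.j_comm 1 5)).mul_left
          (show Commute p (B.j 5) from hpt).inv_left).eq)
      have := congrArg Subtype.val e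
      change (q : Perm (Fin 13)) * ext13 (elP 5) = ext13 (elP 5) * q at this
      rwa [CT.host_facts.1] at this
    have hcW : (q : Perm (Fin 13)) * CT.R r = CT.R r * q := by
      have hyw : Commute (p * B.j 1 * p⁻¹) (rG B r) := by
        have c1 : Commute (p * B.j 1 * p⁻¹) (p * rG B r * p⁻¹) :=
          Commute.map (show Commute (B.j 1) (rG B r) from hwj.symm) (MulAut.conj p).toMonoidHom
        rcases hpw with e | e
        · rwa [e] at c1
        · rw [e] at c1
          have c2 : Commute (p * B.j 1 * p⁻¹) (B.j 5) :=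
            ((show Commute p (B.j 5) from hpt).mul_left (B.j_comm 1 5)).mul_left
              (show Commute p (B.j 5) from hpt).inv_left
          have := c1.mul_right c2
          rwa [mul_assoc (rG B r), j_mul_self, mul_one] at this
      have e : q * extC H.big ⟨CT.r12 r, CT.r12_mem r⟩ =
          extC H.big ⟨CT.r12 r, CT.r12_mem r⟩ * q := H.inj (by
        rw [map_mul, map_mul, hq, H.φ_rG]; exact hyw.eq)
      have := congrArg Subtype.val e
      change (q : Perm (Fin 13)) * ext13 (CT.r12 r) = ext13 (CT.r12 r) * q at this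
      rwa [CT.r12_ext] at this
    rcases CT.fix_B hr (congrArg Subtype.val hqq) hc s4 sT hcW with e | e
    · rw [show p * B.j 1 * p⁻¹ = B.j 1 by
        rw [← hq, ← H.φ_el]; exact congrArg H.φ (Subtype.ext e), inv_mul_cancel]
      exact one_mem _
    · rw [show p * B.j 1 * p⁻¹ = B.j 4 by
        rw [← hq, ← H.φ_el]; exact congrArg H.φ (Subtype.ext e),
        inv_eq_of_mul_eq_one_right (B.j_mul_self 1), j_mul, show xr 1 4 = 5 from rfl]
      exact ht
  · intro u hu p hpt _ hc
    simp only [List.mem_cons, List.not_mem_nil, or_false] at hu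
    rcases hu with rfl | rfl | rfl
    · exact H.good h (by decide) (Or.inl (by decide)) (mem_centralizer_singleton_iff.2 hc)
    · exact H.good h (by decide) (Or.inr (by decide)) (mem_centralizer_singleton_iff.2 hc)
    · rw [j_mul, show xr 1 21 = 20 from rfl] at hc
      exact H.rep_A h hpt (Or.inl (by rw [hc, mul_inv_cancel_right]))

theorem Host.near_of_mem (h : B.PatA) {w : G} (hwL : w ∈ H.φ.range)
    (hwt : w * B.j 5 = B.j 5 * w) (hw1 : w ≠ 1) (hwt1 : w ≠ B.j 5)
    (hw2 : w * w = 1 ∨ w * w = B.j 5) {g : G} (hgt : g * B.j 5 = B.j 5 * g)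
    (hgw : g * w * g⁻¹ = w ∨ g * w * g⁻¹ = w * B.j 5) : g ∈ H.φ.range := by
  obtain ⟨p, rfl⟩ := hwL
  have tL : B.j 5 ∈ H.φ.range := ⟨_, H.φ_el 5⟩
  have hpT : (p : Perm (Fin 13)) * CT.T = CT.T * p := by
    have e : p * extC H.big (el 5) = extC H.big (el 5) * p := H.inj (by
      rw [map_mul, map_mul, H.φ_el]; exact hwt)
    have := congrArg Subtype.val e
    change (p : Perm (Fin 13)) * ext13 (elP 5) = ext13 (elP 5) * p at this
    rwa [CT.host_facts.1] at this
  -- an element with centralizer in the host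
  have goodcase : ∀ q : hostK H.big, q * q = 1 → q ≠ 1 → (q : Perm (Fin 13)).support.card ≠ 8 →
      g * H.φ q * g⁻¹ ∈ H.φ.range → g ∈ H.φ.range := by
    intro q hq2 hq1 hs hmem
    obtain ⟨r, m, hm⟩ := hostK_class H.big q hq2 hq1
    have e := congrArg H.φ hm
    rw [map_mul, map_mul, map_inv, H.φ_el] at e
    have hord : orderOf (H.φ q) = 2 := Invol.orderOf_eq_two_iff.2
      ⟨fun e1 => hq1 (H.inj (e1.trans (map_one H.φ).symm)), by rw [← map_mul, hq2, map_one]⟩
    refine H.mem_of_conj h ?_ ⟨q, rfl⟩ hord hmem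
    have hne : repIdx r ≠ 0 := (by decide : ∀ r, repIdx r ≠ 0) r
    refine H.cent_of_conj h (H.good h hne ?_) ⟨_, H.φ_el _⟩ ⟨q, rfl⟩ (B.orderOf_j hne)
      (isConj_iff.2 ⟨H.φ m, e⟩).symm
    have hr : r ≠ 1 := by
      rintro rfl
      refine hs ?_
      rw [H.supp_of_weight h q (i := repIdx 1) hne (isConj_iff.2 ⟨H.φ m, e⟩)]
      decide
    have : r = 0 ∨ r = 2 := by omega
    rcases this with rfl | rfl
    · exact Or.inl (by decide)
    · exact Or.inr (by decide)
  have hgw' : g * H.φ p * g⁻¹ ∈ H.φ.range := by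
    rcases hgw with e | e <;> rw [e]
    exacts [⟨p, rfl⟩, mul_mem ⟨p, rfl⟩ tL]
  set pt := p * extC H.big (el 5) with hpt
  have hptφ : H.φ pt = H.φ p * B.j 5 := by rw [hpt, map_mul, H.φ_el]
  have hgwt : g * H.φ pt * g⁻¹ ∈ H.φ.range := by
    rw [hptφ, show g * (H.φ p * B.j 5) * g⁻¹ = g * H.φ p * g⁻¹ * (g * B.j 5 * g⁻¹) by group, hgt,
      mul_inv_cancel_right]
    exact mul_mem hgw' tL
  by_contra hg
  have hbad : ((p : Perm (Fin 13)) * p = 1 ∧ (p : Perm (Fin 13)).support.card = 8 ∧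
      ((p : Perm (Fin 13)) * CT.T).support.card = 8) ∨ (p : Perm (Fin 13)) * p = CT.T := by
    rcases hw2 with e | e
    · left
      have hp2 : p * p = 1 := H.inj (by rw [map_mul, e, map_one])
      refine ⟨congrArg Subtype.val hp2, ?_, ?_⟩
      · by_contra hs
        exact hg (goodcase p hp2 (fun e1 => hw1 (by rw [e1, map_one])) hs hgw')
      · by_contra hs
        have hpt2 : pt * pt = 1 := H.inj (by
          rw [map_mul, hptφ, (show Commute (H.φ p) (B.j 5) from hwt).symm.mul_mul_mul_comm, e,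
            j_mul_self, map_one, one_mul])
        refine hg (goodcase pt hpt2 (fun e1 => ?_) ?_ hgwt)
        · have := congrArg H.φ e1
          rw [hptφ, map_one, mul_eq_one_iff_eq_inv, inv_eq_of_mul_eq_one_right (B.j_mul_self 5)] at this
          exact hwt1 this
        · show ((p : Perm (Fin 13)) * ext13 (elP 5)).support.card ≠ 8
          rw [CT.host_facts.1]; exact hs
    · right
      have := congrArg Subtype.val (H.inj (show H.φ (p * p) = H.φ (extC H.big (el 5)) by
        rw [map_mul, H.φ_el, e]))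
      change (p : Perm (Fin 13)) * p = ext13 (elP 5) at this
      rwa [CT.host_facts.1] at this
  obtain ⟨r, l, hls, hlT, hlW, hl12⟩ := CT.bad_class p.2.1 hpT hbad
  set lh : hostK H.big := ⟨l, hls, fun hb => hl12 (p.2.2 hb)⟩ with hlh
  set c := H.φ lh with hc
  have hct : c * B.j 5 = B.j 5 * c := by
    rw [hc, ← H.φ_el, ← map_mul, ← map_mul]
    refine congrArg H.φ (Subtype.ext ?_)
    show l * ext13 (elP 5) = ext13 (elP 5) * l
    rw [CT.host_facts.1]; exact hlT
  have hcw : c * H.φ p * c⁻¹ = rG B r := by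
    rw [hc, ← map_inv, ← map_mul, ← map_mul, ← H.φ_rG]
    refine congrArg H.φ (Subtype.ext ?_)
    show l * p * l⁻¹ = ext13 (CT.r12 r)
    rw [CT.r12_ext]; exact hlW
  have ht' : (c * g * c⁻¹) * B.j 5 = B.j 5 * (c * g * c⁻¹) :=
    (((show Commute c (B.j 5) from hct).mul_left hgt).mul_left
      (show Commute c (B.j 5) from hct).inv_left).eq
  have hw' : (c * g * c⁻¹) * rG B r * (c * g * c⁻¹)⁻¹ = rG B r ∨
      (c * g * c⁻¹) * rG B r * (c * g * c⁻¹)⁻¹ = rG B r * B.j 5 := by
    have e0 : (c * g * c⁻¹) * rG B r * (c * g * c⁻¹)⁻¹ = c * (g * H.φ p * g⁻¹) * c⁻¹ := by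
      rw [← hcw]; group
    rw [e0]
    rcases hgw with e | e <;> rw [e]
    · exact Or.inl hcw
    · refine Or.inr ?_
      rw [← hcw, show c * (H.φ p * B.j 5) * c⁻¹ = c * H.φ p * c⁻¹ * (c * B.j 5 * c⁻¹) by group, hct,
        mul_inv_cancel_right]
  have hcL : c ∈ H.φ.range := ⟨lh, rfl⟩
  have hmem : c * g * c⁻¹ ∈ H.φ.range := by
    by_cases hr : r = 0
    · subst hr
      have e : rG B 0 = B.j 20 := rfl
      rw [e] at hw'
      exact H.rep_A h ht' hw'
    · exact H.rep_B h hr ht' hw'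
  refine hg ?_
  have := mul_mem (mul_mem (inv_mem hcL) hmem) hcL
  rwa [show c⁻¹ * (c * g * c⁻¹) * c = g by group] at this

/-- The centralizer of the involution of weight two lies in the host. -/
theorem Host.centT_le (h : B.PatA) : centralizer ({B.j 5} : Set G) ≤ H.φ.range := by
  intro g hg
  rw [mem_centralizer_singleton_iff] at hg
  set t := B.j 5 with ht
  have htt : t * t = 1 := B.j_mul_self 5
  set u := B.j 1 with hu
  set v := g * B.j 21 * g⁻¹ with hv
  have h21 : centralizer ({B.j 21} : Set G) ≤ H.φ.range := H.good h (by decide) (Or.inr (by decide))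
  refine H.mem_of_conj h h21 ⟨_, H.φ_el 21⟩ (B.orderOf_j (by decide)) ?_
  show v ∈ H.φ.range
  have hvv : v * v = 1 := by
    rw [hv, show g * B.j 21 * g⁻¹ * (g * B.j 21 * g⁻¹) = g * (B.j 21 * B.j 21) * g⁻¹ by group, j_mul_self]
    group
  have hvt : Commute v t :=
    ((show Commute g t from hg).mul_left (B.j_comm 21 5)).mul_left (show Commute g t from hg).inv_left
  have hut : Commute u t := B.j_comm 1 5
  have huu : u * u = 1 := B.j_mul_self 1
  set d := u * v with hd
  have hdt : Commute d t := hut.mul_left hvt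
  have hudu : u * d * u = d⁻¹ := by
    rw [hd, mul_inv_rev, inv_eq_of_mul_eq_one_right hvv, inv_eq_of_mul_eq_one_right huu,
      show u * (u * v) * u = u * u * v * u by group, huu, one_mul]
  have hvdv : v * d * v = d⁻¹ := by
    rw [hd, mul_inv_rev, inv_eq_of_mul_eq_one_right hvv, inv_eq_of_mul_eq_one_right huu,
      show v * (u * v) * v = v * u * (v * v) by group, hvv, mul_one]
  have hndv : ∀ k : ℕ, wA 4 ≠ wA 21 ∧ wA 1 ≠ wA 21 := fun _ => by decide
  -- odd dihedral groups fuse the two involutions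
  have hodd : ∀ x y : G, x * x = 1 → y * y = 1 → Odd (orderOf (x * y)) → IsConj x y := by
    intro x y hx hy hxy
    obtain ⟨m, hm⟩ := hxy
    set e := x * y
    have hxe : x * e * x⁻¹ = e⁻¹ := by
      rw [inv_eq_of_mul_eq_one_right hx, mul_inv_rev, inv_eq_of_mul_eq_one_right hy,
        inv_eq_of_mul_eq_one_right hx, show x * (x * y) * x = x * x * y * x by group, hx, one_mul]
    have h1 : x * e ^ m * x⁻¹ = (e ^ m)⁻¹ := by rw [← conj_pow, hxe, inv_pow]
    refine isConj_iff.2 ⟨e ^ m, ?_⟩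
    calc e ^ m * x * (e ^ m)⁻¹ = e ^ m * x * (x * e ^ m * x⁻¹) := by rw [h1]
      _ = e ^ m * (x * x) * e ^ m * x⁻¹ := by group
      _ = e ^ (m + m) * x⁻¹ := by rw [hx, mul_one, pow_add]
      _ = e⁻¹ * x⁻¹ := by
        congr 1
        refine eq_inv_of_mul_eq_one_left ?_
        rw [← pow_succ, show m + m + 1 = orderOf e by omega, pow_orderOf_eq_one]
      _ = y := by
        rw [mul_inv_rev, mul_assoc, ← mul_inv_rev, hx, inv_one, mul_one,
          inv_eq_of_mul_eq_one_right hy]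
  have hnot : ∀ k : Fin 64, k ≠ 0 → wA k ≠ 3 → ¬ IsConj (B.j k) v := fun k hk hw e => by
    have := (h k 21 hk (by decide)).1 (e.trans (isConj_iff.2 ⟨g, rfl⟩).symm)
    exact hw (this.trans (by decide))
  have hd2 : ¬ Odd (orderOf d) := fun ho => hnot 1 (by decide) (by decide) (hodd u v huu hvv ho)
  have hdt2 : ¬ Odd (orderOf (d * t)) := fun ho => by
    refine hnot 4 (by decide) (by decide) (hodd _ v (B.j_mul_self 4) hvv ?_)
    have : d * t = B.j 4 * v := by
      rw [hd, mul_assoc, hvt.eq, ← mul_assoc, hu, ht, j_mul, show xr 1 5 = 4 from rfl]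
    rwa [← this]
  obtain ⟨k, hk⟩ := Nat.not_odd_iff_even.1 hd2
  have hkpos : 0 < k := by have := orderOf_pos d; omega
  -- the element of the dihedral group
  obtain ⟨n, hn1, hnt, hn2⟩ : ∃ n : ℕ, d ^ n ≠ 1 ∧ d ^ n ≠ t ∧
      (d ^ n * d ^ n = 1 ∨ d ^ n * d ^ n = t) := by
    have hk1 : d ^ k ≠ 1 := pow_ne_one_of_lt_orderOf hkpos.ne' (by omega)
    have hk2 : d ^ k * d ^ k = 1 := by rw [← pow_add, ← hk, pow_orderOf_eq_one]
    by_cases hkt : d ^ k = t
    · rcases Nat.even_or_odd k with ⟨l, hl⟩ | hko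
      · refine ⟨l, pow_ne_one_of_lt_orderOf (by omega) (by omega), fun e => hk1 ?_,
          Or.inr (by rw [← pow_add, ← hl, hkt])⟩
        rw [hl, pow_add, e, htt]
      · refine absurd (hko.of_dvd_nat (orderOf_dvd_of_pow_eq_one ?_)) hdt2
        obtain ⟨l, hl⟩ := hko
        rw [hdt.mul_pow, hkt, hl, pow_succ, pow_mul, pow_two t, htt, one_pow, one_mul, htt]
    · exact ⟨k, hk1, hkt, Or.inl hk2⟩
  set w := d ^ n with hw
  have hwt : Commute w t := hdt.pow_left n
  have hui : u⁻¹ = u := inv_eq_of_mul_eq_one_right huu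
  have hvi : v⁻¹ = v := inv_eq_of_mul_eq_one_right hvv
  have huw : u * w * u⁻¹ = w⁻¹ := by rw [hw, ← conj_pow, hui, hudu, inv_pow]
  have hvw : v * w * v⁻¹ = w⁻¹ := by rw [hw, ← conj_pow, hvi, hvdv, inv_pow]
  have hwinv : w⁻¹ = w ∨ w⁻¹ = w * t := by
    rcases hn2 with e | e
    · exact Or.inl (inv_eq_of_mul_eq_one_right e)
    · exact Or.inr (inv_eq_of_mul_eq_one_right (by rw [← mul_assoc, e, htt]))
  have hwL : w ∈ H.φ.range := by
    have h1 : centralizer ({u} : Set G) ≤ H.φ.range := H.good h (by decide) (Or.inl (by decide))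
    rcases hwinv with e | e <;> rw [e] at huw
    · exact h1 (mem_centralizer_singleton_iff.2 (mul_inv_eq_iff_eq_mul.1 huw).symm)
    · have hn' : B.nG 2 * u * (B.nG 2)⁻¹ = B.j 4 := by rw [hu, nG_j]; rfl
      have hwu : w * u * w⁻¹ = B.j 4 := by
        have e1 : u * w = w * (t * u) := by
          rw [← mul_assoc]; exact mul_inv_eq_iff_eq_mul.1 huw
        calc w * u * w⁻¹ = w * (t * t) * u * w⁻¹ := by rw [htt, mul_one]
          _ = w * t * (t * u) * w⁻¹ := by group
          _ = t * (w * (t * u)) * w⁻¹ := by rw [hwt.eq]; group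
          _ = t * u := by rw [← e1]; group
          _ = B.j 4 := by rw [ht, hu, j_mul, show xr 5 1 = 4 from rfl]
      have h2 : (B.nG 2)⁻¹ * w ∈ H.φ.range := h1 (mem_centralizer_singleton_iff.2 (by
        calc (B.nG 2)⁻¹ * w * u = (B.nG 2)⁻¹ * (w * u * w⁻¹) * w := by group
          _ = (B.nG 2)⁻¹ * (B.nG 2 * u * (B.nG 2)⁻¹) * w := by rw [hwu, hn']
          _ = _ := by group))
      have := mul_mem (H.range_f ⟨_, rfl⟩ : B.nG 2 ∈ H.φ.range) h2
      rwa [mul_inv_cancel_left] at this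
  refine H.near_of_mem h hwL hwt.eq hn1 hnt hn2 hvt.eq ?_
  rcases hwinv with e | e <;> rw [hvw, e]
  exacts [Or.inl rfl, Or.inr rfl]

end Setup

end Cfsg.Agent.A12Type
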