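import Cfsg.Agent.A12Type.CentJ

/-!
Even permutations of thirteen points commuting with a quadruple transposition: the troublesome
ones up to conjugation, and the permutation facts used for the centralizer of the involution of
weight two.
-/

set_option autoImplicit false
set_option maxRecDepth 100000

namespace Cfsg.Agent.A12Type.CT

open Equiv

/-- The quadruple transposition. -/
def T : Perm (Fin 13) := swap 0 1 * swap 2 3 * (swap 4 5 * swap 6 7)

/-- The pair of four-cycles. -/
def C4 : Perm (Fin 13) := swap 0 2 * swap 2 1 * swap 1 3 * (swap 4 6 * swap 6 5 * swap 5 7)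

/-- The five representatives. -/
def R : Fin 5 → Perm (Fin 13) :=
  ![swap 4 5 * swap 6 7 * E2, swap 0 2 * swap 1 3 * (swap 4 6 * swap 5 7),
    swap 0 2 * swap 1 3 * (swap 4 5 * swap 8 9), C4, C4 * E2]

/-- Application of a coded map. -/
def app (l : List ℕ) (i : ℕ) : ℕ := l.getD i 0

/-- The number of moved points. -/
def moved (l : List ℕ) : ℕ := (List.range l.length).countP fun i => app l i != i

/-- Composition. -/
def comp (l m : List ℕ) : List ℕ := m.map (app l)

/-- The flip. -/
def flip (i : ℕ) : ℕ := if i % 2 = 0 then i + 1 else i - 1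

/-- A map on eight points commuting with the flip. -/
def mkA (a b c d : ℕ) : List ℕ := [a, flip a, b, flip b, c, flip c, d, flip d]

def idA : List ℕ := List.range 8
def tA : List ℕ := [1, 0, 3, 2, 5, 4, 7, 6]

/-- The parts of the representatives on eight points. -/
def repA : Fin 4 → List ℕ :=
  ![[0, 1, 2, 3, 5, 4, 7, 6], [2, 3, 0, 1, 6, 7, 4, 5], [2, 3, 0, 1, 5, 4, 6, 7],
    [2, 3, 1, 0, 6, 7, 5, 4]]

/-- The parts of the representatives on five points. -/
def repB : Fin 3 → List ℕ := ![[0, 1, 2, 3, 4], [1, 0, 2, 3, 4], [1, 0, 3, 2, 4]]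

def witA : List (List ℕ) :=
  [[0,2,4,6],[0,4,2,6],[0,4,6,2],[4,0,2,7],[4,0,6,3],[4,6,0,3],[0,3,4,6],[0,4,3,6],[0,4,7,3],
   [4,0,3,6],[0,3,4,7],[0,4,3,7],[0,2,6,4],[0,3,6,4],[0,6,2,4],[0,6,3,4],[0,6,4,2],[0,6,4,3],
   [4,0,6,2],[4,6,0,2],[6,0,2,4],[6,0,3,4],[6,0,4,2],[6,0,4,3],[6,4,0,2],[6,4,0,3]].map
    fun l => mkA (app l 0) (app l 1) (app l 2) (app l 3)

def witB : List (List ℕ) :=
  [[0,1,2,3,4],[0,2,1,3,4],[0,2,3,1,4],[0,2,3,4,1],[2,0,3,4,1],[2,3,0,4,1],[2,3,4,0,1],
   [0,2,4,1,3],[0,2,4,3,1],[0,4,1,2,3],[0,4,2,1,3],[0,4,2,3,1],[2,0,1,3,4],[2,0,3,1,4],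
   [2,3,0,1,4],[4,0,1,2,3],[4,0,2,1,3],[4,0,2,3,1]]

/-- The class of a part on eight points. -/
def clsA (l : List ℕ) : Option (Fin 4) :=
  if comp l l = tA then some 3
  else if comp l l = idA then
    if moved l = 4 ∧ moved (comp l tA) = 4 then some 0
    else if moved l = 8 ∧ moved (comp l tA) = 8 then some 1
    else if moved l = 6 ∧ moved (comp l tA) = 6 then some 2
    else none
  else none

theorem table_A : ((List.range 8).all fun a => (List.range 8).all fun b => (List.range 8).all fun c =>
    (List.range 8).all fun d =>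
      let l := mkA a b c d
      match clsA l with
      | none => true
      | some r => !decide l.Nodup || witA.any fun g => comp g l == comp (repA r) g) = true := by
  decide +kernel

theorem table_B : ((List.range 5).all fun a => (List.range 5).all fun b => (List.range 5).all fun c =>
    (List.range 5).all fun d => (List.range 5).all fun e =>
      let l := [a, b, c, d, e]
      comp l l != List.range 5 ||
        (List.finRange 3).any fun r => decide (moved l = 2 * r.val) &&
          witB.any fun g => comp g l == comp (repB r) g && (e != 4 || app g 4 == 4)) = true := by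
  decide +kernel

theorem wit_facts : (∀ g ∈ witA, g.length = 8 ∧ g.Nodup ∧ (∀ i < 8, app g i < 8) ∧
      ∀ i < 8, app g (flip i) = flip (app g i)) ∧
    ∀ g ∈ witB, g.length = 5 ∧ g.Nodup ∧ ∀ i < 5, app g i < 5 := by
  decide +kernel

/-- The code of a permutation on the first eight points. -/
def codeA (W : Perm (Fin 13)) : List ℕ := (List.range 8).map fun i => (W (Fin.ofNat 13 i)).val

/-- The code of a permutation on the last five points. -/
def codeB (W : Perm (Fin 13)) : List ℕ :=
  (List.range 5).map fun i => (W (Fin.ofNat 13 (i + 8))).val - 8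

theorem T_val : ∀ i : Fin 13, (T i).val = if i.val < 8 then flip i.val else i.val := by decide +kernel

theorem rep_codes : ∀ r : Fin 5, codeA (R r) = repA (![0, 1, 2, 3, 3] r) ∧
    codeB (R r) = repB (![2, 0, 1, 0, 2] r) := by
  decide +kernel

theorem odd_rep : codeA (C4 * swap 8 9) = repA 3 ∧ codeB (C4 * swap 8 9) = repB 1 ∧
    Perm.sign (C4 * swap 8 9) = -1 ∧ (C4 * swap 8 9) * T = T * (C4 * swap 8 9) ∧ ∀ r, R r * T = T * R r := by
  refine ⟨by decide +kernel, by decide +kernel, ?_, by decide +kernel, by decide +kernel⟩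
  simp [C4, Fin.ext_iff]

theorem lt_iff {W : Perm (Fin 13)} (hT : W * T = T * W) (i : Fin 13) :
    (W i).val < 8 ↔ i.val < 8 := by
  have h : W (T i) = T (W i) := DFunLike.congr_fun hT i
  have hfix : ∀ j : Fin 13, T j = j ↔ ¬ j.val < 8 := by decide +kernel
  rw [← not_iff_not, ← hfix, ← hfix, ← h]
  exact W.injective.eq_iff

theorem app_codeA (W : Perm (Fin 13)) (i : Fin 13) (hi : i.val < 8) :
    app (codeA W) i.val = (W i).val := by
  simp [app, codeA, hi]

theorem app_codeB (W : Perm (Fin 13)) (i : Fin 13) (hi : ¬ i.val < 8) :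
    app (codeB W) (i.val - 8) = (W i).val - 8 := by
  have h : i.val - 8 < 5 := by omega
  have h' : Fin.ofNat 13 (i.val - 8 + 8) = i := Fin.ext (by simp; omega)
  simp [app, codeB, h, show i.val - 8 + 8 = i.val by omega]

theorem comp_codeA {V W : Perm (Fin 13)} (hW : W * T = T * W) :
    comp (codeA V) (codeA W) = codeA (V * W) := by
  simp only [comp, codeA, List.map_map]
  refine List.map_congr_left fun i hi => ?_
  rw [List.mem_range] at hi
  exact app_codeA V _ ((lt_iff hW _).2 (by simp; omega))

theorem comp_codeB {V W : Perm (Fin 13)} (hW : W * T = T * W) :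
    comp (codeB V) (codeB W) = codeB (V * W) := by
  simp only [comp, codeB, List.map_map]
  refine List.map_congr_left fun i hi => ?_
  rw [List.mem_range] at hi
  exact app_codeB V _ (fun h => by have := (lt_iff hW _).1 h; simp at this; omega)

theorem code_ext {V W : Perm (Fin 13)} (hV : V * T = T * V) (hW : W * T = T * W)
    (hA : codeA V = codeA W) (hB : codeB V = codeB W) : V = W := by
  refine Equiv.ext fun i => Fin.ext ?_
  by_cases hi : i.val < 8
  · rw [← app_codeA V i hi, hA, app_codeA W i hi]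
  · have h1 := app_codeB V i hi
    rw [hB, app_codeB W i hi] at h1
    have := (lt_iff hV i).1.mt hi
    have := (lt_iff hW i).1.mt hi
    omega

theorem codeA_eq {W : Perm (Fin 13)} (hT : W * T = T * W) :
    codeA W = mkA (W 0).val (W 2).val (W 4).val (W 6).val := by
  have h : ∀ i : Fin 13, i.val < 8 → (W (T i)).val = flip (W i).val := fun i hi => by
    rw [show W (T i) = T (W i) from DFunLike.congr_fun hT i, T_val, if_pos ((lt_iff hT i).2 hi)]
  have e : T 0 = 1 ∧ T 2 = 3 ∧ T 4 = 5 ∧ T 6 = 7 := by decide +kernel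
  have h1 := h 0 (by decide)
  have h3 := h 2 (by decide)
  have h5 := h 4 (by decide)
  have h7 := h 6 (by decide)
  rw [e.1] at h1
  rw [e.2.1] at h3
  rw [e.2.2.1] at h5
  rw [e.2.2.2] at h7
  simp only [codeA, mkA, ← h1, ← h3, ← h5, ← h7]
  rfl

theorem codeA_nodup {W : Perm (Fin 13)} : (codeA W).Nodup := by
  refine List.Nodup.map_on ?_ List.nodup_range
  intro i hi j hj h
  rw [List.mem_range] at hi hj
  have := congrArg Fin.val (W.injective (Fin.ext h))
  simp at this
  omega

theorem support_eq {W : Perm (Fin 13)} (hT : W * T = T * W) :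
    W.support.card = moved (codeA W) + moved (codeB W) := by
  have hcard : W.support.card = (List.finRange 13).countP fun i => decide (W i ≠ i) := by
    rw [show W.support = ((List.finRange 13).filter fun i => decide (W i ≠ i)).toFinset by
      ext i; simp [Perm.mem_support],
      List.toFinset_card_of_nodup ((List.nodup_finRange 13).filter _), List.countP_eq_length_filter]
  have hsplit : List.finRange 13 = ((List.range 8).map fun i => Fin.ofNat 13 i) ++
      ((List.range 5).map fun i => Fin.ofNat 13 (i + 8)) := by decide +kernel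
  rw [hcard, hsplit, List.countP_append, List.countP_map, List.countP_map]
  have lA : (codeA W).length = 8 := by simp [codeA]
  have lB : (codeB W).length = 5 := by simp [codeB]
  rw [moved, moved, lA, lB]
  congr 1
  · refine List.countP_congr fun i hi => ?_
    rw [List.mem_range] at hi
    have h := app_codeA W (Fin.ofNat 13 i) (by simp; omega)
    simp only [Fin.val_ofNat, Nat.mod_eq_of_lt (show i < 13 by omega)] at h
    simp only [Function.comp_apply, decide_eq_true_eq, bne_iff_ne, h, ne_eq, Fin.ext_iff,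
      Fin.val_ofNat, Nat.mod_eq_of_lt (show i < 13 by omega)]
  · refine List.countP_congr fun i hi => ?_
    rw [List.mem_range] at hi
    have hge := mt (lt_iff hT (Fin.ofNat 13 (i + 8))).1 (by simp; omega)
    have h := app_codeB W (Fin.ofNat 13 (i + 8)) (by simp; omega)
    simp only [Fin.val_ofNat, Nat.mod_eq_of_lt (show i + 8 < 13 by omega), Nat.add_sub_cancel] at h
    simp only [Function.comp_apply, decide_eq_true_eq, bne_iff_ne, h, ne_eq, Fin.ext_iff,
      Fin.val_ofNat, Nat.mod_eq_of_lt (show i + 8 < 13 by omega)]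
    omega

/-- A permutation from a pair of witnesses. -/
theorem exists_glue {a b : List ℕ} (ha : a ∈ witA) (hb : b ∈ witB) :
    ∃ g : Perm (Fin 13), g * T = T * g ∧ codeA g = a ∧ codeB g = b := by
  obtain ⟨la, na, ba, fa⟩ := wit_facts.1 a ha
  obtain ⟨lb, nb, bb⟩ := wit_facts.2 b hb
  let f : Fin 13 → Fin 13 := fun i =>
    if h : i.val < 8 then ⟨app a i.val, by have := ba _ h; omega⟩
    else ⟨app b (i.val - 8) + 8, by have := bb (i.val - 8) (by omega); omega⟩
  have inj : ∀ (l : List ℕ) (i j : ℕ), l.Nodup → i < l.length → j < l.length →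
      app l i = app l j → i = j := by
    intro l i j hl hi hj h
    rw [app, app, List.getD_eq_getElem?_getD, List.getD_eq_getElem?_getD, List.getElem?_eq_getElem hi,
      List.getElem?_eq_getElem hj, Option.getD_some, Option.getD_some] at h
    exact (List.Nodup.getElem_inj_iff hl).1 h
  have hf : Function.Injective f := by
    intro i j h
    have h' := congrArg Fin.val h
    by_cases hi : i.val < 8 <;> by_cases hj : j.val < 8 <;> simp only [f, hi, hj, dite_true, dite_false] at h'
    · exact Fin.ext (inj a _ _ na (by omega) (by omega) h')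
    · have := ba _ hi; omega
    · have := ba _ hj; omega
    · have := inj b (i.val - 8) (j.val - 8) nb (by omega) (by omega) (by omega)
      exact Fin.ext (by omega)
  refine ⟨Equiv.ofBijective f (Finite.injective_iff_bijective.1 hf), Equiv.ext fun i => Fin.ext ?_,
    ?_, ?_⟩
  · show (f (T i)).val = (T (f i)).val
    have hTi := T_val i
    by_cases hi : i.val < 8
    · rw [if_pos hi] at hTi
      have hfl : flip i.val < 8 := by
        unfold flip; split <;> omega
      have hfi : (f i).val = app a i.val := by simp [f, hi]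
      rw [T_val (f i), hfi, if_pos (ba _ hi), ← fa _ hi]
      simp [f, hTi, hfl]
    · rw [if_neg hi] at hTi
      have hTi' : T i = i := Fin.ext hTi
      have hfi : ¬ (f i).val < 8 := by simp [f, hi]
      rw [hTi', T_val, if_neg hfi]
  · refine List.ext_getElem (by simp [codeA, la]) fun i h1 h2 => ?_
    have : i < 8 := by omega
    simp [codeA, f, app, this, Nat.mod_eq_of_lt (show i < 13 by omega), List.getD_eq_getElem?_getD, h2]
  · refine List.ext_getElem (by simp [codeB, lb]) fun i h1 h2 => ?_
    have : i < 5 := by omega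
    simp [codeB, f, app, Nat.mod_eq_of_lt (show i + 8 < 13 by omega), List.getD_eq_getElem?_getD, h2]

/-- The troublesome elements are conjugate to the representatives. -/
theorem bad_class {W : Perm (Fin 13)} (hs : Perm.sign W = 1) (hT : W * T = T * W)
    (hbad : (W * W = 1 ∧ W.support.card = 8 ∧ (W * T).support.card = 8) ∨ W * W = T) :
    ∃ (r : Fin 5) (g : Perm (Fin 13)), Perm.sign g = 1 ∧ g * T = T * g ∧ g * W * g⁻¹ = R r ∧
      (W 12 = 12 → g 12 = 12) := by
  have hTT : T * T = 1 := by decide +kernel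
  have hWT : W * T * T = T * (W * T) := by rw [mul_assoc, hTT, mul_one, hT, ← mul_assoc, hTT, one_mul]
  have hw12 : app (codeB W) 4 = (W 12).val - 8 := app_codeB W 12 (by decide)
  obtain ⟨v, hv⟩ : ∃ v, codeB W = v := ⟨_, rfl⟩
  have hsqA := comp_codeA (V := W) hT
  have hsqB := comp_codeB (V := W) hT
  have cT : codeA T = tA ∧ codeB T = List.range 5 ∧ codeA 1 = idA ∧ codeB 1 = List.range 5 := by
    decide +kernel
  have hBinv : comp (codeB W) (codeB W) = List.range 5 := by
    rcases hbad with ⟨e, -, -⟩ | e <;> rw [hsqB, e]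
    exacts [cT.2.2.2, cT.2.1]
  have hlt : ∀ i : Fin 13, (W i).val - 8 < 5 := fun i => by omega
  have hB5 : codeB W = [(W 8).val - 8, (W 9).val - 8, (W 10).val - 8, (W 11).val - 8,
      (W 12).val - 8] := rfl
  have tB := List.all_eq_true.1 (List.all_eq_true.1 (List.all_eq_true.1 (List.all_eq_true.1
    (List.all_eq_true.1 table_B _ (List.mem_range.2 (hlt 8))) _ (List.mem_range.2 (hlt 9))) _
    (List.mem_range.2 (hlt 10))) _ (List.mem_range.2 (hlt 11))) _ (List.mem_range.2 (hlt 12))
  simp only [← hB5, hBinv, bne_self_eq_false, Bool.false_or, List.any_eq_true, Bool.and_eq_true,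
    decide_eq_true_eq, beq_iff_eq, Bool.or_eq_true] at tB
  obtain ⟨rb, -, hmB, gB, hgB, hcB, hfix⟩ := tB
  have h8 : ∀ i : Fin 13, i.val < 8 → (W i).val < 8 := fun i hi => (lt_iff hT i).2 hi
  have tA' := List.all_eq_true.1 (List.all_eq_true.1 (List.all_eq_true.1 (List.all_eq_true.1
    table_A _ (List.mem_range.2 (h8 0 (by decide)))) _ (List.mem_range.2 (h8 2 (by decide)))) _
    (List.mem_range.2 (h8 4 (by decide)))) _ (List.mem_range.2 (h8 6 (by decide)))
  simp only [← codeA_eq hT] at tA'
  obtain ⟨ra, hra, hcomb⟩ : ∃ ra, clsA (codeA W) = some ra ∧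
      ((∃ r : Fin 5, repA ra = codeA (R r) ∧ repB rb = codeB (R r)) ∨ (ra = 3 ∧ rb = 1)) := by
    have hrb : rb = 0 ∨ rb = 1 ∨ rb = 2 := by omega
    rcases hbad with ⟨e, s8, t8⟩ | e
    · rw [support_eq hT] at s8
      rw [support_eq hWT] at t8
      have eA : codeA (W * T) = comp (codeA W) tA := by
        rw [← comp_codeA (W := T) rfl, cT.1]
      have eB : moved (codeB (W * T)) = moved (codeB W) := by
        congr 1
      rw [eA, eB, hmB] at t8
      rw [hmB] at s8
      have hne : comp (codeA W) (codeA W) = idA := by rw [hsqA, e, cT.2.2.1]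
      have hne' : comp (codeA W) (codeA W) ≠ tA := by rw [hne]; decide
      rcases hrb with rfl | rfl | rfl <;> simp only [Fin.val_zero, Fin.val_one, Fin.val_two] at s8 t8
      · exact ⟨1, by rw [clsA, if_neg hne', if_pos hne, if_neg (by omega), if_pos (by omega)],
          Or.inl ⟨1, (rep_codes 1).1.symm, (rep_codes 1).2.symm⟩⟩
      · exact ⟨2, by rw [clsA, if_neg hne', if_pos hne, if_neg (by omega), if_neg (by omega),
          if_pos (by omega)], Or.inl ⟨2, (rep_codes 2).1.symm, (rep_codes 2).2.symm⟩⟩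
      · exact ⟨0, by rw [clsA, if_neg hne', if_pos hne, if_pos (by omega)],
          Or.inl ⟨0, (rep_codes 0).1.symm, (rep_codes 0).2.symm⟩⟩
    · refine ⟨3, by rw [clsA, if_pos (by rw [hsqA, e, cT.1])], ?_⟩
      rcases hrb with rfl | rfl | rfl
      · exact Or.inl ⟨3, (rep_codes 3).1.symm, (rep_codes 3).2.symm⟩
      · exact Or.inr ⟨rfl, rfl⟩
      · exact Or.inl ⟨4, (rep_codes 4).1.symm, (rep_codes 4).2.symm⟩
  simp only [hra, codeA_nodup, decide_true, Bool.not_true, Bool.false_or, List.any_eq_true,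
    beq_iff_eq] at tA'
  obtain ⟨gA, hgA, hcA⟩ := tA'
  obtain ⟨g, hgT, rfl, rfl⟩ := exists_glue hgA hgB
  have conj_eq : ∀ V : Perm (Fin 13), V * T = T * V → repA ra = codeA V → repB rb = codeB V →
      g * W * g⁻¹ = V := by
    intro V hV h1 h2
    rw [mul_inv_eq_iff_eq_mul]
    refine code_ext ?_ ?_ ?_ ?_
    · rw [mul_assoc, hT, ← mul_assoc, hgT, mul_assoc]
    · rw [mul_assoc, hgT, ← mul_assoc, hV, mul_assoc]
    · rw [← comp_codeA hT, ← comp_codeA hgT, hcA, h1]
    · rw [← comp_codeB hT, ← comp_codeB hgT, hcB, h2]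
  rcases hcomb with ⟨r, h1, h2⟩ | ⟨rfl, rfl⟩
  · have hg := conj_eq (R r) (odd_rep.2.2.2.2 r) h1 h2
    have hg12 : W 12 = 12 → g 12 = 12 := by
      intro h
      have h4 : app (codeB g) 4 = 4 := by
        rcases hfix with h' | h'
        · simp [h] at h'
        · exact h'
      rw [show app (codeB g) 4 = (g 12).val - 8 from app_codeB g 12 (by decide)] at h4
      exact Fin.ext (by simp; omega)
    rcases Int.units_eq_one_or (Perm.sign g) with hsg | hsg
    · exact ⟨r, g, hsg, hgT, hg, hg12⟩
    have hsw : swap (8 : Fin 13) 9 * T = T * swap 8 9 ∧ ∀ r, swap (8 : Fin 13) 9 * R r = R r * swap 8 9 := by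
      decide +kernel
    refine ⟨r, swap 8 9 * g, by rw [Perm.sign_mul, hsg, Perm.sign_swap (by decide)]; decide,
      by rw [mul_assoc, hgT, ← mul_assoc, hsw.1, mul_assoc], ?_, fun h => ?_⟩
    · calc swap 8 9 * g * W * (swap 8 9 * g)⁻¹ = swap 8 9 * (g * W * g⁻¹) * (swap 8 9)⁻¹ := by group
        _ = R r := by rw [hg, hsw.2 r, mul_inv_cancel_right]
    · rw [Perm.mul_apply, hg12 h]
      decide
  · exfalso
    have hg := conj_eq _ odd_rep.2.2.2.1 odd_rep.1.symm odd_rep.2.1.symm
    have h := odd_rep.2.2.1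
    rw [← hg, Perm.sign_mul, Perm.sign_mul, hs, map_inv, mul_one, mul_inv_cancel] at h
    exact absurd h (by decide)

theorem union_supp (p q : Perm (Fin 13)) : (p * q).support ⊆ p.support ∪ q.support :=
  Perm.support_mul_le p q

/-- The element of weight three is determined by its translates. -/
theorem fix_A {p : Perm (Fin 13)} (hp : p * p = 1) (h12 : p.support.card = 12) (hT : p * T = T * p)
    (hpT : (p * T).support.card = 4) (hW : (p * R 0).support.card = 4) :
    p = T * E2 := by
  have hTs : T.support.card = 8 := by decide +kernel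
  set q := p * T with hq
  have hTT : T * T = 1 := by decide +kernel
  have hp' : p = q * T := by rw [hq, mul_assoc, hTT, mul_one]
  have hdisj : Disjoint q.support T.support := by
    rw [Finset.disjoint_iff_inter_eq_empty, ← Finset.card_eq_zero]
    have h1 := Finset.card_union_add_card_inter q.support T.support
    have h2 := Finset.card_le_card (union_supp q T)
    rw [← hp', h12] at h2
    omega
  have hqfix : ∀ i : Fin 13, i.val < 8 → q i = i := fun i hi => by
    by_contra h
    exact Finset.disjoint_left.1 hdisj (Perm.mem_support.2 h)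
      (Perm.mem_support.2 ((by decide +kernel : ∀ i : Fin 13, i.val < 8 → T i ≠ i) i hi))
  have e : T * R 0 = swap 0 1 * swap 2 3 * E2 := by decide +kernel
  have hcq : q * (swap 0 1 * swap 2 3) = swap 0 1 * swap 2 3 * q := by
    have hsw : ∀ a b : Fin 13, q a = a → q b = b → q * swap a b = swap a b * q := fun a b ha hb => by
      rw [Equiv.mul_swap_eq_swap_mul, ha, hb]
    rw [← mul_assoc, hsw 0 1 (hqfix 0 (by decide)) (hqfix 1 (by decide)), mul_assoc,
      hsw 2 3 (hqfix 2 (by decide)) (hqfix 3 (by decide)), ← mul_assoc]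
  rw [hp', mul_assoc, e, ← mul_assoc, hcq, mul_assoc] at hW
  have hd : (swap (0 : Fin 13) 1 * swap 2 3).Disjoint (q * E2) := by
    intro i
    by_cases hi : i.val < 4
    · right
      rw [Perm.mul_apply, (by decide +kernel : ∀ i : Fin 13, i.val < 4 → E2 i = i) i hi, hqfix i (by omega)]
    · left
      exact (by decide +kernel : ∀ i : Fin 13, ¬ i.val < 4 → (swap (0 : Fin 13) 1 * swap 2 3 : Perm (Fin 13)) i = i) i hi
  have h4 : Finset.card (Perm.support (swap (0 : Fin 13) 1 * swap 2 3)) = 4 := by decide +kernel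
  rw [hd.card_support_mul, h4] at hW
  have h0 : q * E2 = 1 := Perm.support_eq_empty_iff.1 (Finset.card_eq_zero.1 (by omega))
  rw [hp', eq_inv_of_mul_eq_one_left h0,
    inv_eq_of_mul_eq_one_right (by decide +kernel : E2 * E2 = 1)]
  decide +kernel

/-- A product of two of the four transpositions. -/
theorem sub_T {p : Perm (Fin 13)} (hp : p * p = 1) (hT : p * T = T * p) (h4 : p.support.card = 4)
    (hpT : (p * T).support.card = 4) (i : Fin 13) : p i = i ∨ p i = T i := by
  have hTs : T.support.card = 8 := by decide +kernel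
  by_contra h
  rw [not_or] at h
  have hTT : T * T = 1 := by decide +kernel
  have hsub : T.support ⊆ p.support ∪ (p * T).support := by
    have := union_supp p (p * T)
    rwa [← mul_assoc, hp, one_mul] at this
  have hi : i ∈ p.support ∩ (p * T).support := by
    rw [Finset.mem_inter, Perm.mem_support, Perm.mem_support]
    refine ⟨h.1, fun e => h.2 ?_⟩
    rw [hT, Perm.mul_apply] at e
    calc p i = T (T (p i)) := by rw [← Perm.mul_apply T T, hTT, Perm.one_apply]
      _ = T i := by rw [e]
  have h1 := Finset.card_union_add_card_inter p.support (p * T).support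
  have h2 := Finset.card_le_card hsub
  have h3 : 0 < (p.support ∩ (p * T).support).card := Finset.card_pos.2 ⟨i, hi⟩
  omega

/-- The candidate with given moved pairs. -/
def pairsPerm (b : Fin 4 → Bool) : Perm (Fin 13) :=
  (if b 0 then swap 0 1 else 1) * (if b 1 then swap 2 3 else 1) *
    ((if b 2 then swap 4 5 else 1) * (if b 3 then swap 6 7 else 1))

theorem pairs_table : ∀ b : Fin 4 → Bool, ∀ r : Fin 5, r ≠ 0 →
    (pairsPerm b).support.card = 4 → pairsPerm b * R r = R r * pairsPerm b →
      pairsPerm b = ext13 (elP 1) ∨ pairsPerm b = ext13 (elP 4) := by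
  decide +kernel

/-- The elements of weight one commuting with a representative. -/
theorem fix_B {p : Perm (Fin 13)} {r : Fin 5} (hr : r ≠ 0) (hp : p * p = 1) (hT : p * T = T * p)
    (h4 : p.support.card = 4) (hpT : (p * T).support.card = 4) (hc : p * R r = R r * p) :
    p = ext13 (elP 1) ∨ p = ext13 (elP 4) := by
  let b : Fin 4 → Bool := fun k => decide (p ⟨2 * k.val, by omega⟩ ≠ ⟨2 * k.val, by omega⟩)
  have hb : p = pairsPerm b := by
    have hsub := sub_T hp hT h4 hpT
    have hTv : T 0 = 1 ∧ T 1 = 0 ∧ T 2 = 3 ∧ T 3 = 2 ∧ T 4 = 5 ∧ T 5 = 4 ∧ T 6 = 7 ∧ T 7 = 6 ∧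
        T 8 = 8 ∧ T 9 = 9 ∧ T 10 = 10 ∧ T 11 = 11 ∧ T 12 = 12 := by decide +kernel
    obtain ⟨t0, t1, t2, t3, t4, t5, t6, t7, t8, t9, t10, t11, t12⟩ := hTv
    have hodd : ∀ i j : Fin 13, T i = j → p j = T (p i) := fun i j e => by
      rw [← e]; exact DFunLike.congr_fun hT i
    have key : ∀ c : Fin 4 → Bool, ∀ q : Fin 13 → Fin 13,
        q 0 = (if c 0 then 1 else 0) → q 1 = T (q 0) → q 2 = (if c 1 then 3 else 2) → q 3 = T (q 2) →
        q 4 = (if c 2 then 5 else 4) → q 5 = T (q 4) → q 6 = (if c 3 then 7 else 6) → q 7 = T (q 6) →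
        q 8 = 8 → q 9 = 9 → q 10 = 10 → q 11 = 11 → q 12 = 12 → ∀ i, q i = pairsPerm c i := by
      have tab : ∀ c : Fin 4 → Bool, pairsPerm c 0 = (if c 0 then 1 else 0) ∧
          pairsPerm c 1 = T (pairsPerm c 0) ∧ pairsPerm c 2 = (if c 1 then 3 else 2) ∧
          pairsPerm c 3 = T (pairsPerm c 2) ∧ pairsPerm c 4 = (if c 2 then 5 else 4) ∧
          pairsPerm c 5 = T (pairsPerm c 4) ∧ pairsPerm c 6 = (if c 3 then 7 else 6) ∧
          pairsPerm c 7 = T (pairsPerm c 6) ∧ pairsPerm c 8 = 8 ∧ pairsPerm c 9 = 9 ∧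
          pairsPerm c 10 = 10 ∧ pairsPerm c 11 = 11 ∧ pairsPerm c 12 = 12 := by decide +kernel
      intro c q a0 a1 a2 a3 a4 a5 a6 a7 a8 a9 a10 a11 a12 i
      obtain ⟨b0, b1, b2, b3, b4, b5, b6, b7, b8, b9, b10, b11, b12⟩ := tab c
      have hcases : ∀ j : Fin 13, j = 0 ∨ j = 1 ∨ j = 2 ∨ j = 3 ∨ j = 4 ∨ j = 5 ∨ j = 6 ∨ j = 7 ∨
          j = 8 ∨ j = 9 ∨ j = 10 ∨ j = 11 ∨ j = 12 := by decide
      rcases hcases i with rfl | rfl | rfl | rfl | rfl | rfl | rfl | rfl | rfl | rfl | rfl | rfl | rfl <;>
        simp only [a0, a1, a2, a3, a4, a5, a6, a7, a8, a9, a10, a11, a12,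
          b0, b1, b2, b3, b4, b5, b6, b7, b8, b9, b10, b11, b12]
    have big : ∀ i : Fin 13, T i = i → p i = i := fun i e => by
      rcases hsub i with h | h <;> rw [h]
      exact e
    have even : ∀ (i j : Fin 13), T i = j → p i = if decide (p i ≠ i) then j else i := fun i j e => by
      by_cases h : p i = i
      · simp [h]
      · simp only [ne_eq, h, not_false_eq_true, decide_true, ↓reduceIte]
        rw [← e]; exact (hsub i).resolve_left h
    exact Equiv.ext (key b p (even 0 1 t0) (hodd 0 1 t0) (even 2 3 t2) (hodd 2 3 t2) (even 4 5 t4)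
      (hodd 4 5 t4) (even 6 7 t6) (hodd 6 7 t6) (big 8 t8) (big 9 t9) (big 10 t10) (big 11 t11)
      (big 12 t12))
  rw [hb] at h4 hc ⊢
  exact pairs_table b r hr h4 hc

theorem host_facts : ext13 (elP 5) = T ∧ ext13 (elP 20) = R 0 ∧ ext13 (elP 10) = R 1 ∧
    ext13 (elP 21) = T * E2 := by
  decide +kernel

end Cfsg.Agent.A12Type.CT
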