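import Mathlib.GroupTheory.SpecificGroups.Alternating
import Mathlib.GroupTheory.Perm.Centralizer
import Mathlib.GroupTheory.Sylow
import Mathlib.Tactic

/-!
The centralizer in the alternating group of degree twelve of a product of six disjoint transpositions,
with a numerical code of its elements: the images of the six even points, four bits each.
-/

set_option autoImplicit false
set_option maxRecDepth 100000

namespace Cfsg.Agent.A12Type

open Equiv Subgroup

/-- The fixed-point-free involution. -/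
abbrev tcP : Perm (Fin 12) :=
  Equiv.swap (0 : Fin 12) 1 * Equiv.swap (2 : Fin 12) 3 * Equiv.swap (4 : Fin 12) 5 *
    Equiv.swap (6 : Fin 12) 7 * Equiv.swap (8 : Fin 12) 9 * Equiv.swap (10 : Fin 12) 11

/-- The centralizer. -/
abbrev C12 : Subgroup (Perm (Fin 12)) :=
  alternatingGroup (Fin 12) ⊓ Subgroup.centralizer ({tcP} : Set (Perm (Fin 12)))

/-- The image of a point under a code. -/
def app (c i : ℕ) : ℕ := ((c >>> (4 * (i / 2))) &&& 15) ^^^ (i % 2)

/-- The code of six values. -/
def pack (f : ℕ → ℕ) : ℕ := f 0 + 16 * (f 1 + 16 * (f 2 + 16 * (f 3 + 16 * (f 4 + 16 * f 5))))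

/-- The code of a permutation. -/
def enc (x : Perm (Fin 12)) : ℕ :=
  pack fun k => ((x (Fin.ofNat 12 (2 * k)) : Fin 12) : ℕ)

/-- The product of two codes. -/
def mulc (a b : ℕ) : ℕ := pack fun k => app a (app b (2 * k))

/-- The code of the identity. -/
def onec : ℕ := pack fun k => 2 * k

theorem enc_one : enc 1 = onec := by decide +kernel

theorem tcP_apply : ∀ i : Fin 12, ((tcP i : Fin 12) : ℕ) = i.val ^^^ 1 := by decide +kernel

theorem comm_tc {x : Perm (Fin 12)} (hx : x ∈ C12) (i : Fin 12) : x (tcP i) = tcP (x i) := by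
  have h := mem_centralizer_singleton_iff.1 (Subgroup.mem_inf.1 hx).2
  exact congrArg (fun p : Perm (Fin 12) => p i) h

theorem digit {a0 a1 a2 a3 a4 a5 : ℕ} (h0 : a0 < 12) (h1 : a1 < 12) (h2 : a2 < 12) (h3 : a3 < 12)
    (h4 : a4 < 12) (h5 : a5 < 12) :
    let c := a0 + 16 * (a1 + 16 * (a2 + 16 * (a3 + 16 * (a4 + 16 * a5))))
    (c >>> 0) &&& 15 = a0 ∧ (c >>> 4) &&& 15 = a1 ∧ (c >>> 8) &&& 15 = a2 ∧
      (c >>> 12) &&& 15 = a3 ∧ (c >>> 16) &&& 15 = a4 ∧ (c >>> 20) &&& 15 = a5 := by
  intro c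
  have e : ∀ n : ℕ, n &&& 15 = n % 16 := fun n => Nat.and_two_pow_sub_one_eq_mod n 4
  simp only [e, Nat.shiftRight_eq_div_pow, c]
  norm_num
  omega

theorem app_pack {f : ℕ → ℕ} (h : ∀ k, k < 6 → f k < 12) {k : ℕ} (hk : k < 6) :
    (pack f >>> (4 * k)) &&& 15 = f k := by
  obtain ⟨d0, d1, d2, d3, d4, d5⟩ := digit (h 0 (by omega)) (h 1 (by omega)) (h 2 (by omega))
    (h 3 (by omega)) (h 4 (by omega)) (h 5 (by omega))
  interval_cases k
  · exact d0
  · exact d1
  · exact d2
  · exact d3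
  · exact d4
  · exact d5

theorem app_enc {x : Perm (Fin 12)} (hx : x ∈ C12) (i : Fin 12) : app (enc x) i.val = (x i).val := by
  have hd : (enc x >>> (4 * (i.val / 2))) &&& 15
      = ((x (Fin.ofNat 12 (2 * (i.val / 2))) : Fin 12) : ℕ) :=
    app_pack (f := fun k => ((x (Fin.ofNat 12 (2 * k)) : Fin 12) : ℕ)) (fun k _ => Fin.is_lt _)
      (by omega)
  rcases Nat.mod_two_eq_zero_or_one i.val with h | h
  · rw [app, hd, h, Nat.xor_zero]
    congr 2
    apply Fin.ext
    simp [Fin.val_ofNat]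
    omega
  · rw [app, hd, h, ← tcP_apply, ← comm_tc hx]
    congr 2
    apply Fin.ext
    rw [tcP_apply]
    simp only [Fin.val_ofNat]
    have := i.isLt
    obtain ⟨m, hm⟩ : ∃ m, i.val = 2 * m + 1 := ⟨i.val / 2, by omega⟩
    rw [hm, show (2 * m + 1) / 2 = m from by omega, show (2 * m) % 12 = 2 * m from by omega]
    have : m < 6 := by omega
    interval_cases m <;> decide

theorem enc_mul {x y : Perm (Fin 12)} (hx : x ∈ C12) (hy : y ∈ C12) :
    enc (x * y) = mulc (enc x) (enc y) := by
  have h : ∀ k, k < 6 →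
      (((x * y) (Fin.ofNat 12 (2 * k)) : Fin 12) : ℕ) = app (enc x) (app (enc y) (2 * k)) := by
    intro k hk
    have e : app (enc y) (2 * k) = ((y (Fin.ofNat 12 (2 * k)) : Fin 12) : ℕ) := by
      have := app_enc hy (Fin.ofNat 12 (2 * k))
      rwa [Fin.val_ofNat, Nat.mod_eq_of_lt (by omega : 2 * k < 12)] at this
    rw [e, app_enc hx]
    rfl
  simp only [enc, mulc, pack]
  rw [h 0 (by omega), h 1 (by omega), h 2 (by omega), h 3 (by omega), h 4 (by omega), h 5 (by omega)]
  rfl

theorem enc_inj {x y : Perm (Fin 12)} (hx : x ∈ C12) (hy : y ∈ C12) (h : enc x = enc y) : x = y :=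
  Equiv.ext fun i => Fin.ext (by rw [← app_enc hx, ← app_enc hy, h])

/-- Commutation of codes. -/
def commc (a b : ℕ) : Bool := mulc a b == mulc b a

theorem commute_iff {x y : Perm (Fin 12)} (hx : x ∈ C12) (hy : y ∈ C12) :
    Commute x y ↔ commc (enc x) (enc y) = true := by
  rw [commc, beq_iff_eq, ← enc_mul hx hy, ← enc_mul hy hx]
  exact ⟨fun h => congrArg enc h, fun h => enc_inj (mul_mem hx hy) (mul_mem hy hx) h⟩

/-! ### Search -/

/-- Compatibility of the first `k` values with commutation. -/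
def okc (gs : List ℕ) (k c : ℕ) : Bool :=
  gs.all fun g => (List.range k).all fun j =>
    if app g (2 * j) / 2 < k then app c (app g (2 * j)) == app g (app c (2 * j)) else true

/-- The admissible next values. -/
def cand (k c : ℕ) : List ℕ :=
  (List.range 12).filter fun a => (List.range k).all fun j => app c (2 * j) / 2 != a / 2

/-- The partial codes. -/
def grow (gs : List ℕ) : ℕ → List ℕ
  | 0 => [0]
  | k + 1 => ((grow gs k).flatMap fun c => (cand k c).map fun a => c + a * 16 ^ k).filter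
      (okc gs (k + 1))

/-- The parity of a code. -/
def parc (c : ℕ) : Bool :=
  (app c 0 + app c 2 + app c 4 + app c 6 + app c 8 + app c 10) % 2 == 0

/-- The codes of a centralizer. -/
def centCodes (gs : List ℕ) : List ℕ := (grow gs 6).filter parc

theorem prefix_app (c k i : ℕ) (hi : i / 2 < k) : app (c % 16 ^ k) i = app c i := by
  have e : ∀ n : ℕ, n &&& 15 = n % 16 := fun n => Nat.and_two_pow_sub_one_eq_mod n 4
  unfold app
  congr 1
  rw [e, e, Nat.shiftRight_eq_div_pow, Nat.shiftRight_eq_div_pow, pow_mul]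
  obtain ⟨d, rfl⟩ : ∃ d, k = i / 2 + 1 + d := Nat.exists_eq_add_of_le hi
  norm_num only
  rw [show (16 : ℕ) ^ (i / 2 + 1 + d) = 16 ^ (i / 2) * (16 * 16 ^ d) from by
    rw [pow_add, pow_add]; ring, Nat.mod_mul_right_div_self, Nat.mod_mul_right_mod]

theorem app_lt {x : Perm (Fin 12)} (hx : x ∈ C12) {i : ℕ} (hi : i < 12) : app (enc x) i < 12 := by
  rw [app_enc hx ⟨i, hi⟩]
  exact Fin.is_lt _

theorem mem_grow {x : Perm (Fin 12)} (hx : x ∈ C12) {gs : List ℕ}
    (hg : ∀ g ∈ gs, ∃ y ∈ C12, enc y = g ∧ Commute x y) :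
    ∀ k, k ≤ 6 → enc x % 16 ^ k ∈ grow gs k := by
  intro k
  induction k with
  | zero => intro _; simp [grow, Nat.mod_one]
  | succ k ih =>
    intro hk
    have hk2 : 2 * k < 12 := by omega
    refine List.mem_filter.2 ⟨List.mem_flatMap.2 ⟨_, ih (by omega), List.mem_map.2
      ⟨app (enc x) (2 * k), ?_, ?_⟩⟩, ?_⟩
    · refine List.mem_filter.2 ⟨List.mem_range.2 (app_lt hx hk2), List.all_eq_true.2 fun j hj => ?_⟩
      have hj : j < k := List.mem_range.1 hj
      rw [prefix_app _ _ _ (by omega), bne_iff_ne]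
      intro h
      set a := app (enc x) (2 * j) with ha
      set b := app (enc x) (2 * k) with hb
      have e1 : (x ⟨2 * j, by omega⟩).val = a := (app_enc hx _).symm
      have e2 : (x ⟨2 * k, hk2⟩).val = b := (app_enc hx _).symm
      have hab : a = b ∨ a = b ^^^ 1 := by
        have hb12 : b < 12 := e2 ▸ Fin.is_lt _
        have ha12 : a < 12 := e1 ▸ Fin.is_lt _
        have hh : ∀ u : Fin 12, ∀ v : Fin 12, u.val / 2 = v.val / 2 →
            u.val = v.val ∨ u.val = v.val ^^^ 1 := by decide +kernel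
        exact hh ⟨a, ha12⟩ ⟨b, hb12⟩ h
      rcases hab with h | h
      · have := x.injective (Fin.ext (e1.trans (h.trans e2.symm)))
        simp [Fin.ext_iff] at this
        omega
      · have : x ⟨2 * j, by omega⟩ = x (tcP ⟨2 * k, hk2⟩) := by
          rw [comm_tc hx]
          exact Fin.ext (by rw [tcP_apply, e1, e2, h])
        have := congrArg Fin.val (x.injective this)
        rw [tcP_apply] at this
        have h3 : ∀ m : Fin 6, 2 * m.val ^^^ 1 = 2 * m.val + 1 := by decide
        rw [h3 ⟨k, by omega⟩] at this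
        simp only at this
        omega
    · unfold app
      have e : ∀ n : ℕ, n &&& 15 = n % 16 := fun n => Nat.and_two_pow_sub_one_eq_mod n 4
      rw [show 2 * k / 2 = k from by omega, show 2 * k % 2 = 0 from by omega, Nat.xor_zero, e,
        Nat.shiftRight_eq_div_pow, pow_mul, show (2 : ℕ) ^ 4 = 16 from rfl, Nat.mod_pow_succ]
      ring
    · refine List.all_eq_true.2 fun g hgm => List.all_eq_true.2 fun j hj => ?_
      have hj : j < k + 1 := List.mem_range.1 hj
      obtain ⟨y, hy, rfl, hc⟩ := hg g hgm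
      split_ifs with hq
      · rw [beq_iff_eq, prefix_app _ _ _ hq, prefix_app _ _ _ (by omega)]
        have h2j : 2 * j < 12 := by omega
        rw [app_enc hy ⟨2 * j, h2j⟩, app_enc hx, app_enc hx ⟨2 * j, h2j⟩, app_enc hy]
        exact congrArg Fin.val (congrArg (fun p : Perm (Fin 12) => p ⟨2 * j, h2j⟩) hc.eq)
      · rfl

theorem par_sum (a b c d f g : ℕ) (h : (a % 2 + b % 2 + c % 2 + d % 2 + f % 2 + g % 2) % 2 = 0) :
    (a + b + c + d + f + g) % 2 = 0 := by omega

/-- The parity of the code of an element. -/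
theorem parc_enc {x : Perm (Fin 12)} (hx : x ∈ C12) : parc (enc x) = true := by
  obtain ⟨e, hpair, hsplit, he0⟩ : ∃ e : Fin 6 × Fin 2 ≃ Fin 12,
      (∀ k : Fin 6, e (k, 1) = tcP (e (k, 0))) ∧
      (∀ u : Fin 12, e (⟨u.val / 2, by omega⟩, ⟨u.val % 2, by omega⟩) = u) ∧
      ∀ k : Fin 6, (e (k, 0)).val = 2 * k.val :=
    ⟨finProdFinEquiv, by decide +kernel, by decide +kernel, by decide +kernel⟩
  let s : Fin 6 → Fin 6 := fun k => ⟨(x (e (k, 0))).val / 2, by omega⟩
  have hs : Function.Injective s := by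
    intro k l h
    have h1 := congrArg Fin.val h
    simp only [s] at h1
    have hh : ∀ u v : Fin 12, u.val / 2 = v.val / 2 → u = v ∨ u = tcP v := by decide +kernel
    rcases hh _ _ h1 with h2 | h2
    · exact (Prod.ext_iff.1 (e.injective (x.injective h2))).1
    · rw [← comm_tc hx, ← hpair] at h2
      exact (Prod.ext_iff.1 (e.injective (x.injective h2))).1
  let σ : Perm (Fin 6) := Equiv.ofBijective s ((Finite.injective_iff_bijective).1 hs)
  let τ : Fin 6 → Perm (Fin 2) := fun k => if (x (e (k, 0))).val % 2 = 0 then 1 else Equiv.swap 0 1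
  have key : e.symm.permCongr x = Equiv.prodCongrLeft (fun _ => σ) * Equiv.prodCongrRight τ := by
    refine Equiv.ext fun p => e.injective ?_
    obtain ⟨k, b⟩ := p
    simp only [Equiv.permCongr_apply, Equiv.symm_symm, Equiv.apply_symm_apply, Perm.mul_apply,
      Equiv.prodCongrRight_apply, Equiv.prodCongrLeft_apply]
    have h0 := hsplit (x (e (k, 0)))
    have hb : ∀ v : Fin 2, v = 0 ∨ v = 1 := by decide
    have hs' : σ k = ⟨(x (e (k, 0))).val / 2, by omega⟩ := rfl
    rw [hs']
    rcases hb b with rfl | rfl <;> rcases Nat.mod_two_eq_zero_or_one (x (e (k, 0))).val with hm | hm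
      <;> simp only [τ, hm, ↓reduceIte, one_ne_zero, Perm.one_apply, Equiv.swap_apply_left,
        Equiv.swap_apply_right]
    · exact (h0.symm.trans (congrArg e (Prod.ext rfl (Fin.ext hm))))
    · exact (h0.symm.trans (congrArg e (Prod.ext rfl (Fin.ext hm))))
    · rw [hpair, comm_tc hx, hpair]
      exact congrArg tcP (h0.symm.trans (congrArg e (Prod.ext rfl (Fin.ext hm))))
    · rw [hpair, comm_tc hx]
      have h1 := h0.symm.trans (congrArg e (Prod.ext rfl (Fin.ext hm) :
        ((⟨(x (e (k, 0))).val / 2, by omega⟩ : Fin 6), (⟨(x (e (k, 0))).val % 2, by omega⟩ : Fin 2))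
          = (⟨(x (e (k, 0))).val / 2, by omega⟩, (1 : Fin 2))))
      rw [hpair] at h1
      have : ∀ i : Fin 12, tcP (tcP i) = i := by decide +kernel
      exact (congrArg tcP h1).trans (this _)
  have hsgn := congrArg Perm.sign key
  rw [Perm.sign_permCongr, (Perm.mem_alternatingGroup.1 (Subgroup.mem_inf.1 hx).1 : Perm.sign x = 1), map_mul, Perm.sign_prodCongrLeft,
    Perm.sign_prodCongrRight, Fin.prod_univ_two, Int.units_mul_self, one_mul] at hsgn
  have hτ : ∀ k, Perm.sign (τ k) = (-1) ^ ((x (e (k, 0))).val % 2) := by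
    intro k
    rcases Nat.mod_two_eq_zero_or_one (x (e (k, 0))).val with hm | hm <;>
      simp [τ, hm]
  simp only [hτ, Fin.prod_univ_six, ← pow_add] at hsgn
  have hev : ∀ n : ℕ, (1 : ℤˣ) = (-1) ^ n → n % 2 = 0 := by
    intro n hn
    rcases Nat.even_or_odd n with he | ho
    · exact Nat.even_iff.1 he
    · rw [ho.neg_one_pow] at hn
      exact absurd hn (by decide)
  have := hev _ hsgn
  rw [parc, beq_iff_eq]
  have e0 : app (enc x) 0 = (x (e (0, 0))).val :=
    (congrArg (app (enc x)) (he0 0).symm).trans (app_enc hx _)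
  have e1 : app (enc x) 2 = (x (e (1, 0))).val :=
    (congrArg (app (enc x)) (he0 1).symm).trans (app_enc hx _)
  have e2 : app (enc x) 4 = (x (e (2, 0))).val :=
    (congrArg (app (enc x)) (he0 2).symm).trans (app_enc hx _)
  have e3 : app (enc x) 6 = (x (e (3, 0))).val :=
    (congrArg (app (enc x)) (he0 3).symm).trans (app_enc hx _)
  have e4 : app (enc x) 8 = (x (e (4, 0))).val :=
    (congrArg (app (enc x)) (he0 4).symm).trans (app_enc hx _)
  have e5 : app (enc x) 10 = (x (e (5, 0))).val :=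
    (congrArg (app (enc x)) (he0 5).symm).trans (app_enc hx _)
  clear key hsgn hτ
  revert this
  generalize app (enc x) 0 = a0 at e0 ⊢
  generalize app (enc x) 2 = a1 at e1 ⊢
  generalize app (enc x) 4 = a2 at e2 ⊢
  generalize app (enc x) 6 = a3 at e3 ⊢
  generalize app (enc x) 8 = a4 at e4 ⊢
  generalize app (enc x) 10 = a5 at e5 ⊢
  subst e0 e1 e2 e3 e4 e5
  exact par_sum _ _ _ _ _ _

theorem enc_lt {x : Perm (Fin 12)} : enc x < 16 ^ 6 := by
  simp only [enc, pack]
  have := fun i : Fin 12 => i.isLt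
  have h0 := this (x (Fin.ofNat 12 (2 * 0)))
  have h1 := this (x (Fin.ofNat 12 (2 * 1)))
  have h2 := this (x (Fin.ofNat 12 (2 * 2)))
  have h3 := this (x (Fin.ofNat 12 (2 * 3)))
  have h4 := this (x (Fin.ofNat 12 (2 * 4)))
  have h5 := this (x (Fin.ofNat 12 (2 * 5)))
  norm_num
  omega

/-- Completeness of the search. -/
theorem mem_centCodes {x : Perm (Fin 12)} (hx : x ∈ C12) {gs : List ℕ}
    (hg : ∀ g ∈ gs, ∃ y ∈ C12, enc y = g ∧ Commute x y) : enc x ∈ centCodes gs := by
  refine List.mem_filter.2 ⟨?_, parc_enc hx⟩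
  have := mem_grow hx hg 6 le_rfl
  rwa [Nat.mod_eq_of_lt enc_lt] at this

end Cfsg.Agent.A12Type
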