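import Cfsg.Agent.A12Type.SylowModel

/-!
The automorphisms of the model which change the labelling, and the finite facts about orbits of the
normalizer of the elementary abelian subgroup.
-/

set_option autoImplicit false
set_option maxRecDepth 100000

namespace Cfsg.Agent.A12Type

open Equiv Subgroup

theorem pair_eq : ∀ u v : Fin 12, u.val / 2 = v.val / 2 → u = v ∨ u = tcP v := by decide +kernel

theorem tcP_div : ∀ u : Fin 12, (tcP u).val / 2 = u.val / 2 := by decide +kernel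

/-- The even point of a pair. -/
def pt (k : Fin 6) : Fin 12 := ⟨2 * k.val, by omega⟩

theorem div_eq {x : Perm (Fin 12)} (hx : x ∈ C12) {u v : Fin 12} (h : u.val / 2 = v.val / 2) :
    (x u).val / 2 = (x v).val / 2 := by
  rcases pair_eq u v h with rfl | rfl
  · rfl
  · rw [comm_tc hx, tcP_div]

/-- The permutation of the six pairs. -/
def pairPerm (x : C12) : Perm (Fin 6) where
  toFun k := ⟨((x : Perm (Fin 12)) (pt k)).val / 2, by omega⟩
  invFun k := ⟨(((x⁻¹ : C12) : Perm (Fin 12)) (pt k)).val / 2, by omega⟩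
  left_inv k := Fin.ext (by
    show (((x⁻¹ : C12) : Perm (Fin 12)) (pt _)).val / 2 = k.val
    rw [div_eq (x⁻¹).2 (v := (x : Perm (Fin 12)) (pt k)) (by simp [pt])]
    simp [pt])
  right_inv k := Fin.ext (by
    show ((x : Perm (Fin 12)) (pt _)).val / 2 = k.val
    rw [div_eq x.2 (v := ((x⁻¹ : C12) : Perm (Fin 12)) (pt k)) (by simp [pt])]
    simp [pt])

theorem pairPerm_mul (x y : C12) : pairPerm (x * y) = pairPerm x * pairPerm y := by
  refine Equiv.ext fun k => Fin.ext ?_
  show (((x : Perm (Fin 12)) * y) (pt k)).val / 2 = ((x : Perm (Fin 12)) (pt _)).val / 2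
  exact div_eq x.2 (by simp [pairPerm, pt])

/-- The sign of the permutation of the pairs, as an exponent. -/
def sg (x : C12) : ℕ := if Perm.sign (pairPerm x) = 1 then 0 else 1

theorem tc_sq : tc * tc = (1 : C12) := by rw [← el_tc, el_mul, xr_self, el_zero]

theorem tc_pow_sg (x y : C12) : tc ^ sg (x * y) = tc ^ sg x * tc ^ sg y := by
  rw [sg, sg, sg, pairPerm_mul, map_mul]
  rcases Int.units_eq_one_or (Perm.sign (pairPerm x)) with hx | hx <;>
    rcases Int.units_eq_one_or (Perm.sign (pairPerm y)) with hy | hy <;>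
      rw [hx, hy] <;> simp [tc_sq, (by decide : (-1 : ℤˣ) ≠ 1)]

/-- The twist by the central involution. -/
def tauHom : C12 →* C12 :=
  MonoidHom.mk' (fun x => x * tc ^ sg x) fun x y => by
    rw [tc_pow_sg, mul_assoc x y, ← mul_assoc y (tc ^ sg x), ← ((tc_central y).pow_left (sg x)).eq]
    simp only [mul_assoc]

theorem sg_tc : sg tc = 0 := by decide +kernel

theorem sg_pow_tc (n : ℕ) : sg (tc ^ n) = 0 := by
  rcases Nat.even_or_odd n with ⟨m, rfl⟩ | ⟨m, rfl⟩
  · rw [pow_add, ← (Commute.refl tc).mul_pow, tc_sq, one_pow]; decide +kernel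
  · rw [pow_add, pow_mul, pow_two, tc_sq, one_pow, one_mul, pow_one, sg_tc]

theorem tauHom_tc : tauHom tc = tc := by
  show tc * tc ^ sg tc = tc
  rw [sg_tc, pow_zero, mul_one]

theorem tauHom_tauHom (x : C12) : tauHom (tauHom x) = x := by
  show tauHom (x * tc ^ sg x) = x
  rw [map_mul, map_pow, tauHom_tc]
  show x * tc ^ sg x * tc ^ sg x = x
  rw [mul_assoc, ← (Commute.refl tc).mul_pow, tc_sq, one_pow, mul_one]

/-- The odd flip. -/
abbrev kP : Perm (Fin 12) := Equiv.swap 8 9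

theorem kP_facts : kP * kP = 1 ∧ ∀ i, kP (tcP i) = tcP (kP i) := by decide +kernel

theorem kap_mem {x : Perm (Fin 12)} (hx : x ∈ C12) : kP * x * kP ∈ C12 := by
  refine mem_C12 ?_ (fun i => ?_)
  · rw [Perm.sign_mul, Perm.sign_mul, (Perm.mem_alternatingGroup.1 (Subgroup.mem_inf.1 hx).1),
      mul_one, ← Perm.sign_mul, kP_facts.1, Perm.sign_one]
  · show kP (x (kP (tcP i))) = tcP (kP (x (kP i)))
    rw [kP_facts.2, comm_tc hx, kP_facts.2]

/-- Conjugation by the odd flip. -/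
def kapHom : C12 →* C12 :=
  MonoidHom.mk' (fun x => ⟨kP * (x : Perm (Fin 12)) * kP, kap_mem x.2⟩) fun x y => Subtype.ext (by
    show kP * ((x : Perm (Fin 12)) * y) * kP = kP * (x : Perm (Fin 12)) * kP * (kP * y * kP)
    have := kP_facts.1
    calc kP * ((x : Perm (Fin 12)) * y) * kP
        = kP * (x : Perm (Fin 12)) * (kP * kP) * y * kP := by rw [this, mul_one, mul_assoc]; rfl
      _ = _ := by simp only [mul_assoc])

theorem kapHom_kapHom (x : C12) : kapHom (kapHom x) = x := Subtype.ext (by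
  show kP * (kP * (x : Perm (Fin 12)) * kP) * kP = x
  simp only [← mul_assoc, kP_facts.1, one_mul]
  rw [mul_assoc, kP_facts.1, mul_one])

theorem kapHom_tc : kapHom tc = tc := Subtype.ext (by
  show kP * tcP * kP = tcP
  decide +kernel)

/-- The indices of the twisted elements. -/
def tauTab : List (Fin 64) := [0, 1, 23, 22, 4, 5, 19, 18, 29, 28, 10, 11, 25, 24, 14, 15, 16, 17, 7, 6, 20, 21, 3, 2, 13, 12, 26, 27, 9, 8, 30, 31, 53, 52, 34, 35, 49, 48, 38, 39, 40, 41, 63, 62, 44, 45, 59, 58, 37, 36, 50, 51, 33, 32, 54, 55, 56, 57, 47, 46, 60, 61, 43, 42]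

/-- The indices of the flipped elements. -/
def kapTab : List (Fin 64) := [0, 1, 2, 3, 4, 5, 6, 7, 8, 9, 10, 11, 12, 13, 14, 15, 16, 17, 18, 19, 20, 21, 22, 23, 24, 25, 26, 27, 28, 29, 30, 31, 48, 49, 50, 51, 52, 53, 54, 55, 56, 57, 58, 59, 60, 61, 62, 63, 32, 33, 34, 35, 36, 37, 38, 39, 40, 41, 42, 43, 44, 45, 46, 47]

theorem auto_facts :
    ((List.finRange 64).all fun i =>
      enc (tauHom (el i) : Perm (Fin 12)) == enc (elP (tauTab.getD i.val 0)) &&
      (enc (kapHom (el i) : Perm (Fin 12)) == enc (elP (kapTab.getD i.val 0)))) = true ∧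
    (sgens.all fun g =>
      scodes.elem (enc (tauHom g : Perm (Fin 12))) && scodes.elem (enc (kapHom g : Perm (Fin 12))))
        = true := by
  decide +kernel

theorem mem_S12_of_scode {x : C12} (h : enc (x : Perm (Fin 12)) ∈ scodes) : x ∈ S12 := by
  obtain ⟨y, hy, e⟩ := exists_of_scode h
  rwa [← Subtype.ext (enc_inj y.2 x.2 e)]

theorem map_S12 {φ : C12 →* C12} (hinv : ∀ x, φ (φ x) = x) (hg : ∀ g ∈ sgens, φ g ∈ S12) :
    S12.map φ = S12 := by
  have hle : S12.map φ ≤ S12 := by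
    rw [S12, MonoidHom.map_closure, closure_le]
    rintro _ ⟨g, hg', rfl⟩
    exact hg g hg'
  refine le_antisymm hle fun x hx => ?_
  exact ⟨φ x, hle (mem_map_of_mem _ hx), hinv x⟩

theorem map_tau_S12 : S12.map tauHom = S12 :=
  map_S12 tauHom_tauHom fun g hg => mem_S12_of_scode (List.elem_iff.1
    (Bool.and_eq_true_iff.1 (List.all_eq_true.1 auto_facts.2 g hg)).1)

theorem map_kap_S12 : S12.map kapHom = S12 :=
  map_S12 kapHom_kapHom fun g hg => mem_S12_of_scode (List.elem_iff.1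
    (Bool.and_eq_true_iff.1 (List.all_eq_true.1 auto_facts.2 g hg)).2)

theorem tau_el (i : Fin 64) : tauHom (el i) = el (tauTab.getD i.val 0) :=
  Subtype.ext (enc_inj (tauHom (el i)).2 (elP_mem _) (beq_iff_eq.1
    (Bool.and_eq_true_iff.1 (List.all_eq_true.1 auto_facts.1 i (List.mem_finRange i))).1))

theorem kap_el (i : Fin 64) : kapHom (el i) = el (kapTab.getD i.val 0) :=
  Subtype.ext (enc_inj (kapHom (el i)).2 (elP_mem _) (beq_iff_eq.1
    (Bool.and_eq_true_iff.1 (List.all_eq_true.1 auto_facts.1 i (List.mem_finRange i))).2))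

/-- Generators of the normalizer of the elementary subgroup in the centralizer, modulo it. -/
def actP : Fin 4 → Perm (Fin 12) :=
  ![swap 0 1 * swap 4 5, swap 0 1 * swap 8 9, swap 0 4 * swap 1 5 * (swap 2 6 * swap 3 7),
    swap 4 8 * swap 5 9 * (swap 6 10 * swap 7 11)]

theorem actP_mem (g : Fin 4) : actP g ∈ C12 := by
  refine mem_C12 ?_ ((by decide +kernel : ∀ g i, actP g (tcP i) = tcP (actP g i)) g)
  fin_cases g <;> simp [actP, Perm.sign_mul, Fin.ext_iff]

/-- The action of the generators on indices. -/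
def actTab : Fin 4 → List (Fin 64) := ![[0, 1, 3, 2, 4, 5, 7, 6, 12, 13, 15, 14, 8, 9, 11, 10, 16, 17, 19, 18, 20, 21, 23, 22, 28, 29, 31, 30, 24, 25, 27, 26, 32, 33, 35, 34, 36, 37, 39, 38, 44, 45, 47, 46, 40, 41, 43, 42, 48, 49, 51, 50, 52, 53, 55, 54, 60, 61, 63, 62, 56, 57, 59, 58], [0, 1, 3, 2, 4, 5, 7, 6, 8, 9, 11, 10, 12, 13, 15, 14, 16, 17, 19, 18, 20, 21, 23, 22, 24, 25, 27, 26, 28, 29, 31, 30, 48, 49, 51, 50, 52, 53, 55, 54, 56, 57, 59, 58, 60, 61, 63, 62, 32, 33, 35, 34, 36, 37, 39, 38, 40, 41, 43, 42, 44, 45, 47, 46], [0, 4, 8, 12, 1, 5, 9, 13, 2, 6, 10, 14, 3, 7, 11, 15, 16, 20, 24, 28, 17, 21, 25, 29, 18, 22, 26, 30, 19, 23, 27, 31, 32, 36, 40, 44, 33, 37, 41, 45, 34, 38, 42, 46, 35, 39, 43, 47, 48, 52, 56, 60, 49, 53, 57, 61, 50, 54, 58, 62, 51, 55, 59, 63], [0, 1, 2, 3, 16, 17, 18, 19, 32, 33, 34, 35, 48, 49, 50, 51, 4, 5, 6, 7, 20, 21, 22, 23, 36, 37, 38, 39, 52, 53, 54, 55, 8, 9, 10, 11, 24, 25, 26, 27, 40, 41, 42, 43, 56, 57, 58, 59,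 12, 13, 14, 15, 28, 29, 30, 31, 44, 45, 46, 47, 60, 61, 62, 63]]

theorem act_facts : ∀ g i, enc (actP g * elP i * actP g) = enc (elP ((actTab g).getD i.val 0)) := by
  decide +kernel

/-- The classes of indices under the stabilizer. -/
def oc (i : Fin 64) : ℕ := ([0, 1, 4, 4, 1, 2, 6, 6, 4, 6, 7, 7, 4, 6, 7, 7, 1, 2, 6, 6, 2, 3, 5, 5, 6, 5, 8, 8, 6, 5, 8, 8, 4, 6, 7, 7, 6, 5, 8, 8, 7, 8, 9, 10, 7, 8, 10, 9, 4, 6, 7, 7, 6, 5, 8, 8, 7, 8, 10, 9, 7, 8, 9, 10] : List ℕ).getD i.val 0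

/-- Membership of the class of an index in a mask. -/
def inM (m : ℕ) (i : Fin 64) : Bool := (m >>> oc i) % 2 == 1

/-- The indices whose class is in a mask. -/
def omL (m : ℕ) : List (Fin 64) := (List.finRange 64).filter (inM m)

/-- The number of partners. -/
def n2 (m : ℕ) (x : Fin 64) : ℕ := (omL m).countP fun y => inM m (xr x y)

/-- The number of pairs completing an element to four. -/
def n3 (m : ℕ) (x : Fin 64) : ℕ :=
  ((omL m).map fun y => (omL m).countP fun z => inM m (xr (xr x y) z)).sum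

/-- The representatives of the classes. -/
def ocRep : List (Fin 64) := [0, 1, 5, 21, 2, 22, 6, 10, 26, 42, 58]

/-- The candidate masks: class three and no class one or two. -/
def maskOf (t : Fin 128) : ℕ := 8 + 16 * t.val

/-- The check of a mask. -/
def maskOk (t : Fin 128) : Bool :=
  ((List.range 7).all fun k => if (maskOf t >>> (k + 4)) % 2 == 1
      then n2 (maskOf t) (ocRep.getD (k + 4) 0) == n2 (maskOf t) 21 else true) &&
  ((List.range 7).all fun k => if (maskOf t >>> (k + 4)) % 2 == 1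
      then n3 (maskOf t) (ocRep.getD (k + 4) 0) == n3 (maskOf t) 21 else true)

theorem mask_table : ∀ t : Fin 128, maskOk t = true →
    t.val ∈ [0, 1, 2, 1 + 16 + 32 + 64, 2 + 16 + 32 + 64] := by
  decide +kernel

theorem oc_facts : (∀ i, oc i < 11 ∧ (oc i = 0 ↔ i = 0)) ∧
    (∀ k : Fin 11, oc (ocRep.getD k.val 0) = k.val) ∧
    (∀ i, oc i = 3 ↔ i = 21) ∧ (∀ g i, oc ((actTab g).getD i.val 0) = oc i) := by
  decide +kernel

/-- The closure of a list of indices under the generators, `n` steps. -/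
def closeN : ℕ → List (Fin 64) → List (Fin 64)
  | 0, l => l
  | n + 1, l => (closeN n l ++ (closeN n l).flatMap fun i =>
      (List.finRange 4).map fun g => (actTab g).getD i.val 0).dedup

theorem closeN_covers : ∀ i, ((closeN 4 [ocRep.getD (oc i) 0]).elem i) = true := by
  decide +kernel

theorem square_facts :
    (scodes.any fun c => mulc c c == enc (elP 16)) = true ∧
    (scodes.any fun c => mulc c c == enc (elP 5)) = true ∧
    ([enc (eP 0), enc (fP 0), enc (eP 1), enc (fP 1), enc (eP 2), enc (fP 2), enc (hP 0), enc (hP 1),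
      enc (hP 2)].all fun g => commc (enc (elP 16)) g && commc (enc (elP 5)) g) = true := by
  decide +kernel

end Cfsg.Agent.A12Type
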