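import Cfsg.Agent.A12Type.Defs
import Cfsg.Agent.A12Type.FusTab

/-!
The possibilities for the fusion of the central involution.
-/

set_option autoImplicit false
set_option maxRecDepth 100000

namespace Cfsg.Agent.A12Type

open Subgroup

/-- The counts are invariant. -/
theorem omL_invariant {m : ℕ} (σ : Equiv.Perm (Fin 64)) (hlin : ∀ i k, σ (xr i k) = xr (σ i) (σ k))
    (hm : ∀ i, inM m (σ i) = inM m i) (y x : Fin 64) (hx : σ y = x) :
    n2 m x = n2 m y ∧ n3 m x = n3 m y := by
  subst hx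
  have hp : ((omL m).map σ).Perm (omL m) := by
    refine (List.perm_ext_iff_of_nodup ((List.nodup_finRange 64).filter _ |>.map σ.injective)
      ((List.nodup_finRange 64).filter _)).2 fun i => ?_
    simp only [omL, List.mem_map, List.mem_filter, List.mem_finRange, true_and]
    exact ⟨fun ⟨z, hz, e⟩ => e ▸ (hm z).trans hz, fun h => ⟨σ.symm i, by
      rw [← hm, σ.apply_symm_apply]; exact h, σ.apply_symm_apply i⟩⟩
  constructor
  · rw [n2, n2, ← hp.countP_eq, List.countP_map]
    exact List.countP_congr fun z _ => by simp only [Function.comp_apply, ← hlin, hm]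
  · rw [n3, n3, ← (hp.map _).sum_eq, List.map_map]
    congr 1
    refine List.map_congr_left fun z _ => ?_
    simp only [Function.comp_apply]
    rw [← hp.countP_eq, List.countP_map]
    exact List.countP_congr fun w _ => by simp only [Function.comp_apply, ← hlin, hm]

namespace Setup

variable {G : Type*} [Group G] [Finite G] (B : Setup G)

/-- The elements conjugate to the central involution. -/
def Om (i : Fin 64) : Prop := IsConj B.a (B.j i)

/-- An element normalizing the elementary subgroup. -/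
def NJ (n : G) : Prop := ∀ x, n * x * n⁻¹ ∈ B.J ↔ x ∈ B.J

theorem nj_inv {n : G} (h : B.NJ n) : B.NJ n⁻¹ := fun x => by
  rw [← h (n⁻¹ * x * n⁻¹⁻¹)]
  simp [mul_assoc]

theorem nj_mul {n m : G} (hn : B.NJ n) (hm : B.NJ m) : B.NJ (n * m) := fun x => by
  rw [show n * m * x * (n * m)⁻¹ = n * (m * x * m⁻¹) * n⁻¹ by group, hn, hm]

/-- The permutation of indices given by an element of the normalizer. -/
theorem exists_perm {n : G} (hn : B.NJ n) :
    ∃ σ : Equiv.Perm (Fin 64), (∀ i, n * B.j i * n⁻¹ = B.j (σ i)) ∧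
      (∀ i k, σ (xr i k) = xr (σ i) (σ k)) ∧ ∀ i, B.Om (σ i) ↔ B.Om i := by
  have h : ∀ i, ∃ k, B.j k = n * B.j i * n⁻¹ := fun i => B.mem_J.1 ((hn _).2 (B.j_mem i))
  choose s hs using h
  have inj : Function.Injective s := fun i k e => B.j_inj (by
    have := (hs i).symm.trans ((congrArg B.j e).trans (hs k))
    simpa using this)
  refine ⟨Equiv.ofBijective s (Finite.injective_iff_bijective.1 inj), fun i => (hs i).symm,
    fun i k => B.j_inj ?_, fun i => ?_⟩
  · show B.j (s (xr i k)) = B.j (xr (s i) (s k))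
    rw [hs, ← j_mul, ← j_mul, hs, hs]
    group
  · show IsConj B.a (B.j (s i)) ↔ IsConj B.a (B.j i)
    rw [hs]
    exact ⟨fun h => h.trans (isConj_iff.2 ⟨n⁻¹, by group⟩), fun h => h.trans (isConj_iff.2 ⟨n, rfl⟩)⟩

/-- The image of a generator of the stabilizer. -/
def nG (g : Fin 4) : G := B.f ⟨actP g, actP_mem g⟩

theorem nG_j (g : Fin 4) (i : Fin 64) :
    B.nG g * B.j i * (B.nG g)⁻¹ = B.j ((actTab g).getD i.val 0) := by
  have hinv : (⟨actP g, actP_mem g⟩ : C12)⁻¹ = ⟨actP g, actP_mem g⟩ :=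
    inv_eq_of_mul_eq_one_right (Subtype.ext ((by decide +kernel : ∀ g, actP g * actP g = 1) g))
  rw [nG, j, j, ← map_inv, hinv, ← map_mul, ← map_mul]
  refine congrArg B.f (Subtype.ext (enc_inj (mul_mem (mul_mem (actP_mem g) (elP_mem i)) (actP_mem g))
    (elP_mem _) (act_facts g i)))

theorem nj_nG (g : Fin 4) : B.NJ (B.nG g) := by
  classical
  have hmem : ∀ x ∈ B.J, B.nG g * x * (B.nG g)⁻¹ ∈ B.J := fun x hx => by
    obtain ⟨i, rfl⟩ := B.mem_J.1 hx
    rw [nG_j]; exact B.j_mem _
  have hinv : (B.nG g)⁻¹ = B.nG g := inv_eq_of_mul_eq_one_right (by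
    rw [nG, ← map_mul, ← map_one B.f]
    exact congrArg B.f (Subtype.ext ((by decide +kernel : ∀ g, actP g * actP g = 1) g)))
  intro x
  refine ⟨fun h => ?_, hmem x⟩
  have := hmem _ h
  rw [hinv] at this
  convert this using 1
  calc x = B.nG g * B.nG g * x * (B.nG g * B.nG g) := by
        rw [show B.nG g * B.nG g = 1 by nth_rw 2 [← hinv]; exact mul_inv_cancel _, one_mul, mul_one]
    _ = _ := by group

theorem isConj_act (g : Fin 4) (i : Fin 64) : IsConj (B.j i) (B.j ((actTab g).getD i.val 0)) :=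
  isConj_iff.2 ⟨B.nG g, B.nG_j g i⟩

theorem isConj_rep (i : Fin 64) : IsConj (B.j (ocRep.getD (oc i) 0)) (B.j i) := by
  have key : ∀ (n : ℕ) (l : List (Fin 64)) (P : Fin 64 → Prop),
      (∀ g i, P i → P ((actTab g).getD i.val 0)) → (∀ i ∈ l, P i) → ∀ i ∈ closeN n l, P i := by
    intro n
    induction n with
    | zero => intro l P _ hl; exact hl
    | succ n ih =>
      intro l P hP hl i hi
      simp only [closeN, List.mem_dedup, List.mem_append, List.mem_flatMap, List.mem_map] at hi
      rcases hi with hi | ⟨k, hk, g, -, rfl⟩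
      · exact ih l P hP hl i hi
      · exact hP g k (ih l P hP hl k hk)
  refine key 4 _ (fun k => IsConj (B.j (ocRep.getD (oc i) 0)) (B.j k))
    (fun g k h => h.trans (B.isConj_act g k)) (fun k hk => ?_) i (List.elem_iff.1 (closeN_covers i))
  rw [List.mem_singleton.1 hk]

theorem om_rep (i : Fin 64) : B.Om i ↔ B.Om (ocRep.getD (oc i) 0) :=
  ⟨fun h => h.trans (B.isConj_rep i).symm, fun h => h.trans (B.isConj_rep i)⟩

theorem om_21 : B.Om 21 := by rw [Om, j_tc]

/-- A central element of the Sylow subgroup which is a square is not conjugate to the central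
involution. -/
theorem not_om_square {i : Fin 64}
    (hc : ([enc (eP 0), enc (fP 0), enc (eP 1), enc (fP 1), enc (eP 2), enc (fP 2), enc (hP 0), enc (hP 1),
      enc (hP 2)].all fun g => commc (enc (elP i)) g) = true)
    (hs : (scodes.any fun c => mulc c c == enc (elP i)) = true) : ¬ B.Om i := by
  intro h
  have : Fact (Nat.Prime 2) := ⟨Nat.prime_two⟩
  obtain ⟨c, hc', e⟩ := List.any_eq_true.1 hs
  obtain ⟨y, hy, rfl⟩ := exists_of_scode hc'
  have hsq : y * y = el i := Subtype.ext (enc_inj (y * y).2 (elP_mem i) (by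
    rw [show ((y * y : C12) : Equiv.Perm (Fin 12)) = (y : Equiv.Perm (Fin 12)) * y from rfl,
      enc_mul y.2 y.2]
    exact beq_iff_eq.1 e))
  obtain ⟨P, hPS⟩ := B.sylow
  have central : ∀ x : C12, (∀ g ∈ sgens, Commute x g) → B.f x ∈ centralizer (P : Set G) := by
    intro x hx
    refine mem_centralizer_iff.2 fun s hs => ?_
    have hs' : s ∈ (P : Subgroup G) := hs
    rw [hPS] at hs'
    obtain ⟨t, ht, rfl⟩ := hs'
    have hxc : x ∈ centralizer (S12 : Set C12) := by
      rw [S12, centralizer_closure]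
      exact mem_centralizer_iff.2 fun g hg => (hx g hg).eq.symm
    rw [← map_mul, ← map_mul, mem_centralizer_iff.1 hxc t ht]
  have hi : B.j i ∈ centralizer (P : Set G) := central _ fun g hg => by
    have hg' : enc (g : Equiv.Perm (Fin 12)) ∈ [enc (eP 0), enc (fP 0), enc (eP 1), enc (fP 1),
        enc (eP 2), enc (fP 2), enc (hP 0), enc (hP 1), enc (hP 2)] := by
      simp only [sgens, List.mem_cons, List.not_mem_nil, or_false] at hg
      rcases hg with rfl | rfl | rfl | rfl | rfl | rfl | rfl | rfl | rfl <;> simp [ge, gf, gh]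
    exact Subtype.ext ((commute_iff (elP_mem i) g.2).2 (List.all_eq_true.1 hc _ hg')).eq
  have ha : B.a ∈ centralizer (P : Set G) := central _ fun g _ => tc_central g
  obtain ⟨g, hg⟩ := isConj_iff.1 h
  have hg' : g⁻¹ * B.j i * g = B.a := by rw [← hg]; group
  obtain ⟨n, hn, e⟩ := P.conj_eq_normalizer_conj_of_mem_centralizer (B.j i) g hi (by rw [hg']; exact ha)
  rw [hg'] at e
  have hin : n⁻¹ * B.f y * n ∈ (P : Subgroup G) := by
    have := (mem_normalizer_iff.1 (inv_mem hn) (B.f y)).1 (by rw [hPS]; exact mem_map_of_mem _ hy)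
    rwa [inv_inv] at this
  rw [hPS] at hin
  obtain ⟨u, hu, eu⟩ := hin
  refine tc_not_sq hu (B.inj ?_)
  rw [map_mul, eu, show B.f tc = B.a from rfl, e, j, ← hsq, map_mul]
  group

/-- The set of conjugates of the central involution in the elementary subgroup. -/
theorem exists_mask : ∃ t : Fin 128, (t.val ∈ [0, 1, 2, 113, 114]) ∧
    ∀ i, B.Om i ↔ inM (maskOf t) i = true := by
  classical
  have bits : ∀ b : Fin 7 → Bool, ∀ k : Fin 7,
      ((List.finRange 7).map fun l => if b l then 2 ^ l.val else 0).sum < 128 ∧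
      ((8 + 16 * ((List.finRange 7).map fun l => if b l then 2 ^ l.val else 0).sum) >>> (k.val + 4)) % 2
        = if b k then 1 else 0 := by
    decide +kernel
  let b : Fin 7 → Bool := fun k => decide (B.Om (ocRep.getD (k.val + 4) 0))
  let t : Fin 128 :=
    ⟨((List.finRange 7).map fun l => if b l then 2 ^ l.val else 0).sum, (bits b 0).1⟩
  have hom : ∀ i, B.Om i ↔ inM (maskOf t) i = true := by
    intro i
    have hlt : oc i < 11 := (oc_facts.1 i).1
    by_cases h : 4 ≤ oc i
    · obtain ⟨k, hk⟩ : ∃ k : Fin 7, oc i = k.val + 4 := ⟨⟨oc i - 4, by omega⟩, by simp; omega⟩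
      rw [B.om_rep i, inM, hk, maskOf, (bits b k).2, beq_iff_eq]
      simp only [b]
      split_ifs with h1 <;> simp_all
    · have hlow : ∀ u : Fin 128, ∀ k : Fin 4, ((8 + 16 * u.val) >>> k.val) % 2
          = if k.val = 3 then 1 else 0 := by decide +kernel
      rw [B.om_rep i, inM, maskOf, hlow t ⟨oc i, by omega⟩, beq_iff_eq]
      have hz : ¬ B.Om 0 := fun h0 => by
        rw [Om, j_zero, isConj_one_left] at h0
        exact Invol.ne_one B.orderOf_a h0
      have hw : ¬ B.Om 1 := fun h1 => by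
        refine B.not_om_square (i := 16) ?_ square_facts.1 ((B.om_rep 16).2 ?_)
        · have := square_facts.2.2
          simp only [List.all_eq_true, Bool.and_eq_true] at this ⊢
          exact fun g hg => (this g hg).1
        · rwa [show ocRep.getD (oc 16) 0 = (1 : Fin 64) by decide +kernel]
      have hw4 : ¬ B.Om 5 := B.not_om_square (by
        have := square_facts.2.2
        simp only [List.all_eq_true, Bool.and_eq_true] at this ⊢
        exact fun g hg => (this g hg).2) square_facts.2.1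
      rcases (show oc i = 0 ∨ oc i = 1 ∨ oc i = 2 ∨ oc i = 3 by omega) with e | e | e | e <;>
        simp [e, ocRep, hz, hw, hw4, B.om_21]
  refine ⟨t, ?_, hom⟩
  refine mask_table t ?_
  have inv : ∀ k : ℕ, k < 7 → (maskOf t >>> (k + 4)) % 2 = 1 →
      n2 (maskOf t) (ocRep.getD (k + 4) 0) = n2 (maskOf t) 21 ∧
      n3 (maskOf t) (ocRep.getD (k + 4) 0) = n3 (maskOf t) 21 := by
    intro k hk hbit
    have hx : B.Om (ocRep.getD (k + 4) 0) := by
      rw [hom, inM]
      have e : oc (ocRep.getD (k + 4) 0) = k + 4 := oc_facts.2.1 ⟨k + 4, by omega⟩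
      rw [e, hbit]; rfl
    rw [Om, ← j_tc] at hx
    obtain ⟨n, hn, e⟩ := B.exists_normalizer_conj hx
    obtain ⟨σ, hσ, hlin, hσO⟩ := B.exists_perm (show B.NJ n from hn)
    have hx' : σ 21 = ocRep.getD (k + 4) 0 := B.j_inj ((hσ 21).symm.trans e)
    exact omL_invariant σ hlin (fun i => Bool.eq_iff_iff.2 (by rw [← hom, ← hom, hσO])) 21 _ hx'
  rw [maskOk, Bool.and_eq_true, List.all_eq_true, List.all_eq_true]
  constructor <;> intro k hk <;> split_ifs with hb
  · exact beq_iff_eq.2 (inv k (List.mem_range.1 hk) (beq_iff_eq.1 hb)).1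
  · rfl
  · exact beq_iff_eq.2 (inv k (List.mem_range.1 hk) (beq_iff_eq.1 hb)).2
  · rfl

/-- Relabelling by an automorphism of the model. -/
def relabel (φ : C12 →* C12) (hinv : ∀ x, φ (φ x) = x) (htc : φ tc = tc) (hS : S12.map φ = S12) :
    Setup G where
  f := B.f.comp φ
  inj := B.inj.comp (Function.LeftInverse.injective (g := φ) hinv)
  range_eq := by
    rw [MonoidHom.range_comp, MonoidHom.range_eq_top.2 fun x => ⟨φ x, hinv x⟩,
      ← MonoidHom.range_eq_map, MonoidHom.comp_apply, htc]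
    exact B.range_eq
  sylow := by
    obtain ⟨P, hP⟩ := B.sylow
    exact ⟨P, by rw [hP, ← Subgroup.map_map, hS]⟩

/-- The twisted labelling. -/
def tau : Setup G := B.relabel tauHom tauHom_tauHom tauHom_tc map_tau_S12

/-- The flipped labelling. -/
def kap : Setup G := B.relabel kapHom kapHom_kapHom kapHom_tc map_kap_S12

theorem tau_a : B.tau.a = B.a := congrArg B.f tauHom_tc

theorem kap_a : B.kap.a = B.a := congrArg B.f kapHom_tc

theorem tau_j (i : Fin 64) : B.tau.j i = B.j (tauTab.getD i.val 0) := congrArg B.f (tau_el i)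

theorem kap_j (i : Fin 64) : B.kap.j i = B.j (kapTab.getD i.val 0) := congrArg B.f (kap_el i)

theorem fusion_cases :
    B.Isolated ∨ (∃ B' : Setup G, B'.a = B.a ∧ ∀ i, B'.Om i ↔ wA i = 3) ∨
      ∃ B' : Setup G, B'.a = B.a ∧ ∀ i, B'.Om i ↔ cS i = 0 ∧ i ≠ 0 := by
  have tab : (∀ i, inM (maskOf 0) i = true → i = 21) ∧
      (∀ i, inM (maskOf 1) i = true ↔ cS i = 0 ∧ i ≠ 0) ∧
      (∀ i : Fin 64, inM (maskOf 2) (tauTab.getD i.val 0) = true ↔ cS i = 0 ∧ i ≠ 0) ∧
      (∀ i : Fin 64, inM (maskOf 113) (tauTab.getD i.val 0) = true ↔ wA i = 3) ∧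
      (∀ i, inM (maskOf 114) i = true ↔ wA i = 3) := by
    decide +kernel
  obtain ⟨t, ht, hom⟩ := B.exists_mask
  simp only [List.mem_cons, List.not_mem_nil, or_false] at ht
  rcases ht with h | h | h | h | h
  · exact Or.inl fun i hi => tab.1 i (by rw [← show t = 0 from Fin.ext h]; exact (hom i).1 hi)
  · exact Or.inr (Or.inr ⟨B, rfl, fun i => by
      rw [hom, show t = 1 from Fin.ext h]; exact tab.2.1 i⟩)
  · exact Or.inr (Or.inr ⟨B.tau, B.tau_a, fun i => by
      rw [Om, tau_a, tau_j, ← Om, hom, show t = 2 from Fin.ext h]; exact tab.2.2.1 i⟩)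
  · exact Or.inr (Or.inl ⟨B.tau, B.tau_a, fun i => by
      rw [Om, tau_a, tau_j, ← Om, hom, show t = 113 from Fin.ext h]; exact tab.2.2.2.1 i⟩)
  · exact Or.inr (Or.inl ⟨B, rfl, fun i => by
      rw [hom, show t = 114 from Fin.ext h]; exact tab.2.2.2.2 i⟩)

end Setup

end Cfsg.Agent.A12Type
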