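import Cfsg.Agent.A12Type.FusTab
import Cfsg.Agent.A12Type.Defs
import Cfsg.Agent.A12Type.Fusion
import Cfsg.Agent.Invol.IsolatedApps
import Cfsg.Agent.Core.PCore
import Mathlib.GroupTheory.FixedPointFree

/-!
The case in which the central involution is isolated.
-/

set_option autoImplicit false
set_option maxRecDepth 100000

namespace Cfsg.Agent.A12Type

open Equiv

theorem flips_cent :
    (centCodes [enc (eP 0), enc (eP 1), enc (eP 2), enc (A12Type.hP 0), enc (A12Type.hP 1)]).all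
      (fun c => mulc c c == onec) = true := by
  decide +kernel

theorem flips_pairPerm : ∀ k, pairPerm ⟨eP k, gen_mem.1 k⟩ = 1 ∧
    (k ≠ 2 → pairPerm ⟨A12Type.hP k, gen_mem.2.2 k⟩ = 1) := by
  decide +kernel

theorem sq_of_pairPerm {x : C12} (h : pairPerm x = 1) : x * x = 1 := by
  refine Subtype.ext (Equiv.ext fun u => ?_)
  have hd : ((x : Perm (Fin 12)) u).val / 2 = u.val / 2 := by
    have h1 : ((x : Perm (Fin 12)) (pt ⟨u.val / 2, by omega⟩)).val / 2 = u.val / 2 :=
      congrArg Fin.val (congrArg (fun p : Perm (Fin 6) => p ⟨u.val / 2, by omega⟩) h)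
    rw [← h1]
    exact div_eq x.2 (by simp [pt])
  show (x : Perm (Fin 12)) ((x : Perm (Fin 12)) u) = u
  rcases pair_eq _ _ hd with h1 | h1
  · rw [h1, h1]
  · rw [h1, comm_tc x.2, h1]
    exact ((by decide +kernel : ∀ i, tcP (tcP i) = i) u)

/-- The model centralizer has no normal subgroup of odd order. -/
theorem eq_one_of_normal_odd (N : Subgroup C12) [N.Normal] (hN : ¬ 2 ∣ Nat.card N) {y : C12}
    (hy : y ∈ N) : y = 1 := by
  have invol : ∀ z ∈ N, z * z = 1 → z = 1 := by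
    intro z hz hzz
    by_contra h1
    refine hN ((?_ : orderOf (⟨z, hz⟩ : N) = 2) ▸ orderOf_dvd_natCard _)
    rw [Subgroup.orderOf_mk]
    exact orderOf_eq_prime (by rw [pow_two, hzz]) h1
  let pp : C12 →* Perm (Fin 6) := MonoidHom.mk' pairPerm pairPerm_mul
  have comm : ∀ x : C12, pairPerm x = 1 → y * x = x * y := by
    intro x hx
    have hz : y * (x * y⁻¹ * x⁻¹) ∈ N := mul_mem hy ((inferInstance : N.Normal).conj_mem _ (inv_mem hy) x)
    have hpp : pairPerm (y * (x * y⁻¹ * x⁻¹)) = 1 := by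
      show pp _ = 1
      have : pp x = 1 := hx
      rw [map_mul, map_mul, map_mul, map_inv, map_inv, this]
      group
    have := invol _ hz (sq_of_pairPerm hpp)
    calc y * x = y * (x * y⁻¹ * x⁻¹) * (x * y) := by group
      _ = x * y := by rw [this, one_mul]
  have hg : ∀ g ∈ [enc (eP 0), enc (eP 1), enc (eP 2), enc (A12Type.hP 0), enc (A12Type.hP 1)],
      ∃ z ∈ C12, enc z = g ∧ Commute (y : Perm (Fin 12)) z := by
    intro g hg
    simp only [List.mem_cons, List.not_mem_nil, or_false] at hg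
    have he : ∀ k, Commute (y : Perm (Fin 12)) (eP k) := fun k =>
      congrArg Subtype.val (comm ⟨eP k, gen_mem.1 k⟩ (flips_pairPerm k).1)
    have hh : ∀ k, k ≠ 2 → Commute (y : Perm (Fin 12)) (A12Type.hP k) := fun k hk =>
      congrArg Subtype.val (comm ⟨A12Type.hP k, gen_mem.2.2 k⟩ ((flips_pairPerm k).2 hk))
    rcases hg with rfl | rfl | rfl | rfl | rfl
    · exact ⟨_, gen_mem.1 0, rfl, he 0⟩
    · exact ⟨_, gen_mem.1 1, rfl, he 1⟩
    · exact ⟨_, gen_mem.1 2, rfl, he 2⟩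
    · exact ⟨_, gen_mem.2.2 0, rfl, hh 0 (by decide)⟩
    · exact ⟨_, gen_mem.2.2 1, rfl, hh 1 (by decide)⟩
  have h2 := beq_iff_eq.1 (List.all_eq_true.1 flips_cent _ (mem_centCodes y.2 hg))
  refine invol y hy (Subtype.ext (enc_inj (y * y).2 (one_mem C12) ?_))
  show enc ((y : Perm (Fin 12)) * y) = enc 1
  rw [enc_mul y.2 y.2, h2, enc_one]

namespace Setup

open Subgroup

variable {G : Type*} [Group G] [Finite G] (B : Setup G)

theorem isolated_case (h : B.Isolated) :
    Cfsg.oddCore G ⊔ centralizer ({B.a} : Set G) = ⊤ ∧ IsMulCommutative ↥(Cfsg.oddCore G) := by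
  classical
  have : Fact (Nat.Prime 2) := ⟨Nat.prime_two⟩
  have hz : Cfsg.IsIsolatedInvolution B.a := by
    refine ⟨B.orderOf_a, fun g hg => ?_⟩
    have hxx : g * B.a * g⁻¹ * (g * B.a * g⁻¹) = 1 := by
      rw [show g * B.a * g⁻¹ * (g * B.a * g⁻¹) = g * (B.a * B.a) * g⁻¹ by group,
        Invol.mul_self_eq_one B.orderOf_a]
      group
    obtain ⟨c, hc⟩ := B.exists_conj_mem_J hg.symm hxx
    obtain ⟨i, hi⟩ := B.mem_J.1 hc
    have := h i (isConj_iff.2 ⟨B.f c * g, by rw [hi]; group⟩)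
    rw [this, j_tc] at hi
    calc g * B.a * g⁻¹ = (B.f c)⁻¹ * (B.f c * (g * B.a * g⁻¹) * (B.f c)⁻¹) * B.f c := by group
      _ = (B.f c)⁻¹ * B.a * B.f c := by rw [← hi]
      _ = B.a := by rw [(B.commute_a c).inv_left.eq]; group
  refine ⟨eq_top_iff.2 fun g _ => ?_, ?_⟩
  · obtain ⟨o, ho, hc⟩ := Invol.isolated_decomp hz g
    rw [show g = o * (o⁻¹ * g) by group]
    exact mul_mem (mem_sup_left ho) (mem_sup_right (mem_centralizer_singleton_iff.2 hc.eq))
  have hN : (Cfsg.oddCore G).Normal := Core.pPrimeCore_normal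
  let φ : ↥(Cfsg.oddCore G) → ↥(Cfsg.oddCore G) := fun o => ⟨B.a * o * B.a⁻¹, hN.conj_mem _ o.2 _⟩
  have hinv : Function.Involutive φ := fun o => Subtype.ext (by
    show B.a * (B.a * (o : G) * B.a⁻¹) * B.a⁻¹ = o
    rw [show B.a * (B.a * (o : G) * B.a⁻¹) * B.a⁻¹ = B.a * B.a * o * (B.a * B.a)⁻¹ by group,
      Invol.mul_self_eq_one B.orderOf_a]
    group)
  have hfpf : ∀ o, φ o = o → o = 1 := by
    intro o ho
    have hc : Commute (o : G) B.a := by
      have := congrArg Subtype.val ho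
      change B.a * (o : G) * B.a⁻¹ = o at this
      show (o : G) * B.a = B.a * o
      calc (o : G) * B.a = B.a * o * B.a⁻¹ * B.a := by rw [this]
        _ = B.a * o := by group
    obtain ⟨y, hy⟩ := B.mem_range_of_commute hc
    have hM : ((Cfsg.oddCore G).comap B.f).Normal := hN.comap _
    have hodd : ¬ 2 ∣ Nat.card ((Cfsg.oddCore G).comap B.f) := fun h2 =>
      Core.not_dvd_card_pPrimeCore (p := 2) (G := G) (h2.trans (by
        rw [← card_map_of_injective B.inj]
        exact card_dvd_of_le (map_comap_le _ _)))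
    have := eq_one_of_normal_odd _ hodd (show y ∈ (Cfsg.oddCore G).comap B.f by
      rw [mem_comap, hy]; exact o.2)
    exact Subtype.ext (by rw [← hy, this, map_one]; rfl)
  let φh : ↥(Cfsg.oddCore G) →* ↥(Cfsg.oddCore G) := MonoidHom.mk' φ fun o o' => Subtype.ext (by
    show B.a * ((o : G) * o') * B.a⁻¹ = B.a * (o : G) * B.a⁻¹ * (B.a * o' * B.a⁻¹)
    group)
  exact ⟨⟨fun o o' => MonoidHom.FixedPointFree.commute_all_of_involutive (φ := φh) hfpf hinv o o'⟩⟩

end Setup

end Cfsg.Agent.A12Type
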