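import Cfsg.Agent.A12Type.Fusion

/-!
The complete fusion in the elementary abelian subgroup, in the alternating and the symplectic pattern.
-/

set_option autoImplicit false
set_option maxRecDepth 100000

namespace Cfsg.Agent.A12Type

open Subgroup

/-- The partners of a transvection among the lines. -/
def lineTab : List (Fin 64 × Fin 64) :=
  [(2, 20), (2, 42), (2, 62), (3, 20), (3, 47), (3, 59), (8, 17), (8, 42), (8, 59), (12, 17), (12, 47),
    (12, 62), (21, 5), (21, 17), (21, 20), (32, 5), (32, 42), (32, 47), (48, 5), (48, 59), (48, 62)]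

/-- The three lines through the central involution. -/
def baseLines : List (Fin 64) := [5, 17, 20]

/-- The closure of pairs of indices under the generators. -/
def closeP : ℕ → List (Fin 64 × Fin 64) → List (Fin 64 × Fin 64)
  | 0, l => l
  | n + 1, l => (closeP n l ++ (closeP n l).flatMap fun p =>
      (List.finRange 4).map fun g =>
        ((actTab g).getD p.1.val 0, (actTab g).getD p.2.val 0)).dedup

/-- The candidates for a line through the first transvection. -/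
def lineCand : List (Fin 64) :=
  (List.finRange 64).filter fun t => 2 ≤ cS t && cS (xr t 2) == 1 && decide (t ≠ 0)

/-- The two generators fixing the first transvection. -/
def fixTwo (t : Fin 64) : List (Fin 64) :=
  [(actTab 0).getD ((actTab 1).getD t.val 0).val 0, (actTab 3).getD t.val 0]

theorem lineA_facts :
    (∀ i, i ≠ 0 → n2 (maskOf 114) i = [0, 18, 12, 8].getD (wA i) 0) ∧
    (∀ i, wA i = 3 ↔ inM (maskOf 114) i = true) ∧
    (∀ i, i ≠ 0 → wA i = 1 ∨ wA i = 2 ∨ wA i = 3) ∧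
    (∀ i, i ≠ 0 → (wA i = 1 ↔ oc i = 1 ∨ oc i = 4) ∧ (wA i = 2 ↔ oc i = 2 ∨ oc i = 6 ∨ oc i = 7)) ∧
    (∀ i, wA i = 1 ∧ wA (xr 22 i) = 2 → i = 2 ∨ i = 4 ∨ i = 16) ∧
    (∀ i, wA i = 2 ∧ wA (xr 26 i) = 1 → i = 10 ∨ i = 18 ∨ i = 24) ∧
    (oc 2 = 4 ∧ oc 10 = 7 ∧ oc 18 = 6) := by
  decide +kernel

set_option synthInstance.maxSize 4000 in
set_option synthInstance.maxHeartbeats 400000 in
theorem lineS_facts :
    (∀ i, i ≠ 0 → (cS i = 1 ↔ ∃ u v, cS u = 0 ∧ u ≠ 0 ∧ cS v = 0 ∧ v ≠ 0 ∧ u ≠ v ∧ xr u v = i)) ∧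
    (∀ i, i ≠ 0 → cS i = 0 ∨ cS i = 1 ∨ cS i = 2 ∨ cS i = 3) ∧
    (∀ i, i ≠ 0 → (cS i = 0 ↔ oc i = 3 ∨ oc i = 4) ∧ (cS i = 1 ↔ oc i = 1 ∨ oc i = 5 ∨ oc i = 7) ∧
      (cS i = 2 ↔ oc i = 2 ∨ oc i = 9) ∧ (cS i = 3 ↔ oc i = 6 ∨ oc i = 8 ∨ oc i = 10)) ∧
    (∀ p ∈ lineTab, cS p.2 = 2 ∧ p.2 ≠ 0) ∧
    (∀ i, cS i = 2 → ∃ p ∈ lineTab, p.2 = i) ∧
    (∀ x, cS x = 0 → x ≠ 0 → ∃ t₁ t₂ t₃, (x, t₁) ∈ lineTab ∧ (x, t₂) ∈ lineTab ∧ (x, t₃) ∈ lineTab ∧
      t₁ ≠ t₂ ∧ t₁ ≠ t₃ ∧ t₂ ≠ t₃) ∧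
    (∀ p ∈ lineTab, p ∈ closeP 4 [(2, 20), (2, 42), (2, 62), (21, 5), (21, 17), (21, 20)]) ∧
    (∀ t ∈ baseLines, cS t = 2 ∧ cS (xr t 21) = 1 ∧ t ≠ 0) := by
  decide +kernel

set_option synthInstance.maxSize 4000 in
set_option synthInstance.maxHeartbeats 400000 in
theorem lineS_choice : ∀ a ∈ lineCand, ∀ b ∈ lineCand, a ≠ b → xr a b ∈ lineCand → cS (xr a b) ≠ 1 →
    cS (xr a (xr a b)) ≠ 1 → cS (xr b (xr a b)) ≠ 1 →
    (∀ t ∈ [a, b, xr a b], ∀ u ∈ fixTwo t, u ∈ [a, b, xr a b]) →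
      20 ∈ [a, b, xr a b] ∧ (42 ∈ [a, b, xr a b] ∧ 62 ∈ [a, b, xr a b] ∨
        58 ∈ [a, b, xr a b] ∧ 46 ∈ [a, b, xr a b] ∨ 6 ∈ [a, b, xr a b]) := by
  decide +kernel

theorem kap_facts : (∀ t ∈ baseLines, kapTab.getD t.val 0 = t) ∧
    kapTab.getD 21 0 = 21 ∧ kapTab.getD 2 0 = 2 ∧ kapTab.getD 42 0 = 58 ∧ kapTab.getD 20 0 = 20 ∧
    kapTab.getD 62 0 = 46 ∧
    (∀ i : Fin 64, cS (kapTab.getD i.val 0) = 0 ∧ kapTab.getD i.val 0 ≠ 0 ↔ cS i = 0 ∧ i ≠ 0) := by
  decide +kernel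

namespace Setup

variable {G : Type*} [Group G] [Finite G] (B : Setup G)

/-- The pattern of the alternating groups, from the conjugates of the central involution. -/
theorem patA_of_om (hom : ∀ i, B.Om i ↔ wA i = 3) : B.PatA := by
  classical
  have pres : ∀ σ : Equiv.Perm (Fin 64), (∀ i k, σ (xr i k) = xr (σ i) (σ k)) →
      (∀ i, B.Om (σ i) ↔ B.Om i) → ∀ i, i ≠ 0 → σ i ≠ 0 ∧ wA (σ i) = wA i := by
    intro σ hlin hO i hi
    have h0 : σ 0 = 0 := by
      have := hlin 0 0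
      rw [show xr 0 0 = 0 from xr_self 0, xr_self] at this
      exact this
    have hne : σ i ≠ 0 := fun h => hi (σ.injective (h.trans h0.symm))
    refine ⟨hne, ?_⟩
    have hm : ∀ k, inM (maskOf 114) (σ k) = inM (maskOf 114) k := fun k =>
      Bool.eq_iff_iff.2 (by rw [← lineA_facts.2.1, ← lineA_facts.2.1, ← hom, ← hom, hO])
    have h := (omL_invariant σ hlin hm i _ rfl).1
    rw [lineA_facts.1 _ hne, lineA_facts.1 _ hi] at h
    rcases lineA_facts.2.2.1 _ hne with e | e | e <;> rcases lineA_facts.2.2.1 _ hi with e' | e' | e' <;>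
      rw [e, e'] at h <;> simp at h <;> omega
  have get : ∀ x, B.Om x → ∃ σ : Equiv.Perm (Fin 64), σ 21 = x ∧ (∀ i k, σ (xr i k) = xr (σ i) (σ k)) ∧
      (∀ i, i ≠ 0 → σ i ≠ 0 ∧ wA (σ i) = wA i) ∧ ∀ i, IsConj (B.j i) (B.j (σ i)) := by
    intro x hx
    rw [Om, ← j_tc] at hx
    obtain ⟨n, hn, e⟩ := B.exists_normalizer_conj hx
    obtain ⟨σ, hσ, hlin, hO⟩ := B.exists_perm hn
    exact ⟨σ, B.j_inj ((hσ 21).symm.trans e), hlin, pres σ hlin hO,
      fun i => isConj_iff.2 ⟨n, hσ i⟩⟩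
  have base : ∀ i k, oc i = oc k → IsConj (B.j i) (B.j k) := fun i k h =>
    (B.isConj_rep i).symm.trans (by rw [h]; exact B.isConj_rep k)
  -- weight one
  have w1 : IsConj (B.j 1) (B.j 2) := by
    obtain ⟨σ, h21, hlin, hp, hc⟩ := get 22 ((hom 22).2 (by decide))
    have key : ∀ e ∈ [(1 : Fin 64), 4, 16], σ e = 2 ∨ σ e = 4 ∨ σ e = 16 := by
      intro e he
      have hd : e ≠ 0 ∧ wA e = 1 ∧ wA (xr 21 e) = 2 ∧ xr 21 e ≠ 0 := by
        simp only [List.mem_cons, List.not_mem_nil, or_false] at he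
        rcases he with rfl | rfl | rfl <;> decide
      refine lineA_facts.2.2.2.2.1 _ ⟨(hp e hd.1).2.trans hd.2.1, ?_⟩
      rw [← h21, ← hlin]
      exact (hp _ hd.2.2.2).2.trans hd.2.2.1
    have e1 := key 1 (by simp)
    have e4 := key 4 (by simp)
    have e16 := key 16 (by simp)
    have n14 : σ 1 ≠ σ 4 := σ.injective.ne (by decide)
    have n116 : σ 1 ≠ σ 16 := σ.injective.ne (by decide)
    have n416 : σ 4 ≠ σ 16 := σ.injective.ne (by decide)
    have : σ 1 = 2 ∨ σ 4 = 2 ∨ σ 16 = 2 := by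
      rcases e1 with a | a | a <;> rcases e4 with b | b | b <;> rcases e16 with c | c | c <;>
        rw [a, b] at n14 <;> rw [a, c] at n116 <;> rw [b, c] at n416 <;>
        first | contradiction | (simp [a, b, c])
    rcases this with h | h | h
    · exact h ▸ hc 1
    · exact (base 1 4 (by decide)).trans (h ▸ hc 4)
    · exact (base 1 16 (by decide)).trans (h ▸ hc 16)
  -- weight two
  have w2 : IsConj (B.j 5) (B.j 10) ∧ IsConj (B.j 5) (B.j 18) := by
    obtain ⟨σ, h21, hlin, hp, hc⟩ := get 26 ((hom 26).2 (by decide))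
    have key : ∀ e ∈ [(5 : Fin 64), 17, 20], σ e = 10 ∨ σ e = 18 ∨ σ e = 24 := by
      intro e he
      have hd : e ≠ 0 ∧ wA e = 2 ∧ wA (xr 21 e) = 1 ∧ xr 21 e ≠ 0 := by
        simp only [List.mem_cons, List.not_mem_nil, or_false] at he
        rcases he with rfl | rfl | rfl <;> decide
      refine lineA_facts.2.2.2.2.2.1 _ ⟨(hp e hd.1).2.trans hd.2.1, ?_⟩
      rw [← h21, ← hlin]
      exact (hp _ hd.2.2.2).2.trans hd.2.2.1
    have e1 := key 5 (by simp)
    have e4 := key 17 (by simp)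
    have e16 := key 20 (by simp)
    have n14 : σ 5 ≠ σ 17 := σ.injective.ne (by decide)
    have n116 : σ 5 ≠ σ 20 := σ.injective.ne (by decide)
    have n416 : σ 17 ≠ σ 20 := σ.injective.ne (by decide)
    have c5 : IsConj (B.j 5) (B.j (σ 5)) := hc 5
    have c17 : IsConj (B.j 5) (B.j (σ 17)) := (base 5 17 (by decide)).trans (hc 17)
    have c20 : IsConj (B.j 5) (B.j (σ 20)) := (base 5 20 (by decide)).trans (hc 20)
    rcases e1 with a | a | a <;> rcases e4 with b | b | b <;> rcases e16 with c | c | c <;>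
      rw [a, b] at n14 <;> rw [a, c] at n116 <;> rw [b, c] at n416 <;>
      first | contradiction |
        (rw [a] at c5; rw [b] at c17; rw [c] at c20; exact ⟨by assumption, by assumption⟩)
  intro i k hi hk
  constructor
  · intro h
    obtain ⟨n, hn, e⟩ := B.exists_normalizer_conj h
    obtain ⟨σ, hσ, hlin, hO⟩ := B.exists_perm hn
    have := (pres σ hlin hO i hi).2
    rw [B.j_inj ((hσ i).symm.trans e)] at this
    exact this.symm
  · intro h
    have to1 : ∀ m, m ≠ 0 → wA m = 1 → IsConj (B.j 1) (B.j m) := fun m hm hw => by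
      rcases ((lineA_facts.2.2.2.1 m hm).1).1 hw with e | e
      · exact base 1 m (by rw [e]; decide)
      · exact w1.trans (base 2 m (by rw [e, lineA_facts.2.2.2.2.2.2.1]))
    have to2 : ∀ m, m ≠ 0 → wA m = 2 → IsConj (B.j 5) (B.j m) := fun m hm hw => by
      rcases ((lineA_facts.2.2.2.1 m hm).2).1 hw with e | e | e
      · exact base 5 m (by rw [e]; decide)
      · exact w2.2.trans (base 18 m (by rw [e, lineA_facts.2.2.2.2.2.2.2.2]))
      · exact w2.1.trans (base 10 m (by rw [e, lineA_facts.2.2.2.2.2.2.2.1]))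
    rcases lineA_facts.2.2.1 i hi with e | e | e
    · exact (to1 i hi e).symm.trans (to1 k hk (h ▸ e))
    · exact (to2 i hi e).symm.trans (to2 k hk (h ▸ e))
    · exact ((hom i).2 e).symm.trans ((hom k).2 (h ▸ e))

/-- The lines attached to a transvection. -/
def Ln (x t : Fin 64) : Prop :=
  ∃ n, B.NJ n ∧ n * B.j 21 * n⁻¹ = B.j x ∧ ∃ k ∈ baseLines, n * B.j k * n⁻¹ = B.j t

theorem base_stable {m : G} (hm : B.NJ m) (ha : m * B.j 21 * m⁻¹ = B.j 21) {k : Fin 64}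
    (hk : k ∈ baseLines) : ∃ k' ∈ baseLines, m * B.j k * m⁻¹ = B.j k' := by
  obtain ⟨y, rfl⟩ := B.mem_range_of_commute (x := m) (by
    rw [← j_tc]
    show m * B.j 21 = B.j 21 * m
    calc m * B.j 21 = m * B.j 21 * m⁻¹ * m := by group
      _ = _ := by rw [ha])
  obtain ⟨i, hi⟩ := B.mem_J.1 ((hm _).2 (B.j_mem k))
  refine ⟨i, ?_, hi.symm⟩
  have he : y * el k * y⁻¹ = el i := B.inj (by rw [map_mul, map_mul, map_inv]; exact hi.symm)
  have hpp : pairPerm (el i) = 1 := by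
    have hom : ∀ a b, pairPerm (a * b) = pairPerm a * pairPerm b := pairPerm_mul
    let f : C12 →* Equiv.Perm (Fin 6) := MonoidHom.mk' pairPerm hom
    have h1 : f (el k) = 1 := (by decide +kernel : ∀ k ∈ baseLines, pairPerm (el k) = 1) k hk
    show f (el i) = 1
    rw [← he, map_mul, map_mul, h1, map_inv]; group
  have hsupp : (elP i).support.card = (elP k).support.card := by
    have e : (y : Equiv.Perm (Fin 12)) * elP k * (y : Equiv.Perm (Fin 12))⁻¹ = elP i :=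
      congrArg Subtype.val he
    rw [← e, Equiv.Perm.card_support_conj]
  exact (by decide +kernel : ∀ i, pairPerm (el i) = 1 → ∀ k ∈ baseLines,
    (elP i).support.card = (elP k).support.card → i ∈ baseLines) i hpp k hk hsupp

/-- A line at a transvection is the image of a base line by any element carrying the central
involution there. -/
theorem ln_eq {n : G} (hn : B.NJ n) {x t : Fin 64} (hx : n * B.j 21 * n⁻¹ = B.j x) (h : B.Ln x t) :
    ∃ k ∈ baseLines, n * B.j k * n⁻¹ = B.j t := by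
  obtain ⟨n', hn', hx', k, hk, e⟩ := h
  obtain ⟨k', hk', e'⟩ := B.base_stable (m := n⁻¹ * n') (B.nj_mul (B.nj_inv hn) hn') (by
    calc n⁻¹ * n' * B.j 21 * (n⁻¹ * n')⁻¹ = n⁻¹ * (n' * B.j 21 * n'⁻¹) * n := by group
      _ = n⁻¹ * (n * B.j 21 * n⁻¹) * n := by rw [hx', hx]
      _ = B.j 21 := by group) hk
  refine ⟨k', hk', ?_⟩
  rw [← e', ← e]
  group

theorem ln_conj {n : G} (hn : B.NJ n) {σ : Equiv.Perm (Fin 64)}
    (hσ : ∀ i, n * B.j i * n⁻¹ = B.j (σ i)) {x t : Fin 64} (h : B.Ln x t) : B.Ln (σ x) (σ t) := by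
  obtain ⟨n', hn', hx', k, hk, e⟩ := h
  refine ⟨n * n', B.nj_mul hn hn', ?_, k, hk, ?_⟩
  · rw [← hσ x, ← hx']; group
  · rw [← hσ t, ← e]; group

theorem ln_act (g : Fin 4) {x t : Fin 64} (h : B.Ln x t) :
    B.Ln ((actTab g).getD x.val 0) ((actTab g).getD t.val 0) := by
  obtain ⟨σ, hσ, -, -⟩ := B.exists_perm (B.nj_nG g)
  have e : ∀ i, σ i = (actTab g).getD i.val 0 := fun i =>
    B.j_inj ((hσ i).symm.trans (B.nG_j g i))
  rw [← e, ← e]
  exact B.ln_conj (B.nj_nG g) hσ h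

theorem ln_base {t : Fin 64} (ht : t ∈ baseLines) : B.Ln 21 t :=
  ⟨1, fun x => by simp, by simp, t, ht, by simp⟩

theorem ln_close {P : List (Fin 64 × Fin 64)} (hP : ∀ p ∈ P, B.Ln p.1 p.2) :
    ∀ n, ∀ p ∈ closeP n P, B.Ln p.1 p.2 := by
  intro n
  induction n with
  | zero => exact hP
  | succ n ih =>
    intro p hp
    simp only [closeP, List.mem_dedup, List.mem_append, List.mem_flatMap, List.mem_map] at hp
    rcases hp with hp | ⟨q, hq, g, -, rfl⟩
    · exact ih p hp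
    · exact B.ln_act g (ih q hq)

/-- The lines at the first transvection. -/
theorem ln_two (hom : ∀ i, B.Om i ↔ cS i = 0 ∧ i ≠ 0) :
    B.Ln 2 20 ∧ (B.Ln 2 42 ∧ B.Ln 2 62 ∨ B.Ln 2 58 ∧ B.Ln 2 46) := by
  classical
  have h2 : B.Om 2 := (hom 2).2 (by decide)
  rw [Om, ← j_tc] at h2
  obtain ⟨n, hn, e⟩ := B.exists_normalizer_conj h2
  obtain ⟨σ, hσ, hlin, hO⟩ := B.exists_perm hn
  have hx : σ 21 = 2 := B.j_inj ((hσ 21).symm.trans e)
  have h0 : σ 0 = 0 := by
    have := hlin 0 0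
    rw [show xr 0 0 = 0 from xr_self 0, xr_self] at this
    exact this
  have hne : ∀ i, i ≠ 0 → σ i ≠ 0 := fun i hi h => hi (σ.injective (h.trans h0.symm))
  have p0 : ∀ i, (cS (σ i) = 0 ∧ σ i ≠ 0) ↔ (cS i = 0 ∧ i ≠ 0) := fun i => by
    rw [← hom, ← hom, hO]
  have p1 : ∀ i, i ≠ 0 → (cS (σ i) = 1 ↔ cS i = 1) := by
    intro i hi
    rw [lineS_facts.1 i hi, lineS_facts.1 _ (hne i hi)]
    constructor
    · rintro ⟨u, v, a1, a2, b1, b2, huv, huve⟩
      obtain ⟨u, rfl⟩ := σ.surjective u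
      obtain ⟨v, rfl⟩ := σ.surjective v
      rw [← hlin] at huve
      exact ⟨u, v, ((p0 u).1 ⟨a1, a2⟩).1, ((p0 u).1 ⟨a1, a2⟩).2, ((p0 v).1 ⟨b1, b2⟩).1,
        ((p0 v).1 ⟨b1, b2⟩).2, fun h => huv (congrArg σ h), σ.injective huve⟩
    · rintro ⟨u, v, a1, a2, b1, b2, huv, huve⟩
      exact ⟨σ u, σ v, ((p0 u).2 ⟨a1, a2⟩).1, ((p0 u).2 ⟨a1, a2⟩).2, ((p0 v).2 ⟨b1, b2⟩).1,
        ((p0 v).2 ⟨b1, b2⟩).2, σ.injective.ne huv, by rw [← hlin, huve]⟩
  have cand : ∀ k ∈ baseLines, σ k ∈ lineCand := by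
    intro k hk
    obtain ⟨c1, c2, c3⟩ := lineS_facts.2.2.2.2.2.2.2 k hk
    refine List.mem_filter.2 ⟨List.mem_finRange _, ?_⟩
    have q0 : ¬ cS (σ k) = 0 := fun h => by
      have := ((p0 k).1 ⟨h, hne k c3⟩).1; omega
    have q1 : ¬ cS (σ k) = 1 := fun h => by
      have := (p1 k c3).1 h; omega
    have q2 : cS (xr (σ k) 2) = 1 := by
      rw [← hx, ← hlin, p1 _ (fun h => by rw [h] at c2; exact absurd c2 (by decide))]
      exact c2
    simp only [Bool.and_eq_true, decide_eq_true_eq, beq_iff_eq]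
    exact ⟨⟨by omega, q2⟩, hne k c3⟩
  have hsum : xr (σ 5) (σ 17) = σ 20 := by rw [← hlin]; rfl
  have L : ∀ t ∈ [σ 5, σ 17, xr (σ 5) (σ 17)], B.Ln 2 t := by
    intro t ht
    rw [hsum] at ht
    simp only [List.mem_cons, List.not_mem_nil, or_false] at ht
    rcases ht with rfl | rfl | rfl
    · exact ⟨n, hn, e, 5, by decide, hσ 5⟩
    · exact ⟨n, hn, e, 17, by decide, hσ 17⟩
    · exact ⟨n, hn, e, 20, by decide, hσ 20⟩
  have L' : ∀ t, B.Ln 2 t → t ∈ [σ 5, σ 17, xr (σ 5) (σ 17)] := by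
    intro t ht
    obtain ⟨k, hk, e'⟩ := B.ln_eq hn e ht
    rw [hσ k] at e'
    rw [hsum, ← B.j_inj e']
    simp only [baseLines, List.mem_cons, List.not_mem_nil, or_false] at hk
    rcases hk with rfl | rfl | rfl <;> simp
  have nc : ∀ a b : Fin 64, a ∈ baseLines → b ∈ baseLines → a ≠ b → cS (xr (σ a) (σ b)) ≠ 1 := by
    intro a b ha hb hab
    obtain ⟨hd1, hd2⟩ := (by decide +kernel : ∀ a ∈ baseLines, ∀ b ∈ baseLines, a ≠ b →
      xr a b ≠ 0 ∧ cS (xr a b) ≠ 1) a ha b hb hab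
    rw [← hlin, Ne, p1 _ hd1]
    exact hd2
  have ch := lineS_choice _ (cand 5 (by decide)) _ (cand 17 (by decide))
    (σ.injective.ne (by decide)) (hsum ▸ cand 20 (by decide)) (nc 5 17 (by decide) (by decide) (by decide))
    (by rw [hsum]; exact nc 5 20 (by decide) (by decide) (by decide))
    (by rw [hsum]; exact nc 17 20 (by decide) (by decide) (by decide))
    (by
      intro t ht u hu
      apply L'
      simp only [fixTwo, List.mem_cons, List.not_mem_nil, or_false] at hu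
      rcases hu with rfl | rfl
      · have := B.ln_act 0 (B.ln_act 1 (L t ht))
        rwa [show (actTab 0).getD ((actTab 1).getD (2 : Fin 64).val 0).val 0 = 2 by decide +kernel] at this
      · have := B.ln_act 3 (L t ht)
        rwa [show (actTab 3).getD (2 : Fin 64).val 0 = 2 by decide +kernel] at this)
  refine ⟨L _ ch.1, ?_⟩
  rcases ch.2 with ⟨a, b⟩ | ⟨a, b⟩ | a
  · exact Or.inl ⟨L _ a, L _ b⟩
  · exact Or.inr ⟨L _ a, L _ b⟩
  -- the remaining choice gives two lines through two points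
  exfalso
  obtain ⟨k, hk, hk6⟩ := B.ln_eq hn e (L _ a)
  have hk6 : σ k = 6 := B.j_inj ((hσ k).symm.trans hk6)
  obtain ⟨y, hy⟩ := σ.surjective 8
  obtain ⟨c1, c2, c3⟩ := lineS_facts.2.2.2.2.2.2.2 k hk
  have hy0 : cS y = 0 ∧ y ≠ 0 := (p0 y).1 (by rw [hy]; decide)
  have hy21 : y ≠ 21 := fun h => by rw [h, hx] at hy; exact absurd hy (by decide)
  have hky : cS (xr k y) = 1 := by
    have hd : xr k y ≠ 0 := fun h => by
      have h1 := congrArg σ h
      rw [hlin, hk6, hy, h0] at h1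
      exact absurd h1 (by decide)
    rw [← p1 _ hd, hlin, hk6, hy]; decide
  have hmem : (y, k) ∈ closeP 3 [((2 : Fin 64), (20 : Fin 64))] :=
    (by decide +kernel : ∀ k ∈ baseLines, ∀ y : Fin 64, cS y = 0 → y ≠ 0 → y ≠ 21 → cS (xr k y) = 1 →
      (y, k) ∈ closeP 3 [((2 : Fin 64), (20 : Fin 64))]) k hk y hy0.1 hy0.2 hy21 hky
  have h20 : ∀ p ∈ closeP 3 [((2 : Fin 64), (20 : Fin 64))], B.Ln p.1 p.2 :=
    B.ln_close (fun p hp => by rw [List.mem_singleton.1 hp]; exact L _ ch.1) 3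
  have h86 : B.Ln 8 6 := by
    have := B.ln_conj hn hσ (h20 _ hmem)
    rwa [hy, hk6] at this
  have h817 : B.Ln 8 17 := by
    have := B.ln_act 2 (L _ ch.1)
    rwa [show (actTab 2).getD (2 : Fin 64).val 0 = 8 by decide +kernel,
      show (actTab 2).getD (20 : Fin 64).val 0 = 17 by decide +kernel] at this
  have h8 : B.Om 8 := (hom 8).2 (by decide)
  rw [Om, ← j_tc] at h8
  obtain ⟨m, hm, em⟩ := B.exists_normalizer_conj h8
  obtain ⟨τ, hτ, hlin', hO'⟩ := B.exists_perm hm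
  obtain ⟨k₁, hk₁, e₁⟩ := B.ln_eq hm em h86
  obtain ⟨k₂, hk₂, e₂⟩ := B.ln_eq hm em h817
  have f1 : τ k₁ = 6 := B.j_inj ((hτ _).symm.trans e₁)
  have f2 : τ k₂ = 17 := B.j_inj ((hτ _).symm.trans e₂)
  have hs : B.Om (xr 6 17) → False := fun h => absurd ((hom _).1 h).1 (by decide)
  have hk12 : k₁ ≠ k₂ := fun h => by rw [h, f2] at f1; exact absurd f1 (by decide)
  obtain ⟨hd1, hd2⟩ := (by decide +kernel : ∀ a ∈ baseLines, ∀ b ∈ baseLines, a ≠ b →
    xr a b ≠ 0 ∧ cS (xr a b) ≠ 1) k₁ hk₁ k₂ hk₂ hk12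
  refine hd2 ((lineS_facts.1 _ hd1).2 ?_)
  obtain ⟨u, v, a1, a2, b1, b2, huv, huve⟩ :=
    (lineS_facts.1 (xr 6 17) (by decide)).1 (by decide)
  obtain ⟨u, rfl⟩ := τ.surjective u
  obtain ⟨v, rfl⟩ := τ.surjective v
  have q : ∀ i, (cS (τ i) = 0 ∧ τ i ≠ 0) → (cS i = 0 ∧ i ≠ 0) := fun i h => by
    rwa [← hom, ← hO', hom]
  refine ⟨u, v, (q u ⟨a1, a2⟩).1, (q u ⟨a1, a2⟩).2, (q v ⟨b1, b2⟩).1, (q v ⟨b1, b2⟩).2,
    fun h => huv (congrArg τ h), τ.injective ?_⟩
  rw [hlin', hlin', f1, f2, huve]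

/-- The pattern of the symplectic group, with the lines normalized. -/
theorem patS_of_ln (hom : ∀ i, B.Om i ↔ cS i = 0 ∧ i ≠ 0) (h : B.Ln 2 42 ∧ B.Ln 2 62) : B.PatS := by
  classical
  have hseed : ∀ p ∈ [((2 : Fin 64), (20 : Fin 64)), (2, 42), (2, 62), (21, 5), (21, 17), (21, 20)],
      B.Ln p.1 p.2 := by
    intro p hp
    simp only [List.mem_cons, List.not_mem_nil, or_false] at hp
    rcases hp with rfl | rfl | rfl | rfl | rfl | rfl
    · exact (B.ln_two hom).1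
    · exact h.1
    · exact h.2
    all_goals exact B.ln_base (by decide)
  have tabL : ∀ p ∈ lineTab, B.Ln p.1 p.2 := fun p hp =>
    B.ln_close hseed 4 p (lineS_facts.2.2.2.2.2.2.1 p hp)
  have onlyTab : ∀ x t, B.Ln x t → (x, t) ∈ lineTab := by
    intro x t ht
    obtain ⟨n, hn, e, k, hk, ek⟩ := id ht
    have hxo : B.Om x := by
      rw [Om, ← j_tc]; exact isConj_iff.2 ⟨n, e⟩
    obtain ⟨t₁, t₂, t₃, m1, m2, m3, d12, d13, d23⟩ :=
      lineS_facts.2.2.2.2.2.1 x ((hom x).1 hxo).1 ((hom x).1 hxo).2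
    obtain ⟨σ, hσ, -, -⟩ := B.exists_perm hn
    have im : ∀ s, (x, s) ∈ lineTab → s = σ 5 ∨ s = σ 17 ∨ s = σ 20 := by
      intro s hs
      obtain ⟨k', hk', e'⟩ := B.ln_eq hn e (tabL _ hs)
      have : σ k' = s := B.j_inj ((hσ k').symm.trans e')
      simp only [baseLines, List.mem_cons, List.not_mem_nil, or_false] at hk'
      rcases hk' with rfl | rfl | rfl <;> simp [← this]
    have ht' : t = σ 5 ∨ t = σ 17 ∨ t = σ 20 := by
      have := B.j_inj ((hσ k).symm.trans ek)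
      simp only [baseLines, List.mem_cons, List.not_mem_nil, or_false] at hk
      rcases hk with rfl | rfl | rfl <;> simp [← this]
    rcases im _ m1 with a | a | a <;> rcases im _ m2 with b | b | b <;> rcases im _ m3 with c | c | c <;>
      rcases ht' with d | d | d <;>
      first
        | exact absurd (a.trans b.symm) d12
        | exact absurd (a.trans c.symm) d13
        | exact absurd (b.trans c.symm) d23
        | (rw [d, ← a]; exact m1)
        | (rw [d, ← b]; exact m2)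
        | (rw [d, ← c]; exact m3)
  have base : ∀ i k, oc i = oc k → IsConj (B.j i) (B.j k) := fun i k h =>
    (B.isConj_rep i).symm.trans (by rw [h]; exact B.isConj_rep k)
  have pres : ∀ σ : Equiv.Perm (Fin 64), ∀ n, B.NJ n → (∀ i, n * B.j i * n⁻¹ = B.j (σ i)) →
      (∀ i k, σ (xr i k) = xr (σ i) (σ k)) → (∀ i, B.Om (σ i) ↔ B.Om i) →
      ∀ i, i ≠ 0 → σ i ≠ 0 ∧ (cS i = 0 → cS (σ i) = 0) ∧ (cS i = 1 → cS (σ i) = 1) ∧
        (cS i = 2 → cS (σ i) = 2) := by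
    intro σ n hn hσ hlin hO i hi
    have h0 : σ 0 = 0 := by
      have := hlin 0 0
      rw [show xr 0 0 = 0 from xr_self 0, xr_self] at this
      exact this
    have hne : σ i ≠ 0 := fun h => hi (σ.injective (h.trans h0.symm))
    have p0 : ∀ u, cS u = 0 → u ≠ 0 → cS (σ u) = 0 ∧ σ u ≠ 0 := fun u a b =>
      (hom _).1 ((hO u).2 ((hom u).2 ⟨a, b⟩))
    refine ⟨hne, fun h => (p0 i h hi).1, fun h => ?_, fun h => ?_⟩
    · obtain ⟨u, v, a1, a2, b1, b2, huv, huve⟩ := (lineS_facts.1 i hi).1 h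
      exact (lineS_facts.1 _ hne).2 ⟨σ u, σ v, (p0 u a1 a2).1, (p0 u a1 a2).2, (p0 v b1 b2).1,
        (p0 v b1 b2).2, σ.injective.ne huv, by rw [← hlin, huve]⟩
    · obtain ⟨p, hp, rfl⟩ := lineS_facts.2.2.2.2.1 i h
      exact (lineS_facts.2.2.2.1 _ (onlyTab _ _ (B.ln_conj hn hσ (tabL p hp)))).1
  have get : ∀ i k, IsConj (B.j i) (B.j k) → i ≠ 0 → k ≠ 0 →
      (cS i = 0 → cS k = 0) ∧ (cS i = 1 → cS k = 1) ∧ (cS i = 2 → cS k = 2) := by
    intro i k hc hi _
    obtain ⟨n, hn, e⟩ := B.exists_normalizer_conj hc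
    obtain ⟨σ, hσ, hlin, hO⟩ := B.exists_perm hn
    have := pres σ n hn hσ hlin hO i hi
    rw [B.j_inj ((hσ i).symm.trans e)] at this
    exact this.2
  -- transitivity on the classes
  have h2 : B.Om 2 := (hom 2).2 (by decide)
  rw [Om, ← j_tc] at h2
  obtain ⟨n, hn, e⟩ := B.exists_normalizer_conj h2
  obtain ⟨σ, hσ, hlin, hO⟩ := B.exists_perm hn
  have hx : σ 21 = 2 := B.j_inj ((hσ 21).symm.trans e)
  have hc : ∀ i, IsConj (B.j i) (B.j (σ i)) := fun i => isConj_iff.2 ⟨n, hσ i⟩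
  have via1 : ∀ y, cS y = 0 → y ≠ 0 → y ≠ 2 → IsConj (B.j 22) (B.j (xr 2 y)) := by
    intro y hy hy0 hy2
    obtain ⟨z, rfl⟩ := σ.surjective y
    have hz : cS z = 0 ∧ z ≠ 0 := by rw [← hom, ← hO, hom]; exact ⟨hy, hy0⟩
    have hz21 : z ≠ 21 := fun h => hy2 (by rw [h, hx])
    have ho : oc (xr 21 z) = oc 22 :=
      (by decide +kernel : ∀ z, cS z = 0 → z ≠ 0 → z ≠ 21 → oc (xr 21 z) = oc 22) z hz.1 hz.2 hz21
    have := (base 22 (xr 21 z) ho.symm).trans (hc _)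
    rwa [hlin, hx] at this
  have via3 : ∀ y, cS y = 3 → y ≠ 0 → cS (xr y 2) = 1 → IsConj (B.j 26) (B.j y) := by
    intro y hy hy0 hy2
    obtain ⟨z, rfl⟩ := σ.surjective y
    have hz0 : z ≠ 0 := fun h => by
      subst h
      have := hlin 0 0
      rw [show xr 0 0 = 0 from xr_self 0, xr_self] at this
      exact hy0 this
    have back := get _ _ (hc z).symm hy0 hz0
    have fwd := get _ _ (hc z) hz0 hy0
    have hz3 : cS z = 3 := by
      rcases lineS_facts.2.1 z hz0 with q | q | q | q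
      · exact absurd (fwd.1 q) (by omega)
      · exact absurd (fwd.2.1 q) (by omega)
      · exact absurd (fwd.2.2 q) (by omega)
      · exact q
    have hne : xr z 21 ≠ 0 := fun h => by
      have h1 := congrArg σ h
      have h0 : σ 0 = 0 := by
        have := hlin 0 0
        rw [show xr 0 0 = 0 from xr_self 0, xr_self] at this
        exact this
      rw [hlin, hx, h0] at h1
      rw [h1] at hy2
      exact absurd hy2 (by decide)
    have hz1 : cS (xr z 21) = 1 := by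
      have := (get _ _ (hc (xr z 21)).symm (pres σ n hn hσ hlin hO _ hne).1 hne).2.1
      exact this (by rw [hlin, hx]; exact hy2)
    have ho : oc z = oc 26 :=
      (by decide +kernel : ∀ z, cS z = 3 → cS (xr z 21) = 1 → oc z = oc 26) z hz3 hz1
    exact (base 26 z ho.symm).trans (hc z)
  have c1 : IsConj (B.j 22) (B.j 1) ∧ IsConj (B.j 22) (B.j 10) :=
    ⟨via1 3 (by decide) (by decide) (by decide), via1 8 (by decide) (by decide) (by decide)⟩
  have c2 : IsConj (B.j 5) (B.j 42) := by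
    obtain ⟨k, hk, e'⟩ := B.ln_eq hn e h.1
    exact (base 5 k ((by decide +kernel : ∀ k ∈ baseLines, oc 5 = oc k) k hk)).trans
      (isConj_iff.2 ⟨n, e'⟩)
  have c3 : IsConj (B.j 26) (B.j 6) ∧ IsConj (B.j 26) (B.j 58) :=
    ⟨via3 6 (by decide) (by decide) (by decide), via3 58 (by decide) (by decide) (by decide)⟩
  intro i k hi hk
  constructor
  · intro hik
    have a := get i k hik hi hk
    have b := get k i hik.symm hk hi
    rcases lineS_facts.2.1 i hi with q | q | q | q <;> rcases lineS_facts.2.1 k hk with r | r | r | r <;>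
      first
        | omega
        | (have := a.1 q; omega)
        | (have := a.2.1 q; omega)
        | (have := a.2.2 q; omega)
        | (have := b.1 r; omega)
        | (have := b.2.1 r; omega)
        | (have := b.2.2 r; omega)
  · intro hik
    have f := (lineS_facts.2.2.1 i hi)
    have f' := (lineS_facts.2.2.1 k hk)
    rcases lineS_facts.2.1 i hi with q | q | q | q
    · exact ((hom i).2 ⟨q, hi⟩).symm.trans ((hom k).2 ⟨hik ▸ q, hk⟩)
    · have tp : ∀ m, (oc m = 1 ∨ oc m = 5 ∨ oc m = 7) → IsConj (B.j 22) (B.j m) := fun m hm => by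
        rcases hm with e | e | e
        · exact c1.1.trans (base 1 m (by rw [e]; decide))
        · exact base 22 m (by rw [e]; decide)
        · exact c1.2.trans (base 10 m (by rw [e]; decide))
      exact (tp i (f.2.1.1 q)).symm.trans (tp k (f'.2.1.1 (hik ▸ q)))
    · have tp : ∀ m, (oc m = 2 ∨ oc m = 9) → IsConj (B.j 5) (B.j m) := fun m hm => by
        rcases hm with e | e
        · exact base 5 m (by rw [e]; decide)
        · exact c2.trans (base 42 m (by rw [e]; decide))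
      exact (tp i (f.2.2.1.1 q)).symm.trans (tp k (f'.2.2.1.1 (hik ▸ q)))
    · have tp : ∀ m, (oc m = 6 ∨ oc m = 8 ∨ oc m = 10) → IsConj (B.j 26) (B.j m) := fun m hm => by
        rcases hm with e | e | e
        · exact c3.1.trans (base 6 m (by rw [e]; decide))
        · exact base 26 m (by rw [e]; decide)
        · exact c3.2.trans (base 58 m (by rw [e]; decide))
      exact (tp i (f.2.2.2.1 q)).symm.trans (tp k (f'.2.2.2.1 (hik ▸ q)))

/-- The three possible patterns. -/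
theorem trichotomy :
    B.Isolated ∨ (∃ B' : Setup G, B'.a = B.a ∧ B'.PatA) ∨ ∃ B' : Setup G, B'.a = B.a ∧ B'.PatS := by
  rcases B.fusion_cases with h | ⟨B', e, hom⟩ | ⟨B', e, hom⟩
  · exact Or.inl h
  · exact Or.inr (Or.inl ⟨B', e, B'.patA_of_om hom⟩)
  refine Or.inr (Or.inr ?_)
  obtain ⟨-, ⟨h1, h2⟩ | ⟨h1, h2⟩⟩ := B'.ln_two hom
  · exact ⟨B', e, B'.patS_of_ln hom ⟨h1, h2⟩⟩
  have hom' : ∀ i, B'.kap.Om i ↔ cS i = 0 ∧ i ≠ 0 := fun i => by
    rw [Om, kap_a, kap_j, ← Om, hom]; exact kap_facts.2.2.2.2.2.2 i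
  have hJ : B'.kap.J = B'.J := by
    ext x
    rw [mem_J, mem_J]
    constructor
    · rintro ⟨i, rfl⟩; exact ⟨_, (B'.kap_j i).symm⟩
    · rintro ⟨i, rfl⟩
      refine ⟨kapTab.getD i.val 0, ?_⟩
      rw [kap_j]
      congr 1
      revert i; decide +kernel
  have move : ∀ t, B'.Ln 2 (kapTab.getD t.val 0) → B'.kap.Ln 2 t := by
    rintro t ⟨n, hn, ex, k, hk, et⟩
    have hn' : B'.kap.NJ n := fun x => by rw [hJ]; exact hn x
    refine ⟨n, hn', ?_, k, hk, ?_⟩
    · rw [kap_j, kap_j]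
      have e1 : kapTab.getD ((21 : Fin 64) : ℕ) 0 = (21 : Fin 64) := kap_facts.2.1
      have e2 : kapTab.getD ((2 : Fin 64) : ℕ) 0 = (2 : Fin 64) := kap_facts.2.2.1
      rw [e1, e2]; exact ex
    · rw [kap_j, kap_j, kap_facts.1 k hk]; exact et
  refine ⟨B'.kap, B'.kap_a.trans e, B'.kap.patS_of_ln hom' ⟨move 42 ?_, move 62 ?_⟩⟩
  · rw [show kapTab.getD ((42 : Fin 64) : ℕ) 0 = (58 : Fin 64) from kap_facts.2.2.2.1]; exact h1
  · rw [show kapTab.getD ((62 : Fin 64) : ℕ) 0 = (46 : Fin 64) from kap_facts.2.2.2.2.2.1]; exact h2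

end Setup

end Cfsg.Agent.A12Type
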