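import Cfsg.Agent.A12Type.Build
import Cfsg.Agent.A12Type.Isolated
import Cfsg.Agent.A12Type.Patterns
import Cfsg.Agent.A12Type.CentJ
import Cfsg.Agent.A12Type.CentT
import Cfsg.Agent.A12Type.Sp.Main

/-!
A finite group with a central involution of this type is an alternating group of degree twelve or
thirteen, the symplectic group in dimension six over two elements, or has that involution isolated.
-/

set_option autoImplicit false
set_option maxRecDepth 100000

namespace Cfsg.Agent.A12Type

open Equiv Subgroup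

theorem act_fixed : ∀ i : Fin 64, (∀ g : Fin 4, (actTab g).getD i.val 0 = i) → i = 0 ∨ i = 21 := by
  decide +kernel

/-- The centre of the model centralizer. -/
theorem eq_tc_of_central {x : C12} (hx : ∀ y, Commute x y) (h1 : x ≠ 1) : x = tc := by
  obtain ⟨i, rfl⟩ := mem_J12_of_commute fun j => hx (el j)
  have hfix : ∀ g : Fin 4, (actTab g).getD i.val 0 = i := fun g => by
    have hgg : (⟨actP g, actP_mem g⟩ : C12) * ⟨actP g, actP_mem g⟩ = 1 :=
      Subtype.ext ((by decide +kernel : ∀ g, actP g * actP g = 1) g)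
    have e : (⟨actP g, actP_mem g⟩ : C12) * el i * ⟨actP g, actP_mem g⟩ =
        el ((actTab g).getD i.val 0) :=
      Subtype.ext (enc_inj (mul_mem (mul_mem (actP_mem g) (elP_mem i)) (actP_mem g)) (elP_mem _)
        (act_facts g i))
    rw [← (hx ⟨actP g, actP_mem g⟩).eq, mul_assoc, hgg, mul_one] at e
    exact (el_inj e).symm
  rcases act_fixed i hfix with rfl | rfl
  · exact absurd el_zero h1
  · exact el_tc

variable {G : Type*} [Group G] [Finite G]

/-- A labelling of a centralizer of this type. -/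
theorem exists_setup (α : G) (hα : orderOf α = 2) (S : Sylow 2 G)
    (hαS : α ∈ (S : Subgroup G) ⊓ Subgroup.centralizer ((S : Subgroup G) : Set G))
    (hC : Nonempty (↥(Subgroup.centralizer ({α} : Set G)) ≃* ↥C12)) :
    ∃ B : Setup G, B.a = α := by
  classical
  have : Fact (Nat.Prime 2) := ⟨Nat.prime_two⟩
  obtain ⟨φ⟩ := hC
  let f : C12 →* G := (centralizer ({α} : Set G)).subtype.comp φ.symm.toMonoidHom
  have hf : Function.Injective f := (subtype_injective _).comp φ.symm.injective
  have hrange : f.range = centralizer ({α} : Set G) := by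
    refine le_antisymm ?_ fun x hx => ⟨φ ⟨x, hx⟩, ?_⟩
    · rintro _ ⟨x, rfl⟩; exact (φ.symm x).2
    · show ((φ.symm (φ ⟨x, hx⟩)) : G) = x
      rw [φ.symm_apply_apply]
  set a₀ : centralizer ({α} : Set G) := ⟨α, mem_centralizer_singleton_iff.2 rfl⟩ with ha₀
  have htc : f tc = α := by
    have e : φ a₀ = tc := by
      refine eq_tc_of_central (fun y => ?_) fun e => ?_
      · obtain ⟨z, rfl⟩ := φ.surjective y
        exact Commute.map (Subtype.ext (mem_centralizer_singleton_iff.1 z.2).symm : Commute a₀ z) φ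
      · have h1 : α = 1 := congrArg Subtype.val (φ.injective (e.trans (map_one φ).symm))
        rw [h1, orderOf_one] at hα
        omega
    show ((φ.symm tc) : G) = α
    rw [← e, φ.symm_apply_apply]
  have hS : (S : Subgroup G) ≤ f.range := fun x hx => by
    rw [hrange]
    exact mem_centralizer_singleton_iff.2
      (mem_centralizer_iff.1 (mem_inf.1 hαS).2 x hx)
  obtain ⟨P, hP⟩ := exists_sylow_S12
  obtain ⟨Q, hQ⟩ := (show IsPGroup 2 (S12.map f) from hP ▸ P.2.map f).exists_le_sylow
  obtain ⟨R, hR⟩ := (S.2.comap_of_injective f hf).exists_le_sylow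
  refine ⟨⟨f, hf, by rw [hrange, htc], Q, (eq_of_le_of_card_ge hQ ?_).symm⟩, htc⟩
  calc Nat.card (Q : Subgroup G) = Nat.card (S : Subgroup G) := by
        rw [Q.card_eq_multiplicity, S.card_eq_multiplicity]
    _ = Nat.card ((S : Subgroup G).comap f) := by
        rw [← card_map_of_injective hf (K := (S : Subgroup G).comap f), map_comap_eq_self hS]
    _ ≤ Nat.card (R : Subgroup C12) := card_le_of_le hR
    _ = Nat.card (S12.map f) := by
        rw [card_map_of_injective hf, ← hP, R.card_eq_multiplicity, P.card_eq_multiplicity]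

/-- The theorem of Yamaki. -/
theorem main (α : G) (hα : orderOf α = 2) (S : Sylow 2 G)
    (hαS : α ∈ (S : Subgroup G) ⊓ Subgroup.centralizer ((S : Subgroup G) : Set G))
    (hC : Nonempty (↥(Subgroup.centralizer ({α} : Set G)) ≃* ↥C12)) :
    Nonempty (G ≃* ↥(alternatingGroup (Fin 12))) ∨ Nonempty (G ≃* ↥(alternatingGroup (Fin 13))) ∨
      (∃ (F : Type) (_ : Field F) (_ : Fintype F), Fintype.card F = 2 ∧ Nonempty (G ≃* Cfsg.PSp 3 F)) ∨
      (Cfsg.oddCore G ⊔ Subgroup.centralizer ({α} : Set G) = ⊤ ∧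
        IsMulCommutative ↥(Cfsg.oddCore G)) := by
  obtain ⟨B, hB⟩ := exists_setup α hα S hαS hC
  rcases B.trichotomy with h | ⟨B', -, h⟩ | ⟨B', -, h⟩
  · exact Or.inr (Or.inr (Or.inr (hB ▸ B.isolated_case h)))
  · obtain ⟨H⟩ := B'.exists_host h
    have e : hostK H.big ≃* G := MulEquiv.ofBijective H.φ ⟨H.inj,
      MonoidHom.range_eq_top.1 (H.range_eq_top h (H.centJ_le h) (H.centT_le h))⟩
    cases hb : H.big
    · rw [hb] at e
      obtain ⟨e12, -⟩ := Setup.ext_equiv12
      exact Or.inl ⟨e.symm.trans e12.symm⟩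
    · rw [hb] at e
      obtain ⟨e13, -⟩ := Setup.ext_equiv13
      exact Or.inr (Or.inl ⟨e.symm.trans e13.symm⟩)
  · exact Or.inr (Or.inr (Or.inl (B'.sp_case h)))

end Cfsg.Agent.A12Type
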