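import Cfsg.Agent.A12Type.Fusion

/-!
An alternating group of degree twelve or thirteen extending the labelling of the centralizer.
-/

set_option autoImplicit false
set_option maxRecDepth 100000

namespace Cfsg.Agent.A12Type

open Equiv

/-- A permutation of twelve points, acting on thirteen. -/
def extFun (x : Perm (Fin 12)) (i : Fin 13) : Fin 13 :=
  if h : i.val < 12 then (x ⟨i.val, h⟩).castSucc else i

theorem extFun_comp (x y : Perm (Fin 12)) (i : Fin 13) : extFun x (extFun y i) = extFun (x * y) i := by
  unfold extFun
  by_cases h : i.val < 12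
  · rw [dif_pos h, dif_pos h, dif_pos (by simp)]
    rfl
  · rw [dif_neg h, dif_neg h, dif_neg h]

theorem extFun_one (i : Fin 13) : extFun 1 i = i := by
  unfold extFun
  split <;> simp [Fin.ext_iff]

/-- The extension of permutations by a fixed point. -/
def ext13 : Perm (Fin 12) →* Perm (Fin 13) :=
  MonoidHom.mk'
    (fun x => ⟨extFun x, extFun x⁻¹,
      fun i => by rw [extFun_comp, inv_mul_cancel, extFun_one],
      fun i => by rw [extFun_comp, mul_inv_cancel, extFun_one]⟩)
    fun x y => Equiv.ext fun i => (extFun_comp x y i).symm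

theorem ext13_last (x : Perm (Fin 12)) : ext13 x (Fin.last 12) = Fin.last 12 := by
  show extFun x (Fin.last 12) = _
  rw [extFun, dif_neg (by simp)]

theorem ext13_castSucc (x : Perm (Fin 12)) (i : Fin 12) : ext13 x i.castSucc = (x i).castSucc := by
  show extFun x i.castSucc = _
  rw [extFun, dif_pos (by simp)]
  rfl

theorem ext13_inj : Function.Injective ext13 := fun x y h =>
  Equiv.ext fun i => Fin.castSucc_injective _ (by rw [← ext13_castSucc, ← ext13_castSucc, h])

theorem sign_ext13 (x : Perm (Fin 12)) : Perm.sign (ext13 x) = Perm.sign x := by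
  induction x using Perm.swap_induction_on with
  | one => rw [map_one, map_one, map_one]
  | swap_mul f a b hab ih =>
    have hs : ext13 (swap a b) = swap a.castSucc b.castSucc := by
      refine Equiv.ext fun i => ?_
      rcases i.eq_castSucc_or_eq_last with ⟨i, rfl⟩ | rfl
      · rw [ext13_castSucc]
        exact (Fin.castSucc_injective 12).swap_apply a b i |>.symm
      · rw [ext13_last, swap_apply_of_ne_of_ne (Fin.castSucc_ne_last a).symm (Fin.castSucc_ne_last b).symm]
    rw [map_mul, map_mul, map_mul, ih, hs, Perm.sign_swap hab,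
      Perm.sign_swap (fun h => hab (Fin.castSucc_injective 12 h))]

/-- The alternating group on thirteen points, or the stabilizer of the last point in it. -/
def hostK (big : Bool) : Subgroup (Perm (Fin 13)) where
  carrier := {p | Perm.sign p = 1 ∧ (big = false → p (Fin.last 12) = Fin.last 12)}
  one_mem' := ⟨map_one _, fun _ => rfl⟩
  mul_mem' := by
    rintro p q ⟨hp, hp'⟩ ⟨hq, hq'⟩
    exact ⟨by rw [map_mul, hp, hq, mul_one], fun h => by rw [Perm.mul_apply, hq' h, hp' h]⟩
  inv_mem' := by
    rintro p ⟨hp, hp'⟩
    exact ⟨by rw [map_inv, hp, inv_one], fun h => Perm.inv_eq_iff_eq.2 (hp' h).symm⟩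

theorem ext13_mem (big : Bool) {x : Perm (Fin 12)} (hx : x ∈ C12) : ext13 x ∈ hostK big :=
  ⟨by rw [sign_ext13]; exact Perm.mem_alternatingGroup.1 (Subgroup.mem_inf.1 hx).1,
    fun _ => ext13_last x⟩

/-- The model centralizer inside the host. -/
def extC (big : Bool) : C12 →* hostK big :=
  MonoidHom.mk' (fun x => ⟨ext13 (x : Perm (Fin 12)), ext13_mem big x.2⟩) fun x y =>
    Subtype.ext (map_mul ext13 (x : Perm (Fin 12)) (y : Perm (Fin 12)))

namespace Setup

variable {G : Type*} [Group G] (B : Setup G)

/-- An alternating group of degree twelve or thirteen containing the centralizer of the central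
involution and that of a block. -/
structure Host where
  /-- whether the degree is thirteen -/
  big : Bool
  /-- the embedding -/
  φ : hostK big →* G
  inj : Function.Injective φ
  agree : ∀ x : C12, φ (extC big x) = B.f x
  nb : B.NB 2 ≤ φ.range

end Setup

end Cfsg.Agent.A12Type
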