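import Cfsg.Agent.A12Type.MLevel
import Cfsg.Agent.S3277
import Cfsg.Agent.S3377
import Cfsg.Prelude.Def_Local

/-!
The centralizer of two blocks is the direct product of their elementary group and an alternating
group of degree four or five on the remaining block.
-/

set_option autoImplicit false
set_option maxRecDepth 100000
set_option synthInstance.maxSize 4000

namespace Cfsg.Agent.A12Type

open Subgroup

/-- The standard four-group of permutations of the first four of `n` points. -/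
def dtP (n : ℕ) [NeZero n] : Fin 4 → Equiv.Perm (Fin n) :=
  ![1, Equiv.swap (Fin.ofNat n 0) (Fin.ofNat n 1) * Equiv.swap (Fin.ofNat n 2) (Fin.ofNat n 3),
    Equiv.swap (Fin.ofNat n 0) (Fin.ofNat n 2) * Equiv.swap (Fin.ofNat n 1) (Fin.ofNat n 3),
    Equiv.swap (Fin.ofNat n 0) (Fin.ofNat n 3) * Equiv.swap (Fin.ofNat n 1) (Fin.ofNat n 2)]

/-- The rotation of the three non-trivial elements of a block. -/
def rot3 (w : Fin 4) : Fin 4 := if w = 0 then 0 else if w = 3 then 1 else w + 1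

/-- The sum of two elements of a block. -/
def x4 (v w : Fin 4) : Fin 4 := Fin.ofNat 4 (v.val ^^^ w.val)

/-- The element of order three on four points. -/
def c4 : Equiv.Perm (Fin 4) := Equiv.swap 1 2 * Equiv.swap 2 3

/-- The normal form in the alternating group of degree four. -/
def nf4 (p : Fin 4 × Fin 3) : Equiv.Perm (Fin 4) := dtP 4 p.1 * c4 ^ p.2.val

theorem nf4_facts :
    Function.Injective nf4 ∧
    (∀ p : alternatingGroup (Fin 4), ∃ q, nf4 q = (p : Equiv.Perm (Fin 4))) ∧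
    (∀ (w w' : Fin 4) (a a' : Fin 3),
      nf4 (w, a) * nf4 (w', a') = nf4 (x4 w (rot3^[a.val] w'), a + a')) ∧
    (∀ w : Fin 4, nf4 (w, 0) = dtP 4 w) ∧
    (∀ q, Equiv.Perm.sign (nf4 q) = 1) := by
  decide +kernel

theorem xr_assoc (a b c : Fin 64) : xr (xr a b) c = xr a (xr b c) := by
  have hv : ∀ a b : Fin 64, (xr a b).val = a.val ^^^ b.val := fun a b => by
    simp only [xr, Fin.val_ofNat]
    exact Nat.mod_eq_of_lt (Nat.xor_lt_two_pow (n := 6) a.isLt b.isLt)
  apply Fin.ext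
  rw [hv, hv, hv, hv, Nat.xor_assoc]

theorem xr_zero_left (a : Fin 64) : xr 0 a = a := by
  apply Fin.ext
  simp [xr]

theorem xr_cancel (a b : Fin 64) : xr a (xr a b) = b := by
  rw [← xr_assoc, xr_self, xr_zero_left]

theorem xr_split {a b u v t : Fin 64} (h : xr (xr a u) (xr b v) = xr (xr a b) t) : t = xr u v := by
  have e : xr (xr a b) (xr u v) = xr (xr a b) t := by
    rw [← h, xr_assoc, xr_assoc, ← xr_assoc b u, xr_comm b u, xr_assoc u b]
  calc t = xr (xr a b) (xr (xr a b) t) := (xr_cancel _ _).symm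
    _ = xr u v := by rw [← e, xr_cancel]

theorem xr_left_cancel {a u t : Fin 64} (h : xr a u = xr a t) : t = u := by
  rw [← xr_cancel a t, ← h, xr_cancel]

theorem block_facts :
    (∀ (k : Fin 3) (v w : Fin 4), xr (blk k v) (blk k w) = blk k (x4 v w)) ∧
    (∀ v : Fin 4, v ≠ 0 → rot3 v ≠ 0) ∧ (∀ k : Fin 3, blk k 0 = 0) ∧
    (∀ v : Fin 4, v ≠ 0 → ∃ a : Fin 3, rot3^[a.val] 1 = v) ∧
    (∀ a a' : Fin 3, ∀ v : Fin 4, rot3^[a.val] (rot3^[a'.val] v) = rot3^[(a + a').val] v) ∧
    (∀ (k : Fin 3) (i : Fin 64), i = xr (xr (blk k (comp i k)) i) (blk k (comp i k))) := by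
  decide +kernel

theorem a5_signs : (∀ w, Equiv.Perm.sign (dtP 5 w) = 1) ∧ (∀ w, Equiv.Perm.sign (dtP 4 w) = 1) := by
  decide +kernel

/-- A standard involution. -/
def p51 : alternatingGroup (Fin 5) := ⟨dtP 5 1, Equiv.Perm.mem_alternatingGroup.2 (a5_signs.1 1)⟩

theorem a5_std :
    (∀ q : alternatingGroup (Fin 5), q * q = 1 → q ≠ 1 →
      ∃ g : alternatingGroup (Fin 5), g * p51 * g⁻¹ = q) ∧
    (∀ q : alternatingGroup (Fin 5), q * q = 1 → q ≠ 1 → q ≠ p51 → p51 * q = q * p51 →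
      (q : Equiv.Perm (Fin 5)) = dtP 5 2 ∨ (q : Equiv.Perm (Fin 5)) = dtP 5 3) ∧
    (Equiv.swap (2 : Fin 5) 3 * dtP 5 1 * (Equiv.swap (2 : Fin 5) 3)⁻¹ = dtP 5 1 ∧
      Equiv.swap (2 : Fin 5) 3 * dtP 5 2 * (Equiv.swap (2 : Fin 5) 3)⁻¹ = dtP 5 3) := by
  decide +kernel

theorem a5_conj_inv (p q : alternatingGroup (Fin 5)) (hp : p * p = 1) (hp1 : p ≠ 1) (hq : q * q = 1)
    (hq1 : q ≠ 1) : ∃ g : alternatingGroup (Fin 5), g * p * g⁻¹ = q := by
  obtain ⟨g, hg⟩ := a5_std.1 p hp hp1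
  obtain ⟨g', hg'⟩ := a5_std.1 q hq hq1
  exact ⟨g' * g⁻¹, by rw [← hg, ← hg']; group⟩

theorem a5_conj_four (p q : alternatingGroup (Fin 5)) (hp : p * p = 1) (hp1 : p ≠ 1) (hq : q * q = 1)
    (hq1 : q ≠ 1) (hpq : p ≠ q) (hc : p * q = q * p) :
    ∃ s : Equiv.Perm (Fin 5), s * dtP 5 1 * s⁻¹ = (p : Equiv.Perm (Fin 5)) ∧
      s * dtP 5 2 * s⁻¹ = (q : Equiv.Perm (Fin 5)) := by
  obtain ⟨g, hg⟩ := a5_std.1 p hp hp1
  obtain ⟨q', rfl⟩ : ∃ q', g * q' * g⁻¹ = q := ⟨g⁻¹ * q * g, by group⟩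
  subst hg
  have hq' : q' * q' = 1 := by
    calc q' * q' = g⁻¹ * (g * q' * g⁻¹ * (g * q' * g⁻¹)) * g := by group
      _ = 1 := by rw [hq]; group
  have hq1' : q' ≠ 1 := fun e => hq1 (by rw [e]; group)
  have hne : q' ≠ p51 := fun e => hpq (by rw [e])
  have hc' : p51 * q' = q' * p51 := by
    calc p51 * q' = g⁻¹ * (g * p51 * g⁻¹ * (g * q' * g⁻¹)) * g := by group
      _ = g⁻¹ * (g * q' * g⁻¹ * (g * p51 * g⁻¹)) * g := by rw [hc]
      _ = q' * p51 := by group
  rcases a5_std.2.1 q' hq' hq1' hne hc' with h | h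
  · exact ⟨g, rfl, by rw [← h]; rfl⟩
  · refine ⟨(g : Equiv.Perm (Fin 5)) * Equiv.swap 2 3, ?_, ?_⟩
    · show _ = (g : Equiv.Perm (Fin 5)) * dtP 5 1 * (g : Equiv.Perm (Fin 5))⁻¹
      conv_rhs => rw [← a5_std.2.2.1]
      group
    · show _ = (g : Equiv.Perm (Fin 5)) * (q' : Equiv.Perm (Fin 5)) * (g : Equiv.Perm (Fin 5))⁻¹
      rw [h, ← a5_std.2.2.2]
      group

namespace Setup

variable {G : Type*} [Group G] [Finite G] (B : Setup G)

/-- The elementary group away from a block, inside the centralizer of the two blocks. -/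
def Eb (k : Fin 3) : Subgroup (B.MB k) where
  carrier := {x | ∃ i, comp i k = 0 ∧ B.j i = (x : G)}
  one_mem' := ⟨0, (by decide +kernel : ∀ k, comp 0 k = 0) k, by rw [j_zero]; rfl⟩
  mul_mem' := by
    rintro x y ⟨i, hi, e⟩ ⟨i', hi', e'⟩
    exact ⟨xr i i', mlevel_facts.2.2.2.2.2.2.1 i i' k hi hi', by rw [← j_mul, e, e']; rfl⟩
  inv_mem' := by
    rintro x ⟨i, hi, e⟩
    refine ⟨i, hi, ?_⟩
    show B.j i = ((x⁻¹ : B.MB k) : G)
    rw [Subgroup.coe_inv, ← e]
    exact (inv_eq_of_mul_eq_one_right (B.j_mul_self i)).symm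

instance Eb_normal (k : Fin 3) : (B.Eb k).Normal where
  conj_mem x hx g := by
    obtain ⟨i, hi, e⟩ := hx
    refine ⟨i, hi, ?_⟩
    show B.j i = (g : G) * (x : G) * (g : G)⁻¹
    rw [← e, (B.mem_MB_iff.1 g.2 i hi).eq]
    group

/-- The product decomposition of the centralizer of two blocks. -/
structure Split (k : Fin 3) (n : ℕ) [NeZero n] (ψ : alternatingGroup (Fin n) →* G) : Prop where
  inj : Function.Injective ψ
  le : ∀ p, ψ p ∈ B.MB k
  span : ∀ x ∈ B.MB k, ∃ i p, comp i k = 0 ∧ x = B.j i * ψ p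
  disj : ∀ i p, comp i k = 0 → B.j i = ψ p → p = 1
  block : ∀ (w : Fin 4) (p : alternatingGroup (Fin n)), (p : Equiv.Perm (Fin n)) = dtP n w →
    ψ p = B.j (blk k w)

theorem exists_split (h : B.PatA) (k : Fin 3) :
    (∃ ψ, B.Split k 4 ψ) ∨ ∃ ψ, B.Split k 5 ψ := by
  classical
  obtain ⟨c, hc, hc3, hc1, hc2, hc4⟩ := B.exists_cycle h k
  have hrot : ∀ w, c * B.j (blk k w) * c⁻¹ = B.j (blk k (rot3 w)) := by
    intro w
    rcases (by decide : ∀ w : Fin 4, w = 0 ∨ w = 1 ∨ w = 2 ∨ w = 3) w with rfl | rfl | rfl | rfl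
    · rw [show rot3 0 = 0 by decide, block_facts.2.2.1, j_zero]; group
    · exact hc1
    · exact hc2
    · exact hc4
  have hrotn : ∀ (a : ℕ) (w : Fin 4), c ^ a * B.j (blk k w) * (c ^ a)⁻¹ = B.j (blk k (rot3^[a] w)) := by
    intro a
    induction a with
    | zero => intro w; simp
    | succ a ih =>
      intro w
      rw [pow_succ', Function.iterate_succ_apply', ← hrot, ← ih]
      group
  have hblk0 : ∀ w, w ≠ 0 → blk k w ≠ 0 := fun w hw => (mlevel_facts.2.2.2.1 k w hw).2.2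
  let π := QuotientGroup.mk' (B.Eb k)
  let jm : Fin 64 → B.MB k := fun i => ⟨B.j i, B.j_mem_MB i k⟩
  have jm_mul : ∀ i i', jm i * jm i' = jm (xr i i') := fun i i' => Subtype.ext (B.j_mul i i')
  have pi_eq : ∀ x y : B.MB k, π x = π y ↔ ∃ i, comp i k = 0 ∧ (y : G) = x * B.j i := by
    intro x y
    rw [QuotientGroup.mk'_eq_mk']
    constructor
    · rintro ⟨z, ⟨i, hi, e⟩, hz⟩
      exact ⟨i, hi, by rw [e, ← hz]; rfl⟩
    · rintro ⟨i, hi, e⟩
      exact ⟨jm i, ⟨i, hi, rfl⟩, Subtype.ext e.symm⟩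
  have pi_jm : ∀ i, π (jm i) = π (jm (blk k (comp i k))) := by
    intro i
    refine (pi_eq _ _).2 ⟨xr (blk k (comp i k)) i, (mlevel_facts.2.2.2.2.2.2.2.1 i k).2, ?_⟩
    show B.j (blk k (comp i k)) = B.j i * B.j (xr (blk k (comp i k)) i)
    rw [j_mul]
    exact congrArg B.j ((by decide +kernel : ∀ a b : Fin 64, b = xr a (xr b a)) _ _)
  -- the centralizer in the quotient
  have hcent : ∀ w, w ≠ 0 → ∀ x : B.MB k, π x * π (jm (blk k w)) = π (jm (blk k w)) * π x →
      (x : G) ∈ B.J := by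
    intro w hw x hx
    have hx' : π (x * jm (blk k w) * x⁻¹) = π (jm (blk k w)) := by
      rw [map_mul, map_mul, map_inv, hx, mul_inv_cancel_right]
    obtain ⟨i, hi, e⟩ := (pi_eq _ _).1 hx'.symm
    change (x : G) * B.j (blk k w) * (x : G)⁻¹ = B.j (blk k w) * B.j i at e
    rw [j_mul] at e
    have h0 := B.conj_blk_eq h hw hw hi e
    rw [h0, ((by decide +kernel : ∀ a : Fin 64, xr a 0 = a) _)] at e
    exact B.mem_J_of_commute_blk h hw x.2 (by
      show (x : G) * B.j (blk k w) = B.j (blk k w) * x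
      calc (x : G) * B.j (blk k w) = (x : G) * B.j (blk k w) * (x : G)⁻¹ * x := by group
        _ = _ := by rw [e])
  have hinj : ∀ v w, π (jm (blk k v)) = π (jm (blk k w)) → v = w := by
    intro v w e
    obtain ⟨i, hi, e⟩ := (pi_eq _ _).1 e
    change B.j (blk k w) = B.j (blk k v) * B.j i at e
    rw [j_mul] at e
    have := congrArg (fun t => comp t k) (B.j_inj e)
    revert this
    exact (by decide +kernel : ∀ (k : Fin 3) (v w : Fin 4) (i : Fin 64), comp i k = 0 →
      comp (blk k w) k = comp (xr (blk k v) i) k → v = w) k v w i hi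
  -- the four group in the quotient
  let x1 := π (jm (blk k 1))
  let cM : B.MB k := ⟨c, hc⟩
  have hcen : ∀ q, q ∈ centralizer ({x1} : Set (B.MB k ⧸ B.Eb k)) → ∃ w, q = π (jm (blk k w)) := by
    intro q hq
    obtain ⟨x, rfl⟩ := QuotientGroup.mk'_surjective (B.Eb k) q
    obtain ⟨i, hi⟩ := B.mem_J.1 (hcent 1 (by decide) x (mem_centralizer_singleton_iff.1 hq))
    refine ⟨comp i k, ?_⟩
    rw [← pi_jm]
    exact congrArg π (Subtype.ext hi.symm)
  have hmem : ∀ w, π (jm (blk k w)) ∈ centralizer ({x1} : Set (B.MB k ⧸ B.Eb k)) := fun w => by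
    refine mem_centralizer_singleton_iff.2 ?_
    rw [← map_mul, ← map_mul, jm_mul, jm_mul, xr_comm]
  have hx1 : orderOf x1 = 2 := by
    refine Invol.orderOf_eq_two_iff.2 ⟨fun e => absurd (hinj 1 0 ?_) (by decide), ?_⟩
    · rw [show π (jm (blk k 1)) = 1 from e, block_facts.2.2.1, show jm 0 = 1 from Subtype.ext B.j_zero, map_one]
    · rw [← map_mul, jm_mul, xr_self, show jm 0 = 1 from Subtype.ext B.j_zero, map_one]
  have hC4 : Nat.card (centralizer ({x1} : Set (B.MB k ⧸ B.Eb k))) = 4 := by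
    have hb : Function.Bijective (fun w : Fin 4 =>
        (⟨π (jm (blk k w)), hmem w⟩ : centralizer ({x1} : Set (B.MB k ⧸ B.Eb k)))) :=
      ⟨fun v w e => hinj v w (congrArg Subtype.val e), fun ⟨q, hq⟩ => by
        obtain ⟨w, rfl⟩ := hcen q hq; exact ⟨w, rfl⟩⟩
    rw [← Nat.card_eq_of_bijective _ hb, Nat.card_eq_fintype_card, Fintype.card_fin]
  have hCe : ∀ q ∈ centralizer ({x1} : Set (B.MB k ⧸ B.Eb k)), q ^ 2 = 1 := by
    intro q hq
    obtain ⟨w, rfl⟩ := hcen q hq
    rw [pow_two, ← map_mul, jm_mul, xr_self, show jm 0 = 1 from Subtype.ext B.j_zero, map_one]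
  have hpc : ∀ w, π cM * π (jm (blk k w)) * (π cM)⁻¹ = π (jm (blk k (rot3 w))) := by
    intro w
    rw [← map_inv, ← map_mul, ← map_mul]
    exact congrArg π (Subtype.ext (hrot w))
  by_cases hN : ∃ K : Subgroup (B.MB k ⧸ B.Eb k), K.Normal ∧ Cfsg.IsElementaryAbelian 2 K ∧
      (Nat.card K = 2 ∨ Nat.card K = 4)
  · -- the quotient is alternating of degree four
    left
    obtain ⟨K, hK, hKe, hKc⟩ := hN
    have hfix : ∃ u ∈ K, u ≠ 1 ∧ u ∈ centralizer ({x1} : Set (B.MB k ⧸ B.Eb k)) := by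
      have : Fintype K := Fintype.ofFinite _
      let f : K → K := fun u => ⟨x1 * u * x1⁻¹, hK.conj_mem _ u.2 x1⟩
      have h2 : x1 * x1 = 1 := (Invol.orderOf_eq_two_iff.1 hx1).2
      have hf : Function.Involutive f := fun u => Subtype.ext (by
        show x1 * (x1 * u * x1⁻¹) * x1⁻¹ = u
        rw [show x1 * (x1 * (u : B.MB k ⧸ B.Eb k) * x1⁻¹) * x1⁻¹
          = (x1 * x1) * u * (x1 * x1)⁻¹ by group, h2]
        group)
      by_contra hne
      have hfp : ∀ u : K, f u = u → u = 1 := fun u hu => by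
        by_contra h1
        refine hne ⟨u, u.2, fun e => h1 (Subtype.ext e), mem_centralizer_singleton_iff.2 ?_⟩
        have := congrArg Subtype.val hu
        change x1 * (u : B.MB k ⧸ B.Eb k) * x1⁻¹ = u at this
        calc (u : B.MB k ⧸ B.Eb k) * x1 = x1 * u * x1⁻¹ * x1 := by rw [this]
          _ = x1 * u := by group
      have hfix1 : f 1 = 1 := Subtype.ext (by show x1 * 1 * x1⁻¹ = 1; group)
      have hone : ∀ n : Fin 5, n.val = 2 ∨ n.val = 4 → ∀ g : Fin n.val → Fin n.val, (∀ u, g (g u) = u) →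
          ∀ o, g o = o → ∃ v, v ≠ o ∧ g v = v := by decide +kernel
      have hn : Nat.card K < 5 := by rcases hKc with e | e <;> omega
      let eK : K ≃ Fin (⟨Nat.card K, hn⟩ : Fin 5).val := Finite.equivFin K
      obtain ⟨v, hv, hv'⟩ := hone ⟨Nat.card K, hn⟩ hKc (fun u => eK (f (eK.symm u)))
        (fun u => by simp only [Equiv.symm_apply_apply, hf (eK.symm u), Equiv.apply_symm_apply]) (eK 1)
        (by simp only [Equiv.symm_apply_apply, hfix1])
      have := hfp (eK.symm v) (eK.injective (by simpa using hv'))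
      exact hv (by rw [← this, Equiv.apply_symm_apply])
    obtain ⟨u, huK, hu1, huc⟩ := hfix
    obtain ⟨w, rfl⟩ := hcen u huc
    have hw : w ≠ 0 := fun e => hu1 (by
      rw [e, block_facts.2.2.1, show jm 0 = 1 from Subtype.ext B.j_zero, map_one])
    have step : ∀ v, π (jm (blk k v)) ∈ K → π (jm (blk k (rot3 v))) ∈ K := fun v hv => by
      rw [← hpc]; exact hK.conj_mem _ hv _
    have all3 : ∀ v, v ≠ 0 → π (jm (blk k v)) ∈ K := by
      intro v hv
      rcases (by decide : ∀ v w : Fin 4, v ≠ 0 → w ≠ 0 → v = w ∨ v = rot3 w ∨ v = rot3 (rot3 w)) v w hv hw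
        with rfl | rfl | rfl
      · exact huK
      · exact step _ huK
      · exact step _ (step _ huK)
    have all4 : ∀ v, π (jm (blk k v)) ∈ K := fun v => by
      by_cases hv : v = 0
      · rw [hv, block_facts.2.2.1, show jm 0 = 1 from Subtype.ext B.j_zero, map_one]; exact one_mem _
      · exact all3 v hv
    have hKeq : ∀ q ∈ K, ∃ v, q = π (jm (blk k v)) := by
      intro q hq
      by_contra hne
      let g : Option (Fin 4) → K := fun o => match o with
        | none => ⟨q, hq⟩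
        | some v => ⟨π (jm (blk k v)), all4 v⟩
      have hg : Function.Injective g := by
        rintro (_ | v) (_ | v') e
        · rfl
        · exact absurd ⟨v', congrArg Subtype.val e⟩ hne
        · exact absurd ⟨v, (congrArg Subtype.val e).symm⟩ hne
        · exact congrArg some (hinj v v' (congrArg Subtype.val e))
      have := Nat.card_le_card_of_injective g hg
      rw [Nat.card_eq_fintype_card, Fintype.card_option, Fintype.card_fin] at this
      omega
    let e4 : Fin 4 × Fin 3 ≃ alternatingGroup (Fin 4) :=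
      Equiv.ofBijective (fun q => ⟨nf4 q, Equiv.Perm.mem_alternatingGroup.2 (nf4_facts.2.2.2.2 q)⟩)
        ⟨fun a b e => nf4_facts.1 (congrArg Subtype.val e), fun p => by
          obtain ⟨q, hq⟩ := nf4_facts.2.1 p; exact ⟨q, Subtype.ext hq⟩⟩
    let F : Fin 4 × Fin 3 → G := fun q => B.j (blk k q.1) * c ^ q.2.val
    have hF : ∀ q q', F q * F q' = F (x4 q.1 (rot3^[q.2.val] q'.1), q.2 + q'.2) := by
      rintro ⟨w, a⟩ ⟨w', a'⟩
      show B.j (blk k w) * c ^ a.val * (B.j (blk k w') * c ^ a'.val) = _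
      have hadd : c ^ (a + a').val = c ^ a.val * c ^ a'.val := by
        rw [← pow_add, Fin.val_add, ← pow_eq_pow_mod _ hc3]
      show _ = B.j (blk k (x4 w (rot3^[a.val] w'))) * c ^ (a + a').val
      rw [hadd, ← block_facts.1, ← j_mul, ← hrotn a.val w']
      group
    let ψ : alternatingGroup (Fin 4) →* G := MonoidHom.mk' (fun p => F (e4.symm p)) (fun p p' => by
      obtain ⟨q, rfl⟩ := e4.surjective p
      obtain ⟨q', rfl⟩ := e4.surjective p'
      obtain ⟨w, a⟩ := q
      obtain ⟨w', a'⟩ := q'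
      rw [show e4 (w, a) * e4 (w', a') = e4 (x4 w (rot3^[a.val] w'), a + a') from
        Subtype.ext (nf4_facts.2.2.1 w w' a a'), e4.symm_apply_apply, e4.symm_apply_apply,
        e4.symm_apply_apply, hF])
    have hdisj : ∀ i q, comp i k = 0 → B.j i = F q → q = (0, 0) := by
      rintro i ⟨w, a⟩ hi e
      change B.j i = B.j (blk k w) * c ^ a.val at e
      have hca : c ^ a.val = B.j (xr (blk k w) i) := by
        rw [← j_mul, e, ← mul_assoc, j_mul_self, one_mul]
      have hfix : c ^ a.val * B.j (blk k 1) * (c ^ a.val)⁻¹ = B.j (blk k 1) := by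
        rw [hca, (B.j_comm _ (blk k 1)).eq, mul_assoc, mul_inv_cancel, mul_one]
      rw [hrotn] at hfix
      have ha0 : a = 0 := (by decide +kernel : ∀ (k : Fin 3) (a : Fin 3),
        blk k (rot3^[a.val] 1) = blk k 1 → a = 0) k a (B.j_inj hfix)
      subst ha0
      rw [Fin.val_zero, pow_zero, mul_one] at e
      have := congrArg (fun t => comp t k) (B.j_inj e)
      rw [hi] at this
      exact Prod.ext ((by decide +kernel : ∀ (k : Fin 3) (w : Fin 4), 0 = comp (blk k w) k → w = 0) k w this) rfl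
    have he0 : e4 (0, 0) = 1 := Subtype.ext (by show nf4 (0, 0) = 1; rw [nf4_facts.2.2.2.1]; rfl)
    refine ⟨ψ, ?_, ?_, ?_, ?_, ?_⟩
    · refine (injective_iff_map_eq_one ψ).2 fun p hp => ?_
      obtain ⟨q, rfl⟩ := e4.surjective p
      have := hdisj 0 q ((by decide +kernel : ∀ k, comp 0 k = 0) k) (by
        rw [j_zero, ← hp]; show F (e4.symm (e4 q)) = _; rw [e4.symm_apply_apply])
      rw [this, he0]
    · intro p
      exact mul_mem (B.j_mem_MB _ k) (pow_mem hc _)
    · intro x hx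
      obtain ⟨v, hv⟩ := hKeq _ (hK.conj_mem _ (all4 1) (π ⟨x, hx⟩))
      rw [← map_inv, ← map_mul, ← map_mul] at hv
      obtain ⟨i, hi, e⟩ := (pi_eq _ _).1 hv.symm
      change x * B.j (blk k 1) * x⁻¹ = B.j (blk k v) * B.j i at e
      rw [j_mul] at e
      have hv0 : v ≠ 0 := fun ev => by
        rw [ev] at hv
        exact absurd (hinj 1 0 ((by
          have := congrArg (fun q => (π ⟨x, hx⟩)⁻¹ * q * π ⟨x, hx⟩) hv
          simp only [map_mul, map_inv, block_facts.2.2.1] at this ⊢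
          rw [show jm 0 = 1 from Subtype.ext B.j_zero, map_one] at this ⊢
          simpa [mul_assoc] using this))) (by decide)
      have h0 := B.conj_blk_eq h hv0 (by decide) hi e
      rw [h0, ((by decide +kernel : ∀ a : Fin 64, xr a 0 = a) _)] at e
      obtain ⟨a, ha⟩ := block_facts.2.2.2.1 v hv0
      have hz : (c ^ a.val)⁻¹ * x ∈ B.J := by
        refine B.mem_J_of_commute_blk h (n := 1) (by decide)
          (mul_mem (inv_mem (pow_mem hc _)) hx) ?_
        rw [← ha, ← hrotn] at e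
        show (c ^ a.val)⁻¹ * x * B.j (blk k 1) = B.j (blk k 1) * ((c ^ a.val)⁻¹ * x)
        calc (c ^ a.val)⁻¹ * x * B.j (blk k 1)
            = (c ^ a.val)⁻¹ * (x * B.j (blk k 1) * x⁻¹) * x := by group
          _ = _ := by rw [e]; group
      obtain ⟨t, ht⟩ := B.mem_J.1 hz
      obtain ⟨ht1, ht2⟩ := mlevel_facts.2.2.2.2.2.2.2.1 t k
      refine ⟨xr (blk k (comp t k)) t, e4 (rot3^[a.val] (comp t k), a), ht2, ?_⟩
      show x = _ * F (e4.symm (e4 _))
      rw [e4.symm_apply_apply]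
      show x = _ * (B.j (blk k (rot3^[a.val] (comp t k))) * c ^ a.val)
      have hcom := B.mem_MB_iff.1 (pow_mem hc a.val) _ ht2
      calc x = c ^ a.val * B.j t := by rw [ht]; group
        _ = c ^ a.val * (B.j (xr (blk k (comp t k)) t) * B.j (blk k (comp t k))) := by
          rw [j_mul]; exact congrArg (fun i => c ^ a.val * B.j i) (block_facts.2.2.2.2.2 k t)
        _ = B.j (xr (blk k (comp t k)) t) * (c ^ a.val * B.j (blk k (comp t k))) := by
          rw [← mul_assoc, hcom.eq, mul_assoc]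
        _ = _ := by rw [← hrotn]; group
    · intro i p hi e
      obtain ⟨q, rfl⟩ := e4.surjective p
      have := hdisj i q hi (by rw [e]; show F (e4.symm (e4 q)) = _; rw [e4.symm_apply_apply])
      rw [this, he0]
    · intro w p hp
      have : p = e4 (w, 0) := Subtype.ext (by
        rw [hp]; exact (nf4_facts.2.2.2.1 w).symm)
      rw [this]
      show F (e4.symm (e4 (w, 0))) = _
      rw [e4.symm_apply_apply]
      show B.j (blk k w) * c ^ (0 : ℕ) = _
      rw [pow_zero, mul_one]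
  · -- the quotient is alternating of degree five
    right
    have hnc : ¬ Cfsg.HasNormalPComplement 2 (B.MB k ⧸ B.Eb k) := by
      rintro ⟨P, N, hN', hcomp⟩
      have : Fact (Nat.Prime 2) := ⟨Nat.prime_two⟩
      have hodd : ¬ 2 ∣ Nat.card N := by
        rw [← hcomp.index_eq_card]
        exact P.not_dvd_index
      obtain ⟨n, hn⟩ := IsPGroup.iff_card.1 P.2
      have hidx : N.index = 2 ^ n := by rw [hcomp.symm.index_eq_card]; exact hn
      have hcN : π cM ∈ N := by
        have h3 : (QuotientGroup.mk' N (π cM)) ^ 3 = 1 := by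
          rw [← map_pow, ← map_pow, show cM ^ 3 = 1 from Subtype.ext hc3, map_one, map_one]
        have h2 : (QuotientGroup.mk' N (π cM)) ^ (2 ^ n) = 1 := by
          rw [← hidx, Subgroup.index]; exact pow_card_eq_one'
        have hg := (pow_gcd_eq_one (a := QuotientGroup.mk' N (π cM)) (m := 3) (n := 2 ^ n)).2 ⟨h3, h2⟩
        rw [Nat.Coprime.pow_right n (show Nat.Coprime 3 2 by norm_num), pow_one] at hg
        exact (QuotientGroup.eq_one_iff _).1 hg
      have hzN : π (jm (blk k (x4 (rot3 1) 1))) ∈ N := by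
        rw [← block_facts.1, ← jm_mul, map_mul, ← hpc]
        have hinv : (π (jm (blk k 1)))⁻¹ = π (jm (blk k 1)) :=
          inv_eq_of_mul_eq_one_right (Invol.orderOf_eq_two_iff.1 hx1).2
        rw [show π cM * π (jm (blk k 1)) * (π cM)⁻¹ * π (jm (blk k 1))
          = π cM * (π (jm (blk k 1)) * (π cM)⁻¹ * (π (jm (blk k 1)))⁻¹) by rw [hinv]; group]
        exact mul_mem hcN (hN'.conj_mem _ (inv_mem hcN) _)
      have h2 : orderOf (⟨_, hzN⟩ : N) = 2 := by
        rw [Subgroup.orderOf_mk]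
        refine Invol.orderOf_eq_two_iff.2 ⟨fun e => absurd (hinj (x4 (rot3 1) 1) 0 ?_) (by decide), ?_⟩
        · rw [e, block_facts.2.2.1, show jm 0 = 1 from Subtype.ext B.j_zero, map_one]
        · rw [← map_mul, jm_mul, xr_self, show jm 0 = 1 from Subtype.ext B.j_zero, map_one]
      exact hodd (h2 ▸ orderOf_dvd_natCard _)
    obtain ⟨θ⟩ := Cfsg.Agent.S3277.result x1 hx1 hC4 hCe hnc fun K hK hKe =>
      ⟨fun e => hN ⟨K, hK, hKe, Or.inl e⟩, fun e => hN ⟨K, hK, hKe, Or.inr e⟩⟩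
    obtain ⟨ε⟩ := Cfsg.Agent.S3377.result
    let T := θ.symm.toMonoidHom.comp ε.toMonoidHom
    have hT : Function.Injective T := θ.symm.injective.comp ε.injective
    -- odd order lifts
    have lift3 : ∀ q : B.MB k ⧸ B.Eb k, q ^ 3 = 1 → ∃ x : B.MB k, π x = q ∧ x ^ 3 = 1 := by
      intro q hq
      obtain ⟨x, rfl⟩ := QuotientGroup.mk'_surjective (B.Eb k) q
      rw [← map_pow] at hq
      obtain ⟨i, hi, e⟩ := (QuotientGroup.eq_one_iff _).1 hq
      have h6 : x ^ 6 = 1 := by
        rw [pow_mul x 3 2, pow_two]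
        exact Subtype.ext (by show ((x ^ 3 : B.MB k) : G) * _ = 1; rw [← e, j_mul_self])
      refine ⟨x ^ 4, ?_, by rw [← pow_mul, show 4 * 3 = 6 * 2 from rfl, pow_mul, h6, one_pow]⟩
      show π (x ^ 4) = π x
      rw [show x ^ 4 = x * x ^ 3 from pow_succ' x 3, map_mul, hq, mul_one]
    have lift5 : ∀ q : B.MB k ⧸ B.Eb k, q ^ 5 = 1 → ∃ x : B.MB k, π x = q ∧ x ^ 5 = 1 := by
      intro q hq
      obtain ⟨x, rfl⟩ := QuotientGroup.mk'_surjective (B.Eb k) q
      rw [← map_pow] at hq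
      obtain ⟨i, hi, e⟩ := (QuotientGroup.eq_one_iff _).1 hq
      have h10 : x ^ 10 = 1 := by
        rw [pow_mul x 5 2, pow_two]
        exact Subtype.ext (by show ((x ^ 5 : B.MB k) : G) * _ = 1; rw [← e, j_mul_self])
      refine ⟨x ^ 6, ?_, by rw [← pow_mul, show 6 * 5 = 10 * 3 from rfl, pow_mul, h10, one_pow]⟩
      show π (x ^ 6) = π x
      rw [show x ^ 6 = x * x ^ 5 from pow_succ' x 5, map_mul, hq, mul_one]
    have rel : ∀ r ∈ ({FreeGroup.of (0 : Fin 2) ^ 3, FreeGroup.of (1 : Fin 2) ^ 5,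
        (FreeGroup.of (0 : Fin 2) * FreeGroup.of 1) ^ 2} : Set (FreeGroup (Fin 2))),
        PresentedGroup.mk {FreeGroup.of (0 : Fin 2) ^ 3, FreeGroup.of (1 : Fin 2) ^ 5,
        (FreeGroup.of (0 : Fin 2) * FreeGroup.of 1) ^ 2} r = 1 := fun r hr => PresentedGroup.one_of_mem hr
    have hx3 := rel _ (Or.inl rfl)
    have hy5 := rel _ (Or.inr (Or.inl rfl))
    have hxy2 := rel _ (Or.inr (Or.inr rfl))
    rw [map_pow] at hx3 hy5
    rw [map_pow, map_mul] at hxy2
    obtain ⟨X, hX, hX3⟩ := lift3 (T (PresentedGroup.of 0)) (by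
      rw [← map_pow]; exact (congrArg T hx3).trans (map_one T))
    obtain ⟨Y, hY, hY5⟩ := lift5 (T (PresentedGroup.of 1)) (by
      rw [← map_pow]; exact (congrArg T hy5).trans (map_one T))
    have conjInv : ∀ q : B.MB k ⧸ B.Eb k, q * q = 1 → q ≠ 1 → ∃ g, g * x1 * g⁻¹ = q := by
      intro q hq hq1
      obtain ⟨g, hg⟩ := a5_conj_inv (θ x1) (θ q) (by rw [← map_mul, (Invol.orderOf_eq_two_iff.1 hx1).2, map_one])
        (fun e => (Invol.orderOf_eq_two_iff.1 hx1).1 (θ.injective (e.trans (map_one θ).symm)))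
        (by rw [← map_mul, hq, map_one]) (fun e => hq1 (θ.injective (e.trans (map_one θ).symm)))
      exact ⟨θ.symm g, θ.injective (by rw [map_mul, map_mul, map_inv, θ.apply_symm_apply]; exact hg)⟩
    have hXY : (X * Y) ^ 2 = 1 := by
      have h2 : π (X * Y) * π (X * Y) = 1 := by
        rw [map_mul, hX, hY, ← map_mul, ← map_mul, ← pow_two]
        exact (congrArg T hxy2).trans (map_one T)
      by_cases h1 : π (X * Y) = 1
      · obtain ⟨i, hi, e⟩ := (QuotientGroup.eq_one_iff _).1 h1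
        exact Subtype.ext (by rw [pow_two]; show ((X * Y : B.MB k) : G) * _ = 1; rw [← e, j_mul_self])
      obtain ⟨g, hg⟩ := conjInv _ h2 h1
      obtain ⟨g, rfl⟩ := QuotientGroup.mk'_surjective (B.Eb k) g
      rw [← map_inv, ← map_mul, ← map_mul] at hg
      obtain ⟨i, hi, e⟩ := (pi_eq _ _).1 hg
      refine Subtype.ext ?_
      show ((X * Y : B.MB k) : G) ^ 2 = 1
      rw [e, pow_two]
      show (g : G) * B.j (blk k 1) * (g : G)⁻¹ * B.j i * ((g : G) * B.j (blk k 1) * (g : G)⁻¹ * B.j i) = 1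
      have hc' := B.mem_MB_iff.1 g.2 i hi
      have hc'' : Commute ((g : G) * B.j (blk k 1) * (g : G)⁻¹) (B.j i) :=
        (hc'.mul_left (B.j_comm _ i)).mul_left hc'.inv_left
      rw [mul_assoc, ← mul_assoc (B.j i), ← hc''.eq, mul_assoc _ (B.j i) (B.j i), j_mul_self, mul_one,
        show (g : G) * B.j (blk k 1) * (g : G)⁻¹ * ((g : G) * B.j (blk k 1) * (g : G)⁻¹)
          = (g : G) * (B.j (blk k 1) * B.j (blk k 1)) * (g : G)⁻¹ by group, j_mul_self]
      group
    let ψ0 : PresentedGroup ({FreeGroup.of (0 : Fin 2) ^ 3, FreeGroup.of (1 : Fin 2) ^ 5,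
        (FreeGroup.of (0 : Fin 2) * FreeGroup.of 1) ^ 2} : Set (FreeGroup (Fin 2))) →* B.MB k :=
      PresentedGroup.toGroup (f := ![X, Y]) (by
        intro r hr
        rcases hr with rfl | rfl | rfl
        · simpa using hX3
        · simpa using hY5
        · simpa using hXY)
    have hsec : ∀ p, π (ψ0 p) = T p := by
      have : π.comp ψ0 = T := PresentedGroup.ext fun i => by
        fin_cases i <;> simp [ψ0, hX, hY]
      exact fun p => congrArg (fun f => f p) this
    let φ : alternatingGroup (Fin 5) →* B.MB k := ψ0.comp ε.symm.toMonoidHom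
    have hφ : ∀ p, π (φ p) = θ.symm p := fun p => by
      show π (ψ0 (ε.symm p)) = _
      rw [hsec]
      show θ.symm (ε (ε.symm p)) = _
      rw [ε.apply_symm_apply]
    -- the block lies in the image
    let pv : Fin 4 → alternatingGroup (Fin 5) := fun w => θ (π (jm (blk k w)))
    have hee : ∀ w, ∃ i, comp i k = 0 ∧ (φ (pv w) : G) = B.j (blk k w) * B.j i := fun w =>
      (pi_eq (jm (blk k w)) (φ (pv w))).1 (by rw [hφ, θ.symm_apply_apply])
    choose ee hee0 hee1 using hee
    have hpv : ∀ v w, pv (x4 v w) = pv v * pv w := fun v w => by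
      show θ _ = θ _ * θ _
      rw [← map_mul, ← map_mul, jm_mul, block_facts.1]
    have e_add : ∀ v w, ee (x4 v w) = xr (ee v) (ee w) := fun v w => by
      have h1 := hee1 (x4 v w)
      rw [hpv, map_mul, Subgroup.coe_mul, hee1, hee1, j_mul, j_mul, j_mul, j_mul, ← block_facts.1] at h1
      exact xr_split (B.j_inj h1)
    have hcφ : (φ (θ (π cM)) : G) = c := by
      obtain ⟨i, hi, e⟩ := (pi_eq cM (φ (θ (π cM)))).1 (by rw [hφ, θ.symm_apply_apply])
      change (φ (θ (π cM)) : G) = c * B.j i at e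
      have h1 : ((φ (θ (π cM)) : B.MB k) : G) ^ 3 = 1 := by
        rw [← Subgroup.coe_pow, ← map_pow, ← map_pow, ← map_pow,
          show cM ^ 3 = 1 from Subtype.ext hc3, map_one, map_one, map_one]
        rfl
      rw [e, (B.mem_MB_iff.1 hc i hi).mul_pow, hc3, one_mul, pow_succ, pow_two, j_mul_self, one_mul] at h1
      rw [e, h1, mul_one]
    have e_rot : ∀ w, ee (rot3 w) = ee w := fun w => by
      have hp : pv (rot3 w) = θ (π cM) * pv w * (θ (π cM))⁻¹ := by
        show θ _ = θ _ * θ _ * (θ _)⁻¹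
        rw [← map_inv, ← map_mul, ← map_mul, hpc]
      have h1 := hee1 (rot3 w)
      rw [hp, map_mul, map_mul, map_inv, Subgroup.coe_mul, Subgroup.coe_mul, Subgroup.coe_inv, hee1,
        hcφ] at h1
      have hc' := B.mem_MB_iff.1 hc (ee w) (hee0 w)
      rw [← mul_assoc, show c * B.j (blk k w) * B.j (ee w) * c⁻¹
        = c * B.j (blk k w) * c⁻¹ * (c * B.j (ee w) * c⁻¹) by group, hrot, hc'.eq,
        mul_inv_cancel_right, j_mul, j_mul] at h1
      exact xr_left_cancel (B.j_inj h1)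
    have e_zero : ∀ w, ee w = 0 := by
      have h3 : ee 3 = xr (ee 1) (ee 2) := by
        rw [← e_add]; congr 1
      have r1 : ee 2 = ee 1 := by rw [← e_rot 1]; congr 1
      have r2 : ee 3 = ee 2 := by rw [← e_rot 2]; congr 1
      have z0 : ee 0 = 0 := by
        have := e_add 0 0
        rw [xr_self] at this
        exact this
      rw [r2, r1, xr_self] at h3
      intro w
      rcases (by decide : ∀ w : Fin 4, w = 0 ∨ w = 1 ∨ w = 2 ∨ w = 3) w with rfl | rfl | rfl | rfl
      · exact z0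
      · exact h3
      · rw [r1]; exact h3
      · rw [r2, r1]; exact h3
    have pv_inj : Function.Injective pv := fun v w e => hinj v w (θ.injective e)
    have pv0 : pv 0 = 1 := by
      show θ _ = 1
      rw [block_facts.2.2.1, show jm 0 = 1 from Subtype.ext B.j_zero, map_one, map_one]
    have pv_sq : ∀ w, pv w * pv w = 1 := fun w => by
      rw [← hpv, show x4 w w = 0 from (by decide : ∀ w, x4 w w = 0) w, pv0]
    obtain ⟨s, hs1, hs2⟩ := a5_conj_four (pv 1) (pv 2) (pv_sq 1) (fun e => absurd (pv_inj (e.trans pv0.symm)) (by decide))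
      (pv_sq 2) (fun e => absurd (pv_inj (e.trans pv0.symm)) (by decide)) (pv_inj.ne (by decide))
      (by rw [← hpv, ← hpv]; congr 1)
    let al : MulAut (alternatingGroup (Fin 5)) := MulAut.conjNormal s
    refine ⟨((B.MB k).subtype.comp φ).comp al.toMonoidHom, ?_, fun p => (φ (al p)).2, ?_, ?_, ?_⟩
    · intro p q e
      have := congrArg π (Subtype.ext e : φ (al p) = φ (al q))
      rw [hφ, hφ] at this
      exact al.injective (θ.symm.injective this)
    · intro x hx
      obtain ⟨i, hi, e⟩ := (pi_eq (φ (θ (π ⟨x, hx⟩))) ⟨x, hx⟩).1 (by rw [hφ, θ.symm_apply_apply])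
      refine ⟨i, al.symm (θ (π ⟨x, hx⟩)), hi, ?_⟩
      show x = B.j i * (φ (al (al.symm _)) : G)
      rw [al.apply_symm_apply, ← (B.mem_MB_iff.1 (φ _).2 i hi).eq]
      exact e
    · intro i p hi e
      have h1 : φ (al p) ∈ B.Eb k := ⟨i, hi, e⟩
      have h2 : π (φ (al p)) = 1 := (QuotientGroup.eq_one_iff _).2 h1
      rw [hφ] at h2
      exact al.injective ((θ.symm.injective (h2.trans (map_one θ.symm).symm)).trans (map_one al).symm)
    · intro w p hp
      have hd : ∀ w : Fin 4, w = 0 ∨ w = 1 ∨ w = 2 ∨ w = 3 := by decide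
      have h12 : dtP 5 3 = dtP 5 1 * dtP 5 2 := by decide +kernel
      have hv : (al p : Equiv.Perm (Fin 5)) = pv w := by
        rw [MulAut.conjNormal_apply, hp]
        rcases hd w with rfl | rfl | rfl | rfl
        · rw [pv0]; show s * 1 * s⁻¹ = 1; group
        · exact hs1
        · exact hs2
        · rw [show (3 : Fin 4) = x4 1 2 by decide, hpv, Subgroup.coe_mul, ← hs1, ← hs2,
            show dtP 5 (x4 1 2) = dtP 5 1 * dtP 5 2 by exact h12]
          group
      show (φ (al p) : G) = _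
      rw [show al p = pv w from Subtype.ext hv, hee1, e_zero, j_zero, mul_one]

end Setup

end Cfsg.Agent.A12Type
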