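import Cfsg.Agent.A12Type.MBlock

/-!
The degree of the alternating factor is the same for the three blocks.
-/

set_option autoImplicit false
set_option maxRecDepth 100000

namespace Cfsg.Agent.A12Type

open Subgroup

theorem act_blocks :
    (∀ i : Fin 64, comp ((actTab 2).getD i.val 0) 0 = comp i 1 ∧ comp ((actTab 2).getD i.val 0) 1 = comp i 0 ∧
      comp ((actTab 3).getD i.val 0) 1 = comp i 2 ∧ comp ((actTab 3).getD i.val 0) 2 = comp i 1) ∧
    (∀ g : Fin 4, ∀ i : Fin 64, (actTab g).getD ((actTab g).getD i.val 0).val 0 = i) := by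
  decide +kernel

namespace Setup

variable {G : Type*} [Group G] [Finite G] (B : Setup G)

theorem nG_sq (g : Fin 4) : B.nG g * B.nG g = 1 := by
  rw [nG, ← map_mul, ← map_one B.f]
  exact congrArg B.f (Subtype.ext ((by decide +kernel : ∀ g, actP g * actP g = 1) g))

theorem nG_inv (g : Fin 4) : (B.nG g)⁻¹ = B.nG g := inv_eq_of_mul_eq_one_right (B.nG_sq g)

/-- A block permutation carries the centralizer of two blocks to that of two blocks. -/
theorem conj_nG_mem_MB {g : Fin 4} {k k' : Fin 3}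
    (hk : ∀ i : Fin 64, comp ((actTab g).getD i.val 0) k = comp i k') {x : G} (hx : x ∈ B.MB k) :
    B.nG g * x * (B.nG g)⁻¹ ∈ B.MB k' := by
  refine B.mem_MB_iff.2 fun i hi => ?_
  have hc := B.mem_MB_iff.1 hx ((actTab g).getD i.val 0) (by rw [hk]; exact hi)
  rw [← nG_j] at hc
  show B.nG g * x * (B.nG g)⁻¹ * B.j i = B.j i * (B.nG g * x * (B.nG g)⁻¹)
  have h2 : (B.nG g)⁻¹ * B.j i * B.nG g = B.nG g * B.j i * (B.nG g)⁻¹ := by simp only [nG_inv]
  calc B.nG g * x * (B.nG g)⁻¹ * B.j i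
      = B.nG g * (x * ((B.nG g)⁻¹ * B.j i * B.nG g)) * (B.nG g)⁻¹ := by group
    _ = B.nG g * ((B.nG g)⁻¹ * B.j i * B.nG g * x) * (B.nG g)⁻¹ := by rw [h2, hc.eq]
    _ = _ := by group

/-- The centralizers of two blocks have the same type. -/
theorem not_split_four_five {g : Fin 4} {k k' : Fin 3}
    (hk : ∀ i : Fin 64, comp ((actTab g).getD i.val 0) k = comp i k')
    {ψ : alternatingGroup (Fin 4) →* G} (hψ : B.Split k' 4 ψ)
    {ψ' : alternatingGroup (Fin 5) →* G} (hψ' : B.Split k 5 ψ') : False := by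
  obtain ⟨p, hp1, hp5⟩ : ∃ p : alternatingGroup (Fin 5), p ≠ 1 ∧ p ^ 5 = 1 := by
    have : Fact (Nat.Prime 5) := ⟨by norm_num⟩
    obtain ⟨p, hp⟩ := exists_prime_orderOf_dvd_card' (G := alternatingGroup (Fin 5)) 5 (by
      rw [nat_card_alternatingGroup, Nat.card_fin]; decide)
    exact ⟨p, fun e => by simp [e] at hp, orderOf_dvd_iff_pow_eq_one.1 (by rw [hp])⟩
  have hy5 : (B.nG g * ψ' p * (B.nG g)⁻¹) ^ 5 = 1 := by
    rw [conj_pow, ← map_pow, hp5, map_one, mul_one, mul_inv_cancel]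
  obtain ⟨i, q, hi, e⟩ := hψ.span _ (B.conj_nG_mem_MB hk (hψ'.le p))
  have h5 : B.j i ^ 5 = B.j i := by
    rw [show (5 : ℕ) = 2 * 2 + 1 from rfl, pow_add, pow_mul, pow_two (B.j i), j_mul_self, one_pow,
      one_mul, pow_one]
  rw [e, (B.mem_MB_iff.1 (hψ.le q) i hi).symm.mul_pow, h5, ← map_pow] at hy5
  have hq : q ^ 5 = 1 := inv_eq_one.1 (hψ.disj i (q ^ 5)⁻¹ hi (by
    rw [map_inv]; exact eq_inv_of_mul_eq_one_left hy5))
  have hq1 : q = 1 := (by decide +kernel : ∀ q : alternatingGroup (Fin 4), q ^ 5 = 1 → q = 1) q hq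
  rw [hq1, map_one, mul_one] at e
  apply hp1
  have h2 : p * p = 1 := hψ'.inj (by
    rw [map_mul, map_one]
    calc ψ' p * ψ' p = (B.nG g)⁻¹ * (B.nG g * ψ' p * (B.nG g)⁻¹ * (B.nG g * ψ' p * (B.nG g)⁻¹)) * B.nG g := by
          group
      _ = 1 := by rw [e, j_mul_self]; group)
  calc p = (p ^ 2) ^ 2 * p := by rw [pow_two p, h2, one_pow, one_mul]
    _ = p ^ 5 := by rw [← pow_mul, ← pow_succ]
    _ = 1 := hp5

theorem split_uniform (h : B.PatA) :
    (∀ k, ∃ ψ, B.Split k 4 ψ) ∨ ∀ k, ∃ ψ, B.Split k 5 ψ := by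
  have a : ∀ i : Fin 64, comp ((actTab 2).getD i.val 0) 0 = comp i 1 := fun i => (act_blocks.1 i).1
  have a' : ∀ i : Fin 64, comp ((actTab 2).getD i.val 0) 1 = comp i 0 := fun i => (act_blocks.1 i).2.1
  have b : ∀ i : Fin 64, comp ((actTab 3).getD i.val 0) 1 = comp i 2 := fun i => (act_blocks.1 i).2.2.1
  have b' : ∀ i : Fin 64, comp ((actTab 3).getD i.val 0) 2 = comp i 1 := fun i => (act_blocks.1 i).2.2.2
  rcases B.exists_split h 0 with ⟨ψ0, h0⟩ | ⟨ψ0, h0⟩ <;>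
    rcases B.exists_split h 1 with ⟨ψ1, h1⟩ | ⟨ψ1, h1⟩ <;>
      rcases B.exists_split h 2 with ⟨ψ2, h2⟩ | ⟨ψ2, h2⟩
  all_goals first
    | exact (B.not_split_four_five a' h0 h1).elim
    | exact (B.not_split_four_five a h1 h0).elim
    | exact (B.not_split_four_five b' h1 h2).elim
    | exact (B.not_split_four_five b h2 h1).elim
    | (left; intro k; fin_cases k <;> first | exact ⟨_, h0⟩ | exact ⟨_, h1⟩ | exact ⟨_, h2⟩)
    | (right; intro k; fin_cases k <;> first | exact ⟨_, h0⟩ | exact ⟨_, h1⟩ | exact ⟨_, h2⟩)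

end Setup

end Cfsg.Agent.A12Type
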