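import Cfsg.Agent.A12Type.Code

/-!
The elementary abelian subgroup of order sixty-four of the centralizer, and its Sylow 2-subgroup.
-/

set_option autoImplicit false
set_option maxRecDepth 100000

namespace Cfsg.Agent.A12Type

open Equiv Subgroup

local notation "sw" => fun (a b : Fin 12) => Equiv.swap a b

theorem mem_C12 {x : Perm (Fin 12)} (h : Perm.sign x = 1) (hc : ∀ i, x (tcP i) = tcP (x i)) :
    x ∈ C12 :=
  Subgroup.mem_inf.2 ⟨Perm.mem_alternatingGroup.2 h,
    mem_centralizer_singleton_iff.2 (Equiv.ext hc)⟩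

/-- The flips of the blocks. -/
def eP : Fin 3 → Perm (Fin 12) :=
  ![sw 0 1 * sw 2 3, sw 4 5 * sw 6 7, sw 8 9 * sw 10 11]

/-- The swaps of the two pairs of a block. -/
def fP : Fin 3 → Perm (Fin 12) :=
  ![sw 0 2 * sw 1 3, sw 4 6 * sw 5 7, sw 8 10 * sw 9 11]

/-- The remaining generators of the Sylow subgroup. -/
def hP : Fin 3 → Perm (Fin 12) :=
  ![sw 0 1 * sw 4 5, sw 0 1 * sw 8 9, sw 0 4 * sw 1 5 * (sw 2 6 * sw 3 7)]

/-- The elementary abelian subgroup, by the index whose bit `2k` is the flip and bit `2k+1` the swap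
of the block `k`. -/
def elP (j : Fin 64) : Perm (Fin 12) :=
  eP 0 ^ (j.val % 2) * fP 0 ^ (j.val / 2 % 2) *
    (eP 1 ^ (j.val / 4 % 2) * fP 1 ^ (j.val / 8 % 2)) *
      (eP 2 ^ (j.val / 16 % 2) * fP 2 ^ (j.val / 32 % 2))

/-- The codes of the flips and swaps. -/
def gcode : List ℕ := [enc (eP 0), enc (fP 0), enc (eP 1), enc (fP 1), enc (eP 2), enc (fP 2)]

theorem gen_mem : (∀ k, eP k ∈ C12) ∧ (∀ k, fP k ∈ C12) ∧ ∀ k, hP k ∈ C12 := by
  have h : (∀ k, (∀ i, eP k (tcP i) = tcP (eP k i)) ∧ (∀ i, fP k (tcP i) = tcP (fP k i)) ∧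
      ∀ i, hP k (tcP i) = tcP (hP k i)) ∧
      ∀ k, Perm.sign (eP k) = 1 ∧ Perm.sign (fP k) = 1 ∧ Perm.sign (hP k) = 1 := by
    refine ⟨by decide +kernel, ?_⟩
    intro k
    fin_cases k <;>
      simp [eP, fP, hP, Perm.sign_mul, Perm.sign_swap, Fin.ext_iff]
  exact ⟨fun k => mem_C12 (h.2 k).1 (h.1 k).1, fun k => mem_C12 (h.2 k).2.1 (h.1 k).2.1,
    fun k => mem_C12 (h.2 k).2.2 (h.1 k).2.2⟩

theorem elP_mem (j : Fin 64) : elP j ∈ C12 :=
  mul_mem (mul_mem (mul_mem (pow_mem (gen_mem.1 0) _) (pow_mem (gen_mem.2.1 0) _))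
    (mul_mem (pow_mem (gen_mem.1 1) _) (pow_mem (gen_mem.2.1 1) _)))
    (mul_mem (pow_mem (gen_mem.1 2) _) (pow_mem (gen_mem.2.1 2) _))

/-- An element of the elementary abelian subgroup. -/
def el (j : Fin 64) : C12 := ⟨elP j, elP_mem j⟩

/-- The sum of two indices. -/
def xr (i j : Fin 64) : Fin 64 := Fin.ofNat 64 (i.val ^^^ j.val)

/-- The codes of the elementary abelian subgroup. -/
def jcodes : List ℕ :=
  (List.range 64).map fun n => enc (elP (Fin.ofNat 64 n))

theorem elc_facts :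
    ((List.range 64).all fun i => (List.range 64).all fun j =>
      mulc (jcodes.getD i 0) (jcodes.getD j 0) == jcodes.getD (i ^^^ j) 0) = true ∧
    jcodes.Nodup ∧ jcodes.getD 0 0 = onec ∧ jcodes.getD 21 0 = enc tcP ∧
    (centCodes gcode).all (fun c => decide (c ∈ jcodes)) = true := by
  decide +kernel

theorem getD_jcodes {n : ℕ} (hn : n < 64) : jcodes.getD n 0 = enc (elP (Fin.ofNat 64 n)) := by
  simp [jcodes, hn]

theorem enc_elP (j : Fin 64) : enc (elP j) = jcodes.getD j.val 0 := by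
  rw [getD_jcodes j.isLt]
  congr
  exact Fin.ext (by simp [Nat.mod_eq_of_lt j.isLt])

theorem el_mul (i j : Fin 64) : el i * el j = el (xr i j) := by
  refine Subtype.ext (enc_inj (el i * el j).2 (elP_mem _) ?_)
  show enc (elP i * elP j) = enc (elP (xr i j))
  rw [enc_mul (elP_mem i) (elP_mem j), enc_elP, enc_elP, enc_elP]
  have h := List.all_eq_true.1 (List.all_eq_true.1 elc_facts.1 _ (List.mem_range.2 i.isLt)) _
    (List.mem_range.2 j.isLt)
  rw [beq_iff_eq] at h
  rw [h]
  congr 1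
  simp only [xr, Fin.val_ofNat]
  exact (Nat.mod_eq_of_lt (Nat.xor_lt_two_pow (n := 6) i.isLt j.isLt)).symm

theorem el_zero : el 0 = 1 := Subtype.ext (enc_inj (elP_mem 0) (one_mem _)
  (by show enc (elP 0) = enc 1; rw [enc_elP, enc_one]; exact elc_facts.2.2.1))

theorem el_inj : Function.Injective el := by
  intro i j h
  have he : jcodes.getD i.val 0 = jcodes.getD j.val 0 := by
    rw [← enc_elP, ← enc_elP]
    exact congrArg (fun x : C12 => enc (x : Perm (Fin 12))) h
  have hl : jcodes.length = 64 := by simp [jcodes]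
  refine Fin.ext ((List.Nodup.getElem_inj_iff elc_facts.2.1 (hi := by omega) (hj := by omega)).1 ?_)
  rwa [List.getD_eq_getElem?_getD, List.getD_eq_getElem?_getD, List.getElem?_eq_getElem (by omega),
    List.getElem?_eq_getElem (by omega), Option.getD_some, Option.getD_some] at he

theorem tcP_mem : tcP ∈ C12 := by
  refine mem_C12 ?_ (fun i => rfl)
  simp [Perm.sign_mul]

/-- The central involution. -/
def tc : C12 := ⟨tcP, tcP_mem⟩

theorem el_tc : el 21 = tc := Subtype.ext (enc_inj (elP_mem 21) tcP_mem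
  (by show enc (elP 21) = enc tcP; rw [enc_elP]; exact elc_facts.2.2.2.1))

theorem tc_central (x : C12) : Commute tc x :=
  Subtype.ext (mem_centralizer_singleton_iff.1 (Subgroup.mem_inf.1 x.2).2).symm

/-- The elementary abelian subgroup. -/
def J12 : Subgroup C12 where
  carrier := Set.range el
  one_mem' := ⟨0, el_zero⟩
  mul_mem' := by rintro _ _ ⟨i, rfl⟩ ⟨j, rfl⟩; exact ⟨_, (el_mul i j).symm⟩
  inv_mem' := by
    rintro _ ⟨i, rfl⟩
    refine ⟨i, ?_⟩
    rw [eq_inv_iff_mul_eq_one, el_mul, ← el_zero]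
    congr 1
    simp [xr]

theorem el_mem (j : Fin 64) : el j ∈ J12 := ⟨j, rfl⟩

theorem card_J12 : Nat.card J12 = 64 := by
  rw [show Nat.card J12 = Nat.card (Set.range el) from rfl, Nat.card_range_of_injective el_inj,
    Nat.card_eq_fintype_card, Fintype.card_fin]

theorem xr_self : ∀ i : Fin 64, xr i i = 0 := fun i => Fin.ext (by simp [xr])

theorem xr_comm (i j : Fin 64) : xr i j = xr j i := by rw [xr, xr, Nat.xor_comm]

theorem el_comm (i j : Fin 64) : Commute (el i) (el j) := by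
  show el i * el j = el j * el i
  rw [el_mul, el_mul, xr_comm]

/-- The elementary abelian subgroup is its own centralizer. -/
theorem mem_J12_of_commute {x : C12} (h : ∀ j, Commute x (el j)) : x ∈ J12 := by
  have hg : ∀ g ∈ gcode, ∃ y ∈ C12, enc y = g ∧ Commute (x : Perm (Fin 12)) y := by
    intro g hg
    have hk : g ∈ [enc (elP 1), enc (elP 2), enc (elP 4), enc (elP 8), enc (elP 16), enc (elP 32)] := by
      have : gcode = [enc (elP 1), enc (elP 2), enc (elP 4), enc (elP 8), enc (elP 16),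
          enc (elP 32)] := by decide +kernel
      rwa [this] at hg
    simp only [List.mem_cons, List.not_mem_nil, or_false] at hk
    rcases hk with rfl | rfl | rfl | rfl | rfl | rfl <;>
      exact ⟨_, elP_mem _, rfl, congrArg Subtype.val (h _)⟩
  have h1 := of_decide_eq_true (List.all_eq_true.1 elc_facts.2.2.2.2 _ (mem_centCodes x.2 hg))
  simp only [jcodes, List.mem_map, List.mem_range] at h1
  obtain ⟨n, -, hn⟩ := h1
  exact ⟨Fin.ofNat 64 n, Subtype.ext (enc_inj (elP_mem _) x.2 hn)⟩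

end Cfsg.Agent.A12Type
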