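import Cfsg.Agent.A12Type.NCent
import Cfsg.Agent.A12Type.MBlockUniform

/-!
The degree of the centralizer of one block is eight when the centralizers of two blocks have
degree four, and nine when they have degree five.
-/

set_option autoImplicit false
set_option maxRecDepth 100000

namespace Cfsg.Agent.A12Type

open Equiv Subgroup Cent32

/-- The second block on nine points. -/
def b1P : Fin 4 → Perm (Fin 9) :=
  ![1, Equiv.swap 4 5 * Equiv.swap 6 7, Equiv.swap 4 6 * Equiv.swap 5 7, Equiv.swap 4 7 * Equiv.swap 5 6]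

/-- A five-cycle on the first block and the ninth point. -/
def p59 : Perm (Fin 9) := Equiv.swap 0 1 * Equiv.swap 1 2 * Equiv.swap 2 3 * Equiv.swap 3 8

theorem ndeg_tab :
    (∀ n : Fin 4, Perm.sign (b1P n) = 1 ∧ p59 * b1P n = b1P n * p59 ∧
      (∀ i : Fin 12, 8 ≤ i.val → elP (blk 1 n) i = i) ∧
      (∀ i : Fin 9, ∀ k : Fin 12, i.val < 8 → k.val = i.val → (b1P n i).val = (elP (blk 1 n) k).val) ∧
      ∀ i : Fin 9, 8 ≤ i.val → b1P n i = i) ∧
    (Perm.sign p59 = 1 ∧ p59 ^ 5 = 1 ∧ p59 * p59 ≠ 1) ∧ blk 1 1 = 4 ∧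
    (∀ i : Fin 8, ∀ k : Fin 12, k.val = i.val → (V.toP V.dB i).val = (elP (blk 1 1) k).val) ∧
    ∀ q : alternatingGroup (Fin 4), q ^ 5 = 1 → q = 1 := by
  refine ⟨?_, ?_, ?_, ?_, ?_⟩ <;> decide +kernel

namespace Setup

variable {G : Type*} [Group G] [Finite G] (B : Setup G)

/-- A centralizer of two blocks of degree four has no element of order five. -/
theorem sq_eq_one_of_split_four {k : Fin 3} {ψ : alternatingGroup (Fin 4) →* G} (hψ : B.Split k 4 ψ)
    {y : G} (hy : y ∈ B.MB k) (h5 : y ^ 5 = 1) : y * y = 1 := by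
  obtain ⟨i, q, hi, e⟩ := hψ.span _ hy
  have hj5 : B.j i ^ 5 = B.j i := by
    rw [show (5 : ℕ) = 2 * 2 + 1 from rfl, pow_add, pow_mul, pow_two (B.j i), j_mul_self, one_pow,
      one_mul, pow_one]
  rw [e, (B.mem_MB_iff.1 (hψ.le q) i hi).symm.mul_pow, hj5, ← map_pow] at h5
  have hq : q ^ 5 = 1 := inv_eq_one.1 (hψ.disj i (q ^ 5)⁻¹ hi (by
    rw [map_inv]; exact eq_inv_of_mul_eq_one_left h5))
  rw [e, ndeg_tab.2.2.2.2 q hq, map_one, mul_one, j_mul_self]

/-- The degree of the centralizer of one block. -/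
theorem ndata_degree {m : ℕ} (th : alternatingGroup (Fin m) →* G) (hm : m = 8 ∨ m = 9)
    (hth : Function.Injective th) (hle : th.range ≤ B.NB 2)
    (hcov : ∀ x : G, x ∈ B.NB 2 → ∃ n p, x = B.j (blk 2 n) * th p)
    (hag : ∀ (x : C12) (p : alternatingGroup (Fin m)),
      (∀ i : Fin 12, 8 ≤ i.val → (x : Perm (Fin 12)) i = i) →
      (∀ (i : Fin m) (k : Fin 12), i.val < 8 → k.val = i.val →
        ((p : Perm (Fin m)) i).val = ((x : Perm (Fin 12)) k).val) →
      (∀ i : Fin m, 8 ≤ i.val → (p : Perm (Fin m)) i = i) → th p = B.f x) :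
    ((∀ k, ∃ ψ, B.Split k 4 ψ) → m = 8) ∧ ((∀ k, ∃ ψ, B.Split k 5 ψ) → m = 9) := by
  rcases hm with rfl | rfl
  · refine ⟨fun _ => rfl, fun h5 => ?_⟩
    exfalso
    obtain ⟨ψ, hψ⟩ := h5 0
    obtain ⟨p, hp⟩ : ∃ p : alternatingGroup (Fin 5), orderOf p = 5 := by
      have : Fact (Nat.Prime 5) := ⟨by norm_num⟩
      exact exists_prime_orderOf_dvd_card' 5 (by rw [nat_card_alternatingGroup, Nat.card_fin]; decide)
    have hMB : ∀ (l : Fin 3) (n : Fin 4), l ≠ 0 → Commute (ψ p) (B.j (blk l n)) := fun l n hl =>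
      (mem_centralizer_iff.1 (hψ.le p) _ ⟨l, n, hl, rfl⟩).symm
    obtain ⟨n, σ, e⟩ := hcov (ψ p) (mem_centralizer_iff.2 (by
      rintro _ ⟨n, rfl⟩; exact (hMB 2 n (by decide)).eq.symm))
    have hsq : ψ p * ψ p = th (σ * σ) := by
      have hc : Commute (B.j (blk 2 n)) (th σ) := mem_centralizer_iff.1 (hle ⟨σ, rfl⟩) _ ⟨n, rfl⟩
      rw [e, hc.symm.mul_mul_mul_comm, j_mul_self, one_mul, map_mul]
    let d : alternatingGroup (Fin 8) := ⟨V.toP V.dB, Perm.mem_alternatingGroup.2 (V_even _)⟩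
    have hd : th d = B.j (blk 1 1) := hag (el (blk 1 1)) d (ndeg_tab.1 1).2.2.1
      (fun i k _ hk => ndeg_tab.2.2.2.1 i k hk) (fun i hi => absurd i.isLt (not_lt.2 hi))
    have hc2 : σ * σ * d = d * (σ * σ) := hth (by
      rw [map_mul th (σ * σ) d, map_mul th d (σ * σ), hd, ← hsq]
      exact ((hMB 1 1 (by decide)).mul_left (hMB 1 1 (by decide))).eq)
    have hτ5 : (σ * σ) ^ 5 = 1 := hth (by
      rw [map_pow, ← hsq, map_one, ← pow_two, ← pow_mul, mul_comm, pow_mul, ← map_pow,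
        orderOf_dvd_iff_pow_eq_one.1 (show orderOf p ∣ 5 by rw [hp]), map_one, one_pow])
    have h1 : σ * σ = 1 := Subtype.ext (five_cent
      (by rw [← SubgroupClass.coe_pow, hτ5]; rfl) (congrArg Subtype.val hc2))
    have hpp : p ^ 2 = 1 := hψ.inj (by rw [pow_two, map_mul, hsq, h1, map_one, map_one])
    have := orderOf_dvd_of_pow_eq_one hpp
    rw [hp] at this
    omega
  · refine ⟨fun h4 => ?_, fun _ => rfl⟩
    exfalso
    obtain ⟨ψ, hψ⟩ := h4 0
    obtain ⟨s1, s5, s2⟩ := ndeg_tab.2.1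
    let P : alternatingGroup (Fin 9) := ⟨p59, Perm.mem_alternatingGroup.2 s1⟩
    have hP : th P ∈ B.MB 0 := by
      refine mem_centralizer_iff.2 ?_
      rintro _ ⟨l, n, hl, rfl⟩
      rcases (by omega : l.val = 1 ∨ l.val = 2) with e | e
      · obtain rfl : l = 1 := Fin.ext e
        obtain ⟨t1, t2, t3, t4, t5⟩ := ndeg_tab.1 n
        let q : alternatingGroup (Fin 9) := ⟨b1P n, Perm.mem_alternatingGroup.2 t1⟩
        have hq : th q = B.j (blk 1 n) := hag (el (blk 1 n)) q t3 t4 t5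
        rw [← hq, ← map_mul, ← map_mul, show q * P = P * q from Subtype.ext t2.symm]
      · obtain rfl : l = 2 := Fin.ext e
        exact mem_centralizer_iff.1 (hle ⟨P, rfl⟩) _ ⟨n, rfl⟩
    have hy5 : th P ^ 5 = 1 := by
      rw [← map_pow, show P ^ 5 = 1 from Subtype.ext s5, map_one]
    have hPP : P * P = 1 := hth (by rw [map_mul, B.sq_eq_one_of_split_four hψ hP hy5, map_one])
    exact s2 (congrArg Subtype.val hPP)

/-- The centralizer of one block, with its degree given by the centralizers of two blocks. -/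
theorem ndata' (h : B.PatA) :
    ∃ (m : ℕ) (th : alternatingGroup (Fin m) →* G),
      (m = 8 ∧ (∀ k, ∃ ψ, B.Split k 4 ψ) ∨ m = 9 ∧ ∀ k, ∃ ψ, B.Split k 5 ψ) ∧
      Function.Injective th ∧ th.range ≤ B.NB 2 ∧
      (∀ x : G, x ∈ B.NB 2 → ∃ n p, x = B.j (blk 2 n) * th p) ∧
      ∀ (x : C12) (p : alternatingGroup (Fin m)),
        (∀ i : Fin 12, 8 ≤ i.val → (x : Perm (Fin 12)) i = i) →
        (∀ (i : Fin m) (k : Fin 12), i.val < 8 → k.val = i.val →
          ((p : Perm (Fin m)) i).val = ((x : Perm (Fin 12)) k).val) →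
        (∀ i : Fin m, 8 ≤ i.val → (p : Perm (Fin m)) i = i) → th p = B.f x := by
  obtain ⟨m, th, hm, hi, hle, hcov, hag⟩ := B.ndata h
  refine ⟨m, th, ?_, hi, hle, hcov, hag⟩
  obtain ⟨h8, h9⟩ := B.ndata_degree th hm hi hle hcov hag
  rcases B.split_uniform h with h4 | h5
  · exact Or.inl ⟨h8 h4, h4⟩
  · exact Or.inr ⟨h9 h5, h5⟩

end Setup

end Cfsg.Agent.A12Type
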