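import Cfsg.Agent.A12Type.NModel
import Cfsg.Agent.Cent32.HomTab
import Cfsg.Agent.A12Type.Model

/-!
The model of order 192 inside the alternating groups on eight, nine and twelve points.
-/

set_option autoImplicit false
set_option maxRecDepth 100000

namespace Cfsg.Agent.A12Type

open Equiv Cent32

/-- The value of the image of a model element at a point of twelve. -/
def fun12 (v : V) (i : Fin 12) : Fin 12 :=
  if h : i.val < 8 then Fin.castLE (by norm_num) (V.act v ⟨i.val, h⟩) else i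

theorem le812 : 8 ≤ 12 := by norm_num

theorem ext8_fun12 (v : V) (i : Fin 12) : ext8 le812 (V.toP v) i = fun12 v i := by
  by_cases h : i.val < 8
  · rw [ext8_lt _ _ h, fun12, dif_pos h]; rfl
  · rw [ext8_ge _ _ (not_lt.1 h), fun12, dif_neg h]

theorem fun12_tc : ∀ (v : V) (i : Fin 12), fun12 v (tcP i) = tcP (fun12 v i) := by decide +kernel

/-- The model in the centralizer of the product of six transpositions. -/
noncomputable def lift12 : V →* C12 :=
  ((ext8 le812).comp V.perm).codRestrict C12 fun v => by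
    refine mem_C12 ?_ fun i => ?_
    · show Perm.sign (ext8 le812 (V.toP v)) = 1
      rw [sign_ext8, V_even]
    · show ext8 le812 (V.toP v) (tcP i) = tcP (ext8 le812 (V.toP v) i)
      rw [ext8_fun12, ext8_fun12, fun12_tc]

theorem lift12_apply (v : V) (i : Fin 12) : (lift12 v : Perm (Fin 12)) i = fun12 v i :=
  ext8_fun12 v i

theorem lift12_tab : (∀ i, fun12 V.zV i = elP 5 i) ∧ (∀ i, fun12 uV i = elP 1 i) ∧
    (∀ i, fun12 aV1 i = elP 2 i) ∧ (∀ i, fun12 cV1 i = elP 8 i) ∧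
    (∀ i, fun12 (aV1 * uV) i = elP 3 i) ∧ (∀ i, fun12 (aV1 * cV1) i = elP 10 i) ∧
    (∀ n : Fin 4, (∀ i : Fin 12, i.val < 8 → elP (Fin.ofNat 64 (n.val * 4 ^ 2)) i = i) ∧
      (∀ i : Fin 12, 8 ≤ i.val → 8 ≤ (elP (Fin.ofNat 64 (n.val * 4 ^ 2)) i).val) ∧
      (n ≠ 0 → elP (Fin.ofNat 64 (n.val * 4 ^ 2)) 8 ≠ 8) ∧
      elP (Fin.ofNat 64 (n.val * 4 ^ 2)) 8 = ![8, 9, 10, 11] n) ∧
    (∀ i : Fin 12, 8 ≤ i.val → ∃ n : Fin 4, elP (Fin.ofNat 64 (n.val * 4 ^ 2)) 8 = i) ∧
    (∀ i : Fin 12, i.val < 8 → ∃ k : Fin 4, elP 16 i = i ∧ elP 32 i = i ∧ k = 0) ∧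
    (∀ i : Fin 12, 8 ≤ i.val → elP 16 i ≠ i) ∧
    (∀ i : Fin 12, i.val < 8 → elP 5 i ≠ i) := by
  refine ⟨?_, ?_, ?_, ?_, ?_, ?_, ?_, ?_, ?_, ?_, ?_⟩ <;> decide +kernel

theorem lift12_el : lift12 V.zV = el 5 ∧ lift12 uV = el 1 ∧ lift12 aV1 = el 2 ∧ lift12 cV1 = el 8 ∧
    lift12 (aV1 * uV) = el 3 ∧ lift12 (aV1 * cV1) = el 10 := by
  obtain ⟨h1, h2, h3, h4, h5, h6, -⟩ := lift12_tab
  refine ⟨?_, ?_, ?_, ?_, ?_, ?_⟩ <;> refine Subtype.ext (Equiv.ext fun i => ?_) <;>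
    rw [lift12_apply]
  exacts [h1 i, h2 i, h3 i, h4 i, h5 i, h6 i]

theorem lift12_inj : Function.Injective lift12 := fun _ _ h =>
  V.toP_inj (ext8_inj le812 (congrArg Subtype.val h :))

theorem quad_table : ∀ a : Fin 8, ∀ b : Fin 8, b.val / 2 ≠ a.val / 2 → ∀ c : Fin 8,
    c.val / 2 ≠ a.val / 2 → c.val / 2 ≠ b.val / 2 → ∀ d : Fin 8, d.val / 2 ≠ a.val / 2 →
    d.val / 2 ≠ b.val / 2 → d.val / 2 ≠ c.val / 2 → ∃ (v : V) (e : Bool),
      let π : Fin 8 → Fin 8 := fun k => V.act v (cond e (Equiv.swap (0 : Fin 8) 1 k) k)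
      π 0 = a ∧ π 2 = b ∧ π 4 = c ∧ π 6 = d := by
  decide +kernel

theorem z8_facts : (∀ i : Fin 8, (z8 i).val / 2 = i.val / 2 ∧ z8 i ≠ i ∧ z8 (z8 i) = i) ∧
    (∀ i j : Fin 8, i.val / 2 = j.val / 2 → j = i ∨ j = z8 i) ∧
    (∀ i : Fin 8, ∃ k ∈ ([0, 2, 4, 6] : List (Fin 8)), i = k ∨ i = z8 k) ∧
    (∀ k, z8 (Equiv.swap (0 : Fin 8) 1 k) = Equiv.swap (0 : Fin 8) 1 (z8 k)) := by
  decide +kernel

/-- The even permutations commuting with the fixed-point-free involution form the model. -/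
theorem exists_toP {q : Perm (Fin 8)} (hs : Perm.sign q = 1) (hc : Commute q z8) :
    ∃ v, V.toP v = q := by
  obtain ⟨f1, f2, f3, f4⟩ := z8_facts
  have hq : ∀ i, q (z8 i) = z8 (q i) := fun i => Equiv.ext_iff.1 hc.eq i
  have hne : ∀ i j : Fin 8, i.val / 2 ≠ j.val / 2 → (q i).val / 2 ≠ (q j).val / 2 := by
    intro i j hij e
    rcases f2 _ _ e with h | h
    · exact hij (by rw [q.injective h])
    · rw [← hq] at h
      exact hij (by rw [q.injective h, (f1 i).1])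
  obtain ⟨v, e, h0, h2, h4, h6⟩ := quad_table (q 0) (q 2) (hne 2 0 (by decide)) (q 4)
    (hne 4 0 (by decide)) (hne 4 2 (by decide)) (q 6) (hne 6 0 (by decide)) (hne 6 2 (by decide))
    (hne 6 4 (by decide))
  set t : Perm (Fin 8) := cond e (Equiv.swap (0 : Fin 8) 1) 1 with ht
  have hπ : ∀ k, (V.toP v * t) k = V.act v (cond e (Equiv.swap (0 : Fin 8) 1 k) k) := fun k => by
    cases e <;> rfl
  have hcπ : ∀ k, (V.toP v * t) (z8 k) = z8 ((V.toP v * t) k) := by
    intro k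
    have h1 : t (z8 k) = z8 (t k) := by
      cases e
      · rfl
      · exact (f4 k).symm
    show V.toP v (t (z8 k)) = z8 (V.toP v (t k))
    rw [h1]
    exact Equiv.ext_iff.1 (show V.toP v * z8 = z8 * V.toP v by
      rw [z8, ← V.toP_mul, ← V.toP_mul, V.zV_central]) (t k)
  have heq : V.toP v * t = q := by
    have hk : ∀ k ∈ ([0, 2, 4, 6] : List (Fin 8)), (V.toP v * t) k = q k := by
      intro k hk
      rw [hπ]
      simp only [List.mem_cons, List.not_mem_nil, or_false] at hk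
      rcases hk with rfl | rfl | rfl | rfl
      exacts [h0, h2, h4, h6]
    refine Equiv.ext fun i => ?_
    obtain ⟨k, hkm, rfl | rfl⟩ := f3 i
    · exact hk _ hkm
    · rw [hcπ, hq, hk _ hkm]
  cases e
  · exact ⟨v, by rw [← heq]; exact (mul_one _).symm⟩
  · exfalso
    rw [← heq, map_mul, V_even, one_mul, show t = Equiv.swap (0 : Fin 8) 1 from rfl,
      Perm.sign_swap (by decide)] at hs
    exact absurd hs (by decide)

/-- An even permutation fixing the points from eight on and commuting with the extended involution. -/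
theorem exists_ext8 {m : ℕ} (h : 8 ≤ m) {p : Perm (Fin m)} (hs : Perm.sign p = 1)
    (hfix : ∀ i : Fin m, 8 ≤ i.val → p i = i) (hc : Commute p (ext8 h z8)) :
    ∃ v, ext8 h (V.toP v) = p := by
  have hlt : ∀ i : Fin 8, (p (Fin.castLE h i)).val < 8 := fun i => by
    by_contra hge
    have := p.injective (hfix _ (not_lt.1 hge))
    exact hge (by rw [this]; exact i.isLt)
  let f : Fin 8 → Fin 8 := fun i => ⟨(p (Fin.castLE h i)).val, hlt i⟩
  have hf : Function.Injective f := fun i j e => by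
    exact Fin.castLE_injective h (p.injective (Fin.ext (congrArg Fin.val e :)))
  let q : Perm (Fin 8) := Equiv.ofBijective f (Finite.injective_iff_bijective.1 hf)
  have hq : ext8 h q = p := Equiv.ext fun i => by
    by_cases hi : i.val < 8
    · rw [ext8_lt h q hi]; exact Fin.ext rfl
    · rw [ext8_ge h q (not_lt.1 hi), hfix i (not_lt.1 hi)]
  obtain ⟨v, hv⟩ := exists_toP (q := q) (by rw [← sign_ext8 h, hq, hs])
    (ext8_inj h (by rw [map_mul, map_mul, hq]; exact hc.eq))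
  exact ⟨v, by rw [hv, hq]⟩

theorem moved_eq : ∀ v : V, (V.toP v).support.card = moved v := by decide +kernel

theorem four_facts : (∀ x : V, x * x * x = 1 → x ≠ 1 → ∀ p : V, p * p = 1 → p * x = x * p →
      p = 1 ∨ p = V.zV) ∧
    (∃ g : V, g * aV1 * g⁻¹ = bV1) ∧ (∃ g : V, g * bV1 * g⁻¹ = cV1) ∧
    (∃ x y : V, x * y * x⁻¹ * y⁻¹ = uV) ∧
    (∀ v : V, v * v = 1 → v ≠ 1 → v = V.zV ∨ ∃ g : V,
      v * (g * v * g⁻¹) = V.zV ∨ ∃ h : V, v * (g * v * g⁻¹) * (h * (v * (g * v * g⁻¹)) * h⁻¹) = V.zV) ∧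
    (∃ g : V, g * (uV * cV1) * g⁻¹ * (uV * cV1) ≠ uV * cV1 * (g * (uV * cV1) * g⁻¹)) ∧
    2 ≤ V.ty (aV1 * cV1) ∧ V.ty (aV1 * cV1) ≤ 4 := by
  refine ⟨?_, ?_, ?_, ?_, ?_, ?_, ?_, ?_⟩ <;> decide +kernel

/-- An involution of an alternating group of degree eight or nine moves four or eight points. -/
theorem support_cases {m : ℕ} (h9 : m ≤ 9) {p : Perm (Fin m)} (hs : Perm.sign p = 1) (h2 : orderOf p = 2) :
    (p.cycleType = Multiset.replicate 2 2 ∧ p.support.card = 4) ∨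
      (p.cycleType = Multiset.replicate 4 2 ∧ p.support.card = 8) := by
  obtain ⟨n, hn⟩ := Perm.cycleType_prime_order (by rw [h2]; exact Nat.prime_two)
  rw [h2] at hn
  have hcard := Perm.sum_cycleType p
  rw [hn, Multiset.sum_replicate, smul_eq_mul] at hcard
  have hle : p.support.card ≤ 9 := le_trans (Finset.card_le_univ _) (by simpa using h9)
  rw [Perm.sign_of_cycleType, hn, Multiset.sum_replicate, Multiset.card_replicate, smul_eq_mul] at hs
  have hn4 : n + 1 ≤ 4 := by omega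
  rcases n with _ | _ | _ | _ | n
  · exact absurd hs (by decide)
  · exact Or.inl ⟨hn, by omega⟩
  · exact absurd hs (by decide)
  · exact Or.inr ⟨hn, by omega⟩
  · omega

theorem order_z8 : orderOf z8 = 2 ∧ orderOf (V.toP uV) = 2 ∧ z8.support.card = 8 ∧
    (V.toP uV).support.card = 4 := by
  refine ⟨orderOf_eq_prime (by decide +kernel) (by decide +kernel),
    orderOf_eq_prime (by decide +kernel) (by decide +kernel), ?_, ?_⟩ <;> decide +kernel

/-- An involution moving eight points is the standard one up to an even relabelling. -/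
theorem exists_even_conj {m : ℕ} (h : 8 ≤ m) (h9 : m ≤ 9) {p : Perm (Fin m)} (hs : Perm.sign p = 1)
    (h2 : orderOf p = 2) (h8 : p.support.card = 8) :
    ∃ σ : Perm (Fin m), Perm.sign σ = 1 ∧ σ * ext8 h z8 * σ⁻¹ = p := by
  have hz : (ext8 h z8).cycleType = Multiset.replicate 4 2 := by
    rcases support_cases h9 (p := ext8 h z8) (by rw [sign_ext8]; exact V_even _)
      (by rw [orderOf_injective _ (ext8_inj h)]; exact order_z8.1) with ⟨-, hc⟩ | ⟨hc, -⟩
    · rw [card_support_ext8, order_z8.2.2.1] at hc; omega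
    · exact hc
  have hp : p.cycleType = Multiset.replicate 4 2 := by
    rcases support_cases h9 hs h2 with ⟨-, hc⟩ | ⟨hc, -⟩
    · omega
    · exact hc
  obtain ⟨σ, hσ⟩ := isConj_iff.1 (Perm.isConj_iff_cycleType_eq.2 (hz.trans hp.symm))
  rcases Int.units_eq_one_or (Perm.sign σ) with e | e
  · exact ⟨σ, e, hσ⟩
  refine ⟨σ * ext8 h (Equiv.swap 0 1), ?_, ?_⟩
  · rw [map_mul, e, sign_ext8, Perm.sign_swap (by decide)]; rfl
  · have hc : ext8 h (Equiv.swap 0 1) * ext8 h z8 = ext8 h z8 * ext8 h (Equiv.swap 0 1) := by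
      rw [← map_mul, ← map_mul]
      exact congrArg _ (Equiv.ext fun k => (z8_facts.2.2.2 k).symm)
    rw [mul_assoc σ, hc, mul_inv_rev, show σ * (ext8 h z8 * ext8 h (Equiv.swap 0 1)) *
      ((ext8 h (Equiv.swap 0 1))⁻¹ * σ⁻¹) = σ * ext8 h z8 * σ⁻¹ by group, hσ]

theorem exists_conj_four {m : ℕ} (h : 8 ≤ m) (h9 : m ≤ 9) {p : Perm (Fin m)} (hs : Perm.sign p = 1)
    (h2 : orderOf p = 2) (h4 : p.support.card = 4) :
    ∃ σ : Perm (Fin m), σ * ext8 h (V.toP uV) * σ⁻¹ = p := by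
  refine isConj_iff.1 (Perm.isConj_iff_cycleType_eq.2 ?_)
  rcases support_cases h9 (p := ext8 h (V.toP uV)) (by rw [sign_ext8, V_even])
    (by rw [orderOf_injective _ (ext8_inj h)]; exact order_z8.2.1) with ⟨hc, -⟩ | ⟨-, hc⟩
  swap
  · rw [card_support_ext8, order_z8.2.2.2] at hc; omega
  rcases support_cases h9 hs h2 with ⟨hc', -⟩ | ⟨-, hc'⟩
  · exact hc.trans hc'.symm
  · omega

end Cfsg.Agent.A12Type
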