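import Cfsg.Agent.A12Type.Model

/-!
A Sylow 2-subgroup of the model centralizer: it has a single elementary abelian subgroup of order
sixty-four, its involutions are conjugate into that subgroup, and the central involution is no square.
-/

set_option autoImplicit false
set_option maxRecDepth 100000
set_option maxHeartbeats 1000000

namespace Cfsg.Agent.A12Type

open Equiv Subgroup

/-- A flip-or-swap of a block as an element. -/
def ge (k : Fin 3) : C12 := ⟨eP k, gen_mem.1 k⟩

/-- A swap of a block as an element. -/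
def gf (k : Fin 3) : C12 := ⟨fP k, gen_mem.2.1 k⟩

/-- An additional generator as an element. -/
def gh (k : Fin 3) : C12 := ⟨hP k, gen_mem.2.2 k⟩

/-- The generators of the Sylow subgroup. -/
def sgens : List C12 := [ge 0, gf 0, ge 1, gf 1, ge 2, gf 2, gh 0, gh 1, gh 2]

/-- The Sylow subgroup. -/
def S12 : Subgroup C12 := Subgroup.closure {x | x ∈ sgens}

/-- The code of the `n`-th coset representative of the elementary subgroup. -/
def repc (n : ℕ) : ℕ :=
  mulc (mulc (if n % 2 = 0 then onec else enc (hP 0)) (if n / 2 % 2 = 0 then onec else enc (hP 1)))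
    (if n / 4 % 2 = 0 then onec else enc (hP 2))

/-- The codes of the Sylow subgroup. -/
def scodes : List ℕ := (List.range 8).flatMap fun n => jcodes.map fun c => mulc c (repc n)

/-- The involution codes of the Sylow subgroup. -/
def sinv : List ℕ := scodes.filter fun c => mulc c c == onec

/-- The codes commuting with at least sixty-four codes of a list. -/
def prune (l : List ℕ) : List ℕ := l.filter fun c => decide (64 ≤ l.countP (commc c))

/-- Permutations conjugating the involutions of the Sylow subgroup into the elementary subgroup. -/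
def wit : Fin 7 → Perm (Fin 12) :=
  ![1, swap 2 4 * swap 3 5, swap 0 4 * swap 1 5, swap 6 8 * swap 7 9, swap 0 8 * swap 1 9,
    swap 0 10 * swap 1 11, swap 4 8 * swap 5 9]

theorem wit_mem (i : Fin 7) : wit i ∈ C12 := by
  refine mem_C12 ?_ ((by decide +kernel : ∀ i k, wit i (tcP k) = tcP (wit i k)) i)
  fin_cases i <;> simp [wit, Perm.sign_mul, Perm.sign_swap, Fin.ext_iff]

theorem scode_facts :
    (scodes.all fun c => let d := mulc c c; let e := mulc d d; let f := mulc e e;
      mulc f f == onec && d != enc tcP) = true ∧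
    scodes.Nodup ∧
    (sinv.all fun c => (List.finRange 7).any fun i =>
      jcodes.elem (mulc (mulc (enc (wit i)) c) (enc (wit i)))) = true ∧
    (∀ i, wit i * wit i = 1) := by
  decide +kernel

theorem prune_facts : (prune (prune sinv)).all (fun c => jcodes.elem c) = true := by
  decide +kernel

/-- The coset representatives. -/
def rep (n : ℕ) : C12 :=
  (if n % 2 = 0 then 1 else gh 0) * (if n / 2 % 2 = 0 then 1 else gh 1) *
    (if n / 4 % 2 = 0 then 1 else gh 2)

theorem enc_rep (n : ℕ) : enc (rep n : Perm (Fin 12)) = repc n := by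
  have key : ∀ (b : Prop) [Decidable b] (k : Fin 3),
      enc (((if b then (1 : C12) else gh k) : C12) : Perm (Fin 12)) = if b then onec else enc (hP k) := by
    intro b _ k
    by_cases hb : b
    · rw [if_pos hb, if_pos hb]; exact enc_one
    · rw [if_neg hb, if_neg hb]; rfl
  show enc ((_ * _ : Perm (Fin 12)) * _) = _
  rw [enc_mul (mul_mem (Subtype.coe_prop _) (Subtype.coe_prop _)) (Subtype.coe_prop _),
    enc_mul (Subtype.coe_prop _) (Subtype.coe_prop _), key, key, key]
  rfl

theorem enc_el_rep (j : Fin 64) (n : ℕ) :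
    enc ((el j * rep n : C12) : Perm (Fin 12)) = mulc (jcodes.getD j.val 0) (repc n) := by
  show enc ((el j : Perm (Fin 12)) * (rep n : Perm (Fin 12))) = _
  rw [enc_mul (el j).2 (rep n).2, show (el j : Perm (Fin 12)) = elP j from rfl, enc_elP, enc_rep]

theorem coset_table :
    ([enc (eP 0), enc (fP 0), enc (eP 1), enc (fP 1), enc (eP 2), enc (fP 2), enc (hP 0), enc (hP 1),
      enc (hP 2)].all fun g => (List.range 8).all fun n => (List.range 8).any fun m =>
        (List.range 64).any fun j => mulc (repc n) g == mulc (jcodes.getD j 0) (repc m)) = true := by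
  decide +kernel

theorem repc_zero : repc 0 = onec := by decide +kernel

theorem exists_coset_gen {g : C12} (hg : g ∈ sgens) (n : Fin 8) :
    ∃ (j : Fin 64) (m : Fin 8), rep n * g = el j * rep m := by
  have hmem : enc (g : Perm (Fin 12)) ∈ [enc (eP 0), enc (fP 0), enc (eP 1), enc (fP 1), enc (eP 2),
      enc (fP 2), enc (hP 0), enc (hP 1), enc (hP 2)] := by
    simp only [sgens, List.mem_cons, List.not_mem_nil, or_false] at hg
    rcases hg with rfl | rfl | rfl | rfl | rfl | rfl | rfl | rfl | rfl <;>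
      simp [ge, gf, gh]
  obtain ⟨m, hm, h⟩ := List.any_eq_true.1
    (List.all_eq_true.1 (List.all_eq_true.1 coset_table _ hmem) _ (List.mem_range.2 n.isLt))
  obtain ⟨j, hj, h⟩ := List.any_eq_true.1 h
  refine ⟨⟨j, List.mem_range.1 hj⟩, ⟨m, List.mem_range.1 hm⟩,
    Subtype.ext (enc_inj (rep n * g).2 (el _ * rep m).2 ?_)⟩
  rw [beq_iff_eq] at h
  refine Eq.trans ?_ (h.trans (enc_el_rep ⟨j, List.mem_range.1 hj⟩ m).symm)
  show enc ((rep n : Perm (Fin 12)) * (g : Perm (Fin 12))) = _
  rw [enc_mul (rep n).2 g.2, enc_rep]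

theorem exists_coset {x : C12} (hx : x ∈ S12) :
    ∀ n : Fin 8, ∃ (j : Fin 64) (m : Fin 8), rep n * x = el j * rep m := by
  induction hx using Subgroup.closure_induction'' with
  | one => intro n; exact ⟨0, n, by rw [el_zero, mul_one, one_mul]⟩
  | mem g hg => exact exists_coset_gen hg
  | inv_mem g hg =>
    have hinv : g⁻¹ = g := by
      have : ∀ k, eP k * eP k = 1 ∧ fP k * fP k = 1 ∧ hP k * hP k = 1 := by decide +kernel
      refine inv_eq_of_mul_eq_one_right (Subtype.ext ?_)
      have hg : g ∈ sgens := hg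
      simp only [sgens, List.mem_cons, List.not_mem_nil, or_false] at hg
      rcases hg with rfl | rfl | rfl | rfl | rfl | rfl | rfl | rfl | rfl
      · exact (this 0).1
      · exact (this 0).2.1
      · exact (this 1).1
      · exact (this 1).2.1
      · exact (this 2).1
      · exact (this 2).2.1
      · exact (this 0).2.2
      · exact (this 1).2.2
      · exact (this 2).2.2
    rw [hinv]
    exact exists_coset_gen hg
  | mul a b _ _ ha hb =>
    intro n
    obtain ⟨j, m, h⟩ := ha n
    obtain ⟨j', m', h'⟩ := hb m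
    exact ⟨xr j j', m', by rw [← mul_assoc, h, mul_assoc, h', ← mul_assoc, el_mul]⟩

theorem enc_mem_scodes {x : C12} (hx : x ∈ S12) :
    enc (x : Perm (Fin 12)) ∈ scodes := by
  obtain ⟨j, m, h⟩ := exists_coset hx 0
  have h0 : rep ((0 : Fin 8) : ℕ) = 1 := by simp [rep]
  rw [h0, one_mul] at h
  rw [h, enc_el_rep]
  simp only [scodes, List.mem_flatMap, List.mem_map, List.mem_range]
  refine ⟨m, m.isLt, _, ?_, rfl⟩
  rw [← enc_elP]
  exact List.mem_map.2 ⟨j, List.mem_range.2 j.isLt, by congr; exact Fin.ext (by simp [Nat.mod_eq_of_lt j.isLt])⟩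

theorem el_mem_S12 (j : Fin 64) : el j ∈ S12 := by
  have h : ∀ g ∈ sgens, g ∈ S12 := fun g hg => Subgroup.subset_closure hg
  have e : el j = ge 0 ^ (j.val % 2) * gf 0 ^ (j.val / 2 % 2) *
      (ge 1 ^ (j.val / 4 % 2) * gf 1 ^ (j.val / 8 % 2)) *
        (ge 2 ^ (j.val / 16 % 2) * gf 2 ^ (j.val / 32 % 2)) := Subtype.ext (by
    simp [el, elP, ge, gf, SubmonoidClass.coe_pow])
  rw [e]
  exact mul_mem (mul_mem (mul_mem (pow_mem (h _ (by simp [sgens])) _) (pow_mem (h _ (by simp [sgens])) _))
    (mul_mem (pow_mem (h _ (by simp [sgens])) _) (pow_mem (h _ (by simp [sgens])) _)))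
    (mul_mem (pow_mem (h _ (by simp [sgens])) _) (pow_mem (h _ (by simp [sgens])) _))

theorem J12_le_S12 : J12 ≤ S12 := by rintro _ ⟨j, rfl⟩; exact el_mem_S12 j

theorem exists_of_scode {c : ℕ} (hc : c ∈ scodes) :
    ∃ x ∈ S12, enc (x : Perm (Fin 12)) = c := by
  simp only [scodes, List.mem_flatMap, List.mem_map, List.mem_range] at hc
  obtain ⟨n, hn, c', hc', rfl⟩ := hc
  simp only [jcodes, List.mem_map, List.mem_range] at hc'
  obtain ⟨m, hm, rfl⟩ := hc'
  have key : ∀ (b : Prop) [Decidable b] (k : Fin 3), (if b then (1 : C12) else gh k) ∈ S12 := by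
    intro b _ k
    split_ifs
    · exact one_mem _
    · refine Subgroup.subset_closure ?_
      show gh k ∈ sgens
      fin_cases k <;> simp [sgens]
  refine ⟨el (Fin.ofNat 64 m) * rep n, mul_mem (el_mem_S12 _) (mul_mem (mul_mem (key _ _) (key _ _)) (key _ _)), ?_⟩
  rw [enc_el_rep, ← enc_elP]

theorem card_S12 : Nat.card S12 = 512 := by
  classical
  let g : S12 → {c // c ∈ scodes} := fun x => ⟨_, enc_mem_scodes x.2⟩
  have hg : Function.Bijective g := by
    refine ⟨fun x y h => Subtype.ext (Subtype.ext (enc_inj x.1.2 y.1.2 (congrArg Subtype.val h))), ?_⟩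
    rintro ⟨c, hc⟩
    obtain ⟨x, hx, e⟩ := exists_of_scode hc
    exact ⟨⟨x, hx⟩, Subtype.ext e⟩
  rw [Nat.card_eq_of_bijective g hg,
    Nat.card_congr (List.Nodup.getEquiv scodes scode_facts.2.1).symm, Nat.card_eq_fintype_card,
    Fintype.card_fin]
  have : scodes.length = 512 := by simp [scodes, jcodes]
  exact this

theorem cycleType_tcP : (tcP).cycleType = Multiset.replicate 6 2 := by
  have ho : orderOf tcP = 2 := orderOf_eq_prime (by decide +kernel) (by decide +kernel)
  obtain ⟨n, hn⟩ := Perm.cycleType_prime_order (σ := tcP) (by rw [ho]; exact Nat.prime_two)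
  rw [ho] at hn
  have hs : tcP.support.card = 12 := by decide +kernel
  rw [← Perm.sum_cycleType, hn, Multiset.sum_replicate, smul_eq_mul] at hs
  rw [hn, show n + 1 = 6 by omega]

theorem card_C12_dvd : Nat.card C12 ∣ 23040 := by
  have hcard : Nat.card (Subgroup.centralizer ({tcP} : Set (Perm (Fin 12)))) = 46080 := by
    rw [Perm.nat_card_centralizer, cycleType_tcP]
    norm_num [Multiset.toFinset_replicate, Multiset.count_replicate, Nat.factorial]
  have hle : C12 ≤ Subgroup.centralizer ({tcP} : Set (Perm (Fin 12))) := inf_le_right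
  have hne : C12.relIndex (Subgroup.centralizer ({tcP} : Set (Perm (Fin 12)))) ≠ 1 := by
    intro h
    have hs : swap (0 : Fin 12) 1 ∈ C12 := Subgroup.relIndex_eq_one.1 h
      (mem_centralizer_singleton_iff.2 (by decide +kernel))
    have := Perm.mem_alternatingGroup.1 (Subgroup.mem_inf.1 hs).1
    rw [Perm.sign_swap (by decide)] at this
    exact absurd this (by decide)
  have h2 : C12.relIndex (Subgroup.centralizer ({tcP} : Set (Perm (Fin 12)))) ∣ 2 := by
    rw [Subgroup.inf_relIndex_right]
    have := Subgroup.relIndex_dvd_index_of_normal (alternatingGroup (Fin 12))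
      (Subgroup.centralizer ({tcP} : Set (Perm (Fin 12))))
    rwa [alternatingGroup.index_eq_two] at this
  have hmul := Subgroup.relIndex_mul_relIndex ⊥ C12 _ bot_le hle
  rw [Subgroup.relIndex_bot_left, Subgroup.relIndex_bot_left] at hmul
  rw [(Nat.dvd_prime Nat.prime_two).1 h2 |>.resolve_left hne, hcard] at hmul
  exact dvd_of_eq (by omega)

theorem isPGroup_S12 : IsPGroup 2 S12 := IsPGroup.of_card (n := 9) (by rw [card_S12]; norm_num)

/-- The Sylow subgroup is one. -/
theorem exists_sylow_S12 : ∃ P : Sylow 2 C12, (P : Subgroup C12) = S12 := by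
  have : Fact (Nat.Prime 2) := ⟨Nat.prime_two⟩
  have hidx : ¬ 2 ∣ S12.index := by
    intro h
    have hm := S12.card_mul_index
    rw [card_S12] at hm
    obtain ⟨q, hq⟩ := h
    obtain ⟨r, hr⟩ := card_C12_dvd
    rw [hq] at hm
    have h10 : 1024 ∣ 23040 := ⟨q * r, by rw [hr, ← hm]; ring⟩
    norm_num at h10
  exact ⟨isPGroup_S12.toSylow hidx, rfl⟩

theorem jcodes_mem {x : C12} (h : enc (x : Perm (Fin 12)) ∈ jcodes) : x ∈ J12 := by
  simp only [jcodes, List.mem_map, List.mem_range] at h
  obtain ⟨n, -, hn⟩ := h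
  exact ⟨Fin.ofNat 64 n, Subtype.ext (enc_inj (elP_mem _) x.2 hn)⟩

theorem tc_not_sq {x : C12} (hx : x ∈ S12) : x * x ≠ tc := by
  intro h
  have hh := List.all_eq_true.1 scode_facts.1 _ (enc_mem_scodes hx)
  simp only [Bool.and_eq_true, bne_iff_ne, ne_eq] at hh
  refine hh.2 ?_
  rw [← enc_mul x.2 x.2]
  exact congrArg (fun y : C12 => enc (y : Perm (Fin 12))) h

theorem mem_sinv {x : C12} (hx : x ∈ S12) (hxx : x * x = 1) :
    enc (x : Perm (Fin 12)) ∈ sinv := by
  refine List.mem_filter.2 ⟨enc_mem_scodes hx, ?_⟩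
  rw [beq_iff_eq, ← enc_mul x.2 x.2, ← enc_one]
  exact congrArg (fun y : C12 => enc (y : Perm (Fin 12))) hxx

/-- An elementary abelian subgroup of order at least sixty-four is contained in the one given. -/
theorem le_J12 {K : Subgroup C12} (hK : K ≤ S12) (h2 : ∀ x ∈ K, x * x = 1)
    (hcard : 64 ≤ Nat.card K) : K ≤ J12 := by
  classical
  have step : ∀ l : List ℕ, (∀ x ∈ K, enc (x : Perm (Fin 12)) ∈ l) →
      ∀ x ∈ K, enc (x : Perm (Fin 12)) ∈ prune l := by
    intro l hl x hx
    refine List.mem_filter.2 ⟨hl x hx, decide_eq_true ?_⟩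
    let g : K → {c // c ∈ l.filter (commc (enc (x : Perm (Fin 12))))} := fun y =>
      ⟨_, List.mem_filter.2 ⟨hl y.1 y.2, (commute_iff x.2 y.1.2).1 (by
        have e1 := h2 _ (mul_mem hx y.2)
        have e2 := h2 _ hx
        have e3 := h2 _ y.2
        have : Commute x y.1 := by
          show x * y.1 = y.1 * x
          calc x * y.1 = (x * y.1)⁻¹ := (inv_eq_of_mul_eq_one_right e1).symm
            _ = y.1 * x := by
              rw [mul_inv_rev, inv_eq_of_mul_eq_one_right e2, inv_eq_of_mul_eq_one_right e3]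
        exact congrArg Subtype.val this.eq)⟩⟩
    have hinj : Function.Injective g := fun a b h =>
      Subtype.ext (Subtype.ext (enc_inj a.1.2 b.1.2 (congrArg Subtype.val h)))
    have hle := Nat.card_le_card_of_injective g hinj
    have h3 : Nat.card {c // c ∈ l.filter (commc (enc (x : Perm (Fin 12))))} ≤
        l.countP (commc (enc (x : Perm (Fin 12)))) := by
      rw [List.countP_eq_length_filter, Nat.card_eq_fintype_card]
      rw [Fintype.card_of_subtype (l.filter (commc (enc (x : Perm (Fin 12))))).toFinset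
        (fun c => List.mem_toFinset)]
      exact List.toFinset_card_le _
    omega
  intro x hx
  exact jcodes_mem (List.elem_iff.1 (List.all_eq_true.1 prune_facts _
    (step _ (step _ fun y hy => mem_sinv (hK hy) (h2 y hy)) x hx)))

/-- Every involution of the Sylow subgroup is conjugate into the elementary subgroup. -/
theorem exists_conj_J12 {x : C12} (hx : x ∈ S12) (hxx : x * x = 1) :
    ∃ g : C12, g * x * g⁻¹ ∈ J12 := by
  obtain ⟨i, -, hi⟩ := List.any_eq_true.1
    (List.all_eq_true.1 scode_facts.2.2.1 _ (mem_sinv hx hxx))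
  refine ⟨⟨wit i, wit_mem i⟩, jcodes_mem ?_⟩
  rw [List.elem_iff] at hi
  show enc (wit i * (x : Perm (Fin 12)) * (wit i)⁻¹) ∈ jcodes
  rw [inv_eq_of_mul_eq_one_right (scode_facts.2.2.2 i),
    enc_mul (mul_mem (wit_mem i) x.2) (wit_mem i), enc_mul (wit_mem i) x.2]
  exact hi

end Cfsg.Agent.A12Type
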